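import Groth.Agent.Lib.MultLift.KernelType
import Groth.Agent.Lib.MultLocal.DualPoints
import Mathlib.RingTheory.TotallySplit
import Mathlib.RingTheory.RingHom.Etale
import Mathlib.RingTheory.Flat.Localization
import Mathlib.RingTheory.Finiteness.ModuleFinitePresentation

/-!
The dual of a finite group of multiplicative type is etale; etale dual gives isotrivial over a connected base.
-/

universe u

set_option linter.style.haveILetI false
set_option maxSynthPendingDepth 3

open TensorProduct MonoidAlgebra WithConv

namespace GrothLib.MultLift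

open GrothLib.MultLocal

section BC

variable {R : Type u} [CommRing R] {A : Type u} [CommRing A] [HopfAlgebra R A] [Coalgebra.IsCocomm R A]
  (T : Type u) [CommRing T] [Algebra R T]

/-- Extension of a functional. -/
noncomputable def extD (φ : CartDual.D R A) : CartDual.D T (T ⊗[R] A) :=
  toConv ((AlgebraTensorModule.rid R T T).toLinearMap ∘ₗ φ.ofConv.baseChange T)

theorem extD_tmul (φ : CartDual.D R A) (t : T) (a : A) : (extD T φ).ofConv (t ⊗ₜ a) = φ.ofConv a • t := by
  simp [extD]

theorem extD_mul (φ ψ : CartDual.D R A) : extD T (φ * ψ) = extD T φ * extD T ψ := by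
  refine WithConv.ext (LinearMap.ext fun y => ?_)
  induction y using TensorProduct.induction_on with
  | zero => simp
  | add x y hx hy => simp only [map_add, hx, hy]
  | tmul t a =>
    rw [extD_tmul]
    change ((φ * ψ) a) • t = (extD T φ * extD T ψ) (t ⊗ₜ[R] a)
    rw [LinearMap.convMul_apply, LinearMap.convMul_apply, TensorProduct.comul_tmul, CommSemiring.comul_apply]
    induction Coalgebra.comul (R := R) a using TensorProduct.induction_on with
    | zero => simp
    | add x y hx hy => simp only [tmul_add, map_add, add_smul, hx, hy]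
    | tmul x y =>
      simp [extD_tmul, Algebra.smul_def, mul_comm, mul_assoc, mul_left_comm]

theorem extD_one : extD T (1 : CartDual.D R A) = 1 := by
  refine WithConv.ext (LinearMap.ext fun y => ?_)
  induction y using TensorProduct.induction_on with
  | zero => simp
  | add x y hx hy => simp only [map_add, hx, hy]
  | tmul t a =>
    rw [extD_tmul]
    change ((1 : CartDual.D R A) a) • t = (1 : CartDual.D T (T ⊗[R] A)) (t ⊗ₜ[R] a)
    rw [LinearMap.convOne_apply, LinearMap.convOne_apply, TensorProduct.counit_tmul, CommSemiring.counit_apply]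
    simp [Algebra.smul_def, mul_comm]

instance isScalarTower_dual : IsScalarTower R T (CartDual.D T (T ⊗[R] A)) :=
  IsScalarTower.of_algebraMap_smul fun r x => WithConv.ext (LinearMap.ext fun y => by simp)

/-- The base change map of dual algebras. -/
noncomputable def dualBC : T ⊗[R] CartDual.D R A →ₐ[T] CartDual.D T (T ⊗[R] A) :=
  Algebra.TensorProduct.lift (Algebra.ofId T _)
    ({ toFun := extD T
       map_one' := extD_one T
       map_mul' := extD_mul T
       map_zero' := WithConv.ext (LinearMap.ext fun y => by
         induction y using TensorProduct.induction_on with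
         | zero => simp
         | add x y hx hy => simp only [map_add, hx, hy]
         | tmul t a => simp [extD_tmul])
       map_add' := fun φ ψ => WithConv.ext (LinearMap.ext fun y => by
         induction y using TensorProduct.induction_on with
         | zero => simp
         | add x y hx hy => simp only [map_add, hx, hy]
         | tmul t a => simp [extD_tmul, add_smul])
       commutes' := fun r => by
         rw [Algebra.algebraMap_eq_smul_one, IsScalarTower.algebraMap_apply R T (CartDual.D T (T ⊗[R] A)),
           Algebra.algebraMap_eq_smul_one (algebraMap R T r), ← extD_one T]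
         refine WithConv.ext (LinearMap.ext fun y => ?_)
         induction y using TensorProduct.induction_on with
         | zero => simp
         | add x y hx hy => simp only [map_add, hx, hy]
         | tmul t a => simp [extD_tmul, mul_smul, algebraMap_smul] } : CartDual.D R A →ₐ[R] CartDual.D T (T ⊗[R] A))
    fun _ _ => Commute.all _ _

theorem dualBC_tmul (t : T) (φ : CartDual.D R A) : dualBC T (t ⊗ₜ[R] φ) = t • extD T φ := by
  rw [dualBC, Algebra.TensorProduct.lift_tmul, Algebra.ofId_apply, ← Algebra.smul_def]
  rfl

theorem dualBC_bijective [Module.Finite R A] [Module.Projective R A] : Function.Bijective (dualBC (R := R) (A := A) T) := by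
  classical
  obtain ⟨n, f, g, -, -, hfg⟩ := Module.Finite.exists_comp_eq_id_of_projective R A
  let x : Fin n → A := fun i => f (Pi.single i 1)
  let φ : Fin n → CartDual.D R A := fun i => toConv ((LinearMap.proj i).comp g)
  have hdec : ∀ a : A, a = ∑ i, (φ i).ofConv a • x i := fun a => by
    conv_lhs => rw [← LinearMap.id_apply (R := R) a, ← hfg, LinearMap.comp_apply, pi_eq_sum_univ' (g a), map_sum]
    simp [φ, x, map_smul]
  let back : CartDual.D T (T ⊗[R] A) → T ⊗[R] CartDual.D R A := fun h => ∑ i, h.ofConv ((1 : T) ⊗ₜ x i) ⊗ₜ φ i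
  refine Function.bijective_iff_has_inverse.mpr ⟨back, fun z => ?_, fun h => ?_⟩
  · induction z using TensorProduct.induction_on with
    | zero => simp [back]
    | add a b ha hb => simp only [back, map_add, WithConv.ofConv_add, LinearMap.add_apply, add_tmul, Finset.sum_add_distrib] at ha hb ⊢; rw [ha, hb]
    | tmul t ψ =>
      have hψ : ψ = ∑ i, ψ.ofConv (x i) • φ i := WithConv.ext (LinearMap.ext fun a => by
        conv_lhs => rw [hdec a]
        simp [WithConv.ofConv_sum, LinearMap.sum_apply, mul_comm])
      conv_rhs => rw [hψ, tmul_sum]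
      refine Finset.sum_congr rfl fun i _ => ?_
      rw [dualBC_tmul, WithConv.ofConv_smul, LinearMap.smul_apply, extD_tmul, smul_eq_mul, tmul_smul, smul_tmul']
      simp [Algebra.smul_def, mul_comm]
  · refine WithConv.ext (LinearMap.ext fun y => ?_)
    induction y using TensorProduct.induction_on with
    | zero => simp
    | add a b ha hb => simp only [map_add, ha, hb]
    | tmul t a =>
      have ha : t ⊗ₜ[R] a = ∑ i, ((φ i).ofConv a • t) • ((1 : T) ⊗ₜ[R] x i) := by
        conv_lhs => rw [hdec a, tmul_sum]
        refine Finset.sum_congr rfl fun i _ => ?_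
        rw [tmul_smul, smul_tmul', smul_tmul', smul_eq_mul, _root_.mul_one]
      simp only [back, map_sum, WithConv.ofConv_sum, LinearMap.sum_apply, dualBC_tmul, WithConv.ofConv_smul,
        LinearMap.smul_apply, extD_tmul]
      conv_rhs => rw [ha, map_sum]
      refine Finset.sum_congr rfl fun i _ => ?_
      rw [map_smul, smul_eq_mul, smul_eq_mul, mul_comm]

end BC

section MultType

variable {R : Type u} [CommRing R] {A : Type u} [CommRing A] [HopfAlgebra R A]

theorem isCocomm_of_isMultType (h : SGA3b.IsMultType R A) : Coalgebra.IsCocomm R A := by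
  refine ⟨LinearMap.ext fun a => ?_⟩
  change TensorProduct.comm R A A (Coalgebra.comul a) = Coalgebra.comul a
  refine Module.eq_of_localization_maximal (fun p [p.IsMaximal] => Localization.AtPrime p ⊗[R] (A ⊗[R] A))
    (fun p [p.IsMaximal] => TensorProduct.mk R (Localization.AtPrime p) (A ⊗[R] A) 1) _ _ fun p _ => ?_
  obtain ⟨T, _, _, _, M, _, hff, -, ⟨η⟩⟩ :=
    GrothLib.Hopf.exists_local_chart (isMultType_baseChange_atPrime (A := A) h p)
  haveI := hff
  obtain ⟨g, hg⟩ := exists_frame_of_equiv η
  haveI := isCocomm_of_frame (T := T) hg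
  let B := Localization.AtPrime p
  have h1 := LinearMap.congr_fun (Coalgebra.IsCocomm.comm_comp_comul (R := B) (A := B ⊗[R] A)) ((1 : B) ⊗ₜ a)
  simp only [LinearMap.comp_apply] at h1
  rw [comul_one_tmul] at h1
  change TensorProduct.comm B (B ⊗[R] A) (B ⊗[R] A) (sqMap R A B (Coalgebra.comul a)) =
    sqMap R A B (Coalgebra.comul a) at h1
  rw [comm_sqMap] at h1
  have h2 := congrArg ((LinearMap.mul' B B).restrictScalars R |>.rTensor (A ⊗[R] A))
    ((AlgebraTensorModule.tensorTensorTensorComm R B R B B B A A).injective h1)
  simp only [LinearMap.rTensor_tmul, LinearMap.coe_restrictScalars, LinearMap.mul'_apply, _root_.mul_one] at h2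
  exact h2

theorem finitePresentation_module [Module.Finite R A] (h : SGA3b.IsMultType R A) : Module.Projective R A := by
  haveI : Algebra.FiniteType R A := inferInstance
  haveI := finitePresentation_of_isMultType h
  haveI : Module.FinitePresentation R A := Module.FinitePresentation.of_finite_of_finitePresentation R A
  haveI : Module.Flat R A := by
    refine Module.flat_of_localized_maximal (R := R) (M := A) fun p _ => ?_
    obtain ⟨T, _, _, _, M, _, hff, -, ⟨η⟩⟩ :=
      GrothLib.Hopf.exists_local_chart (isMultType_baseChange_atPrime h p)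
    haveI := hff
    let B := Localization.AtPrime p
    haveI : Module.Free T (T ⊗[B] (B ⊗[R] A)) :=
      Module.Free.of_equiv η.toAlgEquiv.toLinearEquiv.symm
    haveI : Module.Flat B (B ⊗[R] A) := Module.Flat.of_flat_tensorProduct B (B ⊗[R] A) T
    haveI : Module.Flat R (B ⊗[R] A) := Module.Flat.trans R B _
    exact Module.Flat.of_linearEquiv
      ((IsLocalizedModule.isBaseChange p.primeCompl B (LocalizedModule.mkLinearMap p.primeCompl A)).equiv.symm.restrictScalars R)
  exact Module.Flat.projective_of_finitePresentation

/-- The dual algebra of a finite group of multiplicative type is etale. -/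
theorem etale_dual_of_isMultType [Module.Finite R A] [Module.Projective R A] [Coalgebra.IsCocomm R A]
    (h : SGA3b.IsMultType R A) : Algebra.Etale R (CartDual.D R A) := by
  classical
  obtain ⟨s, hs, hloc⟩ := h
  let T : Set R := {r | Algebra.Etale (Localization.Away r) (Localization.Away r ⊗[R] CartDual.D R A)}
  have hT : Ideal.span T = ⊤ := by
    by_contra hne
    obtain ⟨p, hp, hle⟩ := Ideal.exists_le_maximal _ hne
    haveI := hp.isPrime
    obtain ⟨f, hf, hfp⟩ : ∃ f ∈ s, f ∉ p := by
      by_contra! hc
      exact hp.ne_top (top_le_iff.mp (hs ▸ Ideal.span_le.mpr hc))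
    obtain ⟨r, hr, hfree⟩ := exists_free_away A p
    have hfr : f * r ∉ p := fun h => (hp.isPrime.mem_or_mem h).elim hfp hr
    refine hfr (hle (Ideal.subset_span ?_))
    let S := Localization.Away f
    let S₁ := Localization.Away r
    let B := Localization.Away (f * r)
    obtain ⟨R', _, _, hff, M, _, ⟨d⟩⟩ := hloc f hf
    haveI := hff
    letI : Algebra R R' := Algebra.compHom R' (algebraMap R S)
    haveI : IsScalarTower R S R' := IsScalarTower.of_algebraMap_eq fun _ => rfl
    have hu : IsUnit (algebraMap R B f) ∧ IsUnit (algebraMap R B r) :=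
      IsUnit.mul_iff.mp (map_mul (algebraMap R B) f r ▸ IsLocalization.Away.algebraMap_isUnit (f * r))
    letI : Algebra S B := (IsLocalization.Away.lift (S := S) f (g := algebraMap R B) hu.1).toAlgebra
    haveI : IsScalarTower R S B := IsScalarTower.of_algebraMap_eq fun x => (IsLocalization.Away.lift_eq f _ x).symm
    letI : Algebra S₁ B := (IsLocalization.Away.lift (S := S₁) r (g := algebraMap R B) hu.2).toAlgebra
    haveI : IsScalarTower R S₁ B := IsScalarTower.of_algebraMap_eq fun x => (IsLocalization.Away.lift_eq r _ x).symm
    haveI := hfree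
    haveI : Module.Free B (B ⊗[R] A) :=
      Module.Free.of_equiv (AlgebraTensorModule.cancelBaseChange R S₁ B B A)
    let W := B ⊗[S] R'
    obtain ⟨g, hg⟩ := exists_frame_of_equiv (GrothLib.Hopf.trivOfAway S R' d)
    have hgW := (hg.map ((Algebra.TensorProduct.includeRight : R' →ₐ[S] W).restrictScalars R)).push
      (GrothLib.Hopf.cancelBaseChange R B W A).symm
    haveI : Coalgebra.IsCocomm B (B ⊗[R] A) := isCocomm_of_frame (T := W) hgW
    rcases subsingleton_or_nontrivial W with hW | hW
    · haveI : Subsingleton B := (FaithfulSMul.algebraMap_injective B W).subsingleton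
      haveI : Subsingleton (B ⊗[R] CartDual.D R A) := Module.subsingleton B _
      change Algebra.Etale B (B ⊗[R] CartDual.D R A)
      haveI : Algebra.IsFiniteSplit B (B ⊗[R] CartDual.D R A) := .of_subsingleton
      infer_instance
    · haveI : Module.Finite W (MonoidAlgebra W M) := Module.Finite.equiv hgW.equiv.symm.toAlgEquiv.toLinearEquiv
      haveI : Finite M := by
        haveI := Module.Finite.finite_basis (MonoidAlgebra.basis M W)
        assumption
      have hD := etale_dual (Module.Free.chooseBasis B (B ⊗[R] A)) hgW
      exact Algebra.Etale.of_equiv (AlgEquiv.ofBijective (dualBC (R := R) (A := A) B) (dualBC_bijective B)).symm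
  rw [← RingHom.etale_algebraMap]
  refine RingHom.Etale.ofLocalizationSpan (algebraMap R (CartDual.D R A)) T hT fun ⟨r, hr⟩ => ?_
  let B := Localization.Away r
  let D := CartDual.D R A
  letI : Algebra D (B ⊗[R] D) := Algebra.TensorProduct.rightAlgebra
  haveI : IsLocalization.Away (algebraMap R D r) (B ⊗[R] D) := by
    have h1 : IsLocalization (Algebra.algebraMapSubmonoid D (Submonoid.powers r)) (B ⊗[R] D) :=
      IsLocalization.tensorRight _ (Submonoid.powers r)
    rwa [show Algebra.algebraMapSubmonoid D (Submonoid.powers r) = Submonoid.powers (algebraMap R D r) from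
      Submonoid.map_powers _ _] at h1
  let e := IsLocalization.algEquiv (Submonoid.powers (algebraMap R D r)) (B ⊗[R] D) (Localization.Away (algebraMap R D r))
  have he : (e.toRingEquiv.toRingHom).comp (algebraMap B (B ⊗[R] D)) =
      Localization.awayMap (algebraMap R D) r := by
    refine IsLocalization.ringHom_ext (Submonoid.powers r) (RingHom.ext fun x => ?_)
    simp only [RingHom.comp_apply, Localization.awayMap, IsLocalization.Away.map, IsLocalization.map_eq]
    rw [← IsScalarTower.algebraMap_apply R B (B ⊗[R] D)]
    change e _ = _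
    rw [show algebraMap R (B ⊗[R] D) x = algebraMap D (B ⊗[R] D) (algebraMap R D x) from ?_, AlgEquiv.commutes]
    exact ((Algebra.TensorProduct.includeRight : D →ₐ[R] B ⊗[R] D).commutes x).symm
  rw [← he]
  exact RingHom.Etale.respectsIso.1 _ _ (RingHom.etale_algebraMap.mpr hr)

end MultType

section Isotrivial

variable {R : Type u} [CommRing R] [ConnectedSpace (PrimeSpectrum R)]

theorem exists_rankAtStalk_eq (M : Type u) [AddCommGroup M] [Module R M] [Module.Finite R M] [Module.Projective R M] :
    ∃ n : ℕ, Module.rankAtStalk (R := R) M = n := by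
  haveI := Module.finitePresentation_of_projective R M
  obtain ⟨p₀⟩ : Nonempty (PrimeSpectrum R) := inferInstance
  refine ⟨Module.rankAtStalk (R := R) M p₀, funext fun p => ?_⟩
  rw [Pi.natCast_apply, Nat.cast_id]
  exact Module.isLocallyConstant_rankAtStalk.apply_eq_of_preconnectedSpace p p₀

/-- A finite etale algebra over a connected base has a factor without idempotents. -/
theorem exists_connected_factor (n : ℕ) : ∀ (T : Type u) [CommRing T] [Algebra R T] [Algebra.Etale R T]
    [Module.Finite R T] [Nontrivial T], Module.rankAtStalk (R := R) T = n →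
    ∃ (E : Type u) (_ : CommRing E) (_ : Algebra R E) (_ : T →ₐ[R] E), Algebra.Etale R E ∧ Module.Finite R E ∧
      Nontrivial E ∧ ∀ e : E, IsIdempotentElem e → e = 0 ∨ e = 1 := by
  induction n using Nat.strongRec with
  | _ n ih =>
    intro T _ _ _ _ _ hn
    by_cases h : ∀ e : T, IsIdempotentElem e → e = 0 ∨ e = 1
    · exact ⟨T, _, _, AlgHom.id R T, inferInstance, inferInstance, inferInstance, h⟩
    push Not at h
    obtain ⟨e, he, he0, he1⟩ := h
    let T₁ := T ⧸ Ideal.span {e}
    let T₂ := T ⧸ Ideal.span {1 - e}
    have hnt : ∀ f : T, IsIdempotentElem f → f ≠ 1 → Nontrivial (T ⧸ Ideal.span {f}) := fun f hf h1 =>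
      Ideal.Quotient.nontrivial_iff.mpr fun h => h1 ((Ideal.span_singleton_eq_top.mp h).mul_left_cancel
        (hf.eq.trans (_root_.mul_one f).symm))
    haveI : Nontrivial T₁ := hnt e he he1
    haveI : Nontrivial T₂ := hnt _ he.one_sub (by simpa [sub_eq_self] using he0)
    haveI : IsLocalization.Away (1 - e) T₁ :=
      IsLocalization.away_of_isIdempotentElem he.one_sub
        (show RingHom.ker (algebraMap T T₁) = Ideal.span {1 - (1 - e)} by
          rw [Ideal.Quotient.algebraMap_eq, Ideal.mk_ker, sub_sub_cancel]) Ideal.Quotient.mk_surjective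
    haveI : IsLocalization.Away e T₂ :=
      IsLocalization.away_of_isIdempotentElem he
        (show RingHom.ker (algebraMap T T₂) = _ by rw [Ideal.Quotient.algebraMap_eq, Ideal.mk_ker])
        Ideal.Quotient.mk_surjective
    haveI : Algebra.Etale T T₁ := Algebra.Etale.of_isLocalizationAway (1 - e)
    haveI : Algebra.Etale T T₂ := Algebra.Etale.of_isLocalizationAway e
    haveI : Algebra.Etale R T₁ := Algebra.Etale.comp R T T₁
    haveI : Algebra.Etale R T₂ := Algebra.Etale.comp R T T₂
    haveI : Module.Flat R T₁ := inferInstance
    haveI : Module.Flat R T₂ := inferInstance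
    haveI : Module.Projective R T₁ := by
      haveI : Module.FinitePresentation R T₁ := Module.FinitePresentation.of_finite_of_finitePresentation R T₁
      exact Module.Flat.projective_of_finitePresentation
    haveI : Module.Projective R T₂ := by
      haveI : Module.FinitePresentation R T₂ := Module.FinitePresentation.of_finite_of_finitePresentation R T₂
      exact Module.Flat.projective_of_finitePresentation
    obtain ⟨n₁, hn₁⟩ := exists_rankAtStalk_eq (R := R) T₁
    obtain ⟨n₂, hn₂⟩ := exists_rankAtStalk_eq (R := R) T₂
    have hsum : n = n₁ + n₂ := by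
      obtain ⟨p⟩ : Nonempty (PrimeSpectrum R) := inferInstance
      have h1 := congrFun (Module.rankAtStalk_eq_of_equiv (R := R) (AlgEquiv.prodQuotientOfIsIdempotentElem R he
        he.one_sub (add_sub_cancel e 1) he.mul_one_sub_self).toLinearEquiv) p
      rw [Module.rankAtStalk_prod, Pi.add_apply, hn, hn₁, hn₂] at h1
      simpa using h1
    have hpos : 0 < n₂ := by
      by_contra h0
      have hsub : Subsingleton T₂ := (Module.rankAtStalk_eq_zero_iff_subsingleton (R := R)).mp (by
        rw [hn₂, Nat.eq_zero_of_not_pos h0, Nat.cast_zero])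
      exact not_subsingleton T₂ hsub
    obtain ⟨E, _, _, φ, hE⟩ := ih n₁ (by omega) T₁ hn₁
    exact ⟨E, _, _, φ.comp (Ideal.Quotient.mkₐ R _), hE⟩

variable {A : Type u} [CommRing A] [HopfAlgebra R A] [Coalgebra.IsCocomm R A]
  [Module.Finite R A] [Module.Projective R A]

/-- A finite group with etale dual over a connected base is isotrivial. -/
theorem isIsotrivial_of_etale_dual [Algebra.Etale R (CartDual.D R A)] : SGA3b.IsIsotrivial R A := by
  classical
  let D := CartDual.D R A
  obtain ⟨p₀⟩ : Nonempty (PrimeSpectrum R) := inferInstance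
  haveI : Nontrivial R := p₀.nontrivial
  obtain ⟨n, hn⟩ := exists_rankAtStalk_eq (R := R) D
  obtain ⟨T, _, _, _, _, _, hT⟩ := Algebra.IsFiniteSplit.exists_tensorProduct_of_etale (R := R) (S := D) hn
  haveI : Nontrivial T := (FaithfulSMul.algebraMap_injective R T).nontrivial
  haveI : Module.Projective R T := by
    haveI : Module.FinitePresentation R T := Module.FinitePresentation.of_finite_of_finitePresentation R T
    exact Module.Flat.projective_of_finitePresentation
  obtain ⟨m, hm⟩ := exists_rankAtStalk_eq (R := R) T
  obtain ⟨E, _, _, φ, hEe, hEf, hEn, hEc⟩ := exists_connected_factor (R := R) m T hm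
  haveI := hEe; haveI := hEf; haveI := hEn
  haveI : Module.Projective R E := by
    haveI : Module.FinitePresentation R E := Module.FinitePresentation.of_finite_of_finitePresentation R E
    exact Module.Flat.projective_of_finitePresentation
  haveI hff : Module.FaithfullyFlat R E := by
    obtain ⟨k, hk⟩ := exists_rankAtStalk_eq (R := R) E
    refine Module.FaithfullyFlat.of_comap_surjective
      ((PrimeSpectrum.rankAtStalk_pos_iff_comap_surjective).mp fun p => ?_)
    by_contra h0
    rw [hk] at h0
    have hsub : Subsingleton E := (Module.rankAtStalk_eq_zero_iff_subsingleton (R := R)).mp (by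
      rw [hk, show k = 0 by simpa using h0, Nat.cast_zero])
    exact not_subsingleton E hsub
  obtain ⟨k, ⟨s⟩⟩ := hT.nonempty_algEquiv_fun
  letI : Algebra T E := φ.toRingHom.toAlgebra
  haveI : IsScalarTower R T E := IsScalarTower.of_algebraMap_eq fun x => (φ.commutes x).symm
  let σ : E ⊗[R] D ≃ₐ[E] (Fin k → E) :=
    (Algebra.TensorProduct.cancelBaseChange R T E E D).symm.trans
      ((Algebra.TensorProduct.congr AlgEquiv.refl s).trans
        ((Algebra.TensorProduct.piScalarRight T E E (Fin k))))
  let DE := CartDual.D E (E ⊗[R] A)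
  let τ : DE ≃ₐ[E] (Fin k → E) :=
    (AlgEquiv.ofBijective (dualBC (R := R) (A := A) E) (dualBC_bijective E)).symm.trans σ
  let bD : Module.Basis (Fin k) E DE := (Pi.basisFun E (Fin k)).map τ.toLinearEquiv.symm
  haveI : Module.Free E (Module.Dual E (Module.Dual E (E ⊗[R] A))) :=
    Module.Free.of_basis ((bD.map (CartDual.toDual E (E ⊗[R] A))).dualBasis)
  haveI : Module.Free E (E ⊗[R] A) := Module.Free.of_equiv (Module.evalEquiv E (E ⊗[R] A)).symm
  let b := Module.Free.chooseBasis E (E ⊗[R] A)
  -- points of the dual are the projections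
  have hpts : ∀ h : DE →ₐ[E] E, ∃ i, ∀ x, h x = τ x i := by
    intro h
    let u : Fin k → E := fun i => h (τ.symm (Pi.single i 1))
    have hu : ∀ i j, u i * u j = if i = j then u i else 0 := fun i j => by
      simp only [u, ← map_mul]
      split_ifs with hij
      · subst hij; rw [← Pi.single_mul, _root_.mul_one]
      · rw [show (Pi.single i (1 : E) : Fin k → E) * Pi.single j 1 = 0 from funext fun l => ?_, map_zero, map_zero]
        rcases eq_or_ne l i with rfl | hl
        · simp [hij]
        · simp [hl]
    have hdec : ∀ x, h x = ∑ i, τ x i * u i := fun x => by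
      conv_lhs => rw [← τ.symm_apply_apply x, pi_eq_sum_univ' (τ x), map_sum, map_sum]
      refine Finset.sum_congr rfl fun i _ => ?_
      rw [map_smul, map_smul, smul_eq_mul]
    obtain ⟨i, hi⟩ : ∃ i, u i = 1 := by
      by_contra! hne
      have h0 : ∀ i, u i = 0 := fun i => (hEc _ ((hu i i).trans (if_pos rfl))).resolve_right (hne i)
      have h1 := hdec 1
      simp [h0] at h1
    refine ⟨i, fun x => ?_⟩
    rw [hdec, Finset.sum_eq_single i (fun j _ hj => ?_) (by simp), hi, _root_.mul_one]
    have := hu j i
    rw [if_neg hj, hi, _root_.mul_one] at this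
    rw [this, MulZeroClass.mul_zero]
  choose x hx using fun i => exists_groupLike (T := E) b ((Pi.evalAlgHom E (fun _ : Fin k => E) i).comp τ.toAlgHom)
  -- group-likes of `E ⊗[E] (E ⊗[R] A)`
  let B := E ⊗[E] (E ⊗[R] A)
  have hsurj : ∀ y : GroupLike E B, ∃ i, x i = y := fun y => by
    obtain ⟨h, hh⟩ := exists_point b y
    obtain ⟨i, hi⟩ := hpts h
    exact ⟨i, groupLike_ext_pairR b fun φ => by rw [hx, ← hh, hi]; rfl⟩
  have hinj : Function.Injective x := fun i j hij => by
    by_contra hne
    have h1 := hx i (τ.symm (Pi.single i 1))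
    rw [hij, hx] at h1
    simp [Pi.single_eq_of_ne' hne] at h1
  let g : GroupLike E B →* GroupLike E B := MonoidHom.id _
  haveI : Finite (GroupLike E B) := Finite.of_surjective x hsurj
  letI : CommGroup (GroupLike E B) := inferInstance
  have hg : IsFrame g := by
    let P : B →ₗ[E] (Fin k → E) :=
      { toFun := fun z j => GrothLib.Dual.pairR z (τ.symm (Pi.single j 1))
        map_add' := fun z w => funext fun j => GrothLib.Dual.pairR_add z w _
        map_smul' := fun r z => funext fun j => by simp [GrothLib.Dual.pairR] }
    have hP : ∀ i, P (x i).val = Pi.single i 1 := fun i => funext fun j => by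
      change GrothLib.Dual.pairR (x i).val _ = _
      rw [hx]
      simp [Pi.single_apply, eq_comm]
    have hPinj : Function.Injective P := (injective_iff_map_eq_zero P).mpr fun z hz => by
      refine (Algebra.TensorProduct.basis E b).ext_elem fun l => ?_
      rw [GrothLib.Dual.repr_eq_pairR, map_zero, Finsupp.zero_apply, ← τ.symm_apply_apply (toConv (b.coord l)),
        pi_eq_sum_univ' (τ (toConv (b.coord l))), map_sum, map_sum]
      refine Finset.sum_eq_zero fun j _ => ?_
      rw [map_smul, map_smul, show GrothLib.Dual.pairR z (τ.symm (Pi.single j 1)) = 0 from congrFun hz j, smul_zero]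
    let ρ : Fin k ≃ GroupLike E B := Equiv.ofBijective x ⟨hinj, hsurj⟩
    have hval : ∀ z, P (glHom g z) = fun i => z.coeff (x i) := by
      intro z
      induction z using MonoidAlgebra.induction_linear with
      | zero => funext i; simp
      | add a c ha hc => simp only [map_add, ha, hc]; funext i; simp
      | single q r =>
        obtain ⟨i, rfl⟩ := hsurj q
        rw [glHom_single, map_smul, MonoidHom.id_apply, hP]
        funext j
        simp [Pi.single_apply, Finsupp.single_apply, hinj.eq_iff, eq_comm]
    refine ⟨fun z w h => ?_, fun z => ⟨∑ i, single (x i) (P z i), hPinj ?_⟩⟩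
    · refine MonoidAlgebra.coeff_injective (Finsupp.ext fun q => ?_)
      obtain ⟨i, rfl⟩ := hsurj q
      exact congrFun ((hval z).symm.trans ((congrArg P h).trans (hval w))) i
    · funext j
      rw [hval]
      simp [Finsupp.single_apply, hinj.eq_iff]
  exact ⟨E, _, _, hEe, hEf, hff, GroupLike E B, inferInstance,
    ⟨(Bialgebra.TensorProduct.lid E (E ⊗[R] A)).symm.trans hg.equiv.symm⟩⟩

end Isotrivial

end GrothLib.MultLift

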