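import Groth.Agent.Lib.MultLift.DiagSub
import Mathlib.GroupTheory.FiniteAbelian.Basic
import Mathlib.RepresentationTheory.Maschke
import Mathlib.RingTheory.SimpleModule.Basic
import Mathlib.RingTheory.FiniteType

/-!
The finite levels of a group of multiplicative type are schematically dense in every basic open.
-/

universe u v

set_option linter.style.haveILetI false
set_option maxSynthPendingDepth 3

open TensorProduct MonoidAlgebra

namespace GrothLib.MultLift

open GrothLib.MultLocal

section Core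

variable {J : Type} [Fintype J]

/-- Reduction of a free group modulo `l`. -/
def redHom (J : Type) (l : ℕ) : (J → Multiplicative ℤ) →* (J → Multiplicative (ZMod l)) :=
  MonoidHom.compLeft (AddMonoidHom.toMultiplicative (Int.castAddHom (ZMod l))) J

theorem redHom_pow (l : ℕ) (x : J → Multiplicative ℤ) : redHom J l (x ^ l) = 1 := by
  funext i
  rw [map_pow, Pi.pow_apply, Pi.one_apply]
  apply Multiplicative.toAdd.injective
  rw [toAdd_pow, toAdd_one, nsmul_eq_mul, ZMod.natCast_self, zero_mul]

theorem exists_injOn_redHom (s : Finset (J → Multiplicative ℤ)) :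
    ∃ N : ℕ, ∀ l, N < l → Set.InjOn (redHom J l) s := by
  classical
  refine ⟨∑ x ∈ s, ∑ y ∈ s, ∑ i, ((x i).toAdd - (y i).toAdd).natAbs, fun l hl x hx y hy h => funext fun i => ?_⟩
  have h1 : ((x i).toAdd : ZMod l) = ((y i).toAdd : ZMod l) := congrArg Multiplicative.toAdd (congrFun h i)
  rw [eq_comm, ZMod.intCast_eq_intCast_iff_dvd_sub] at h1
  have h2 : ((x i).toAdd - (y i).toAdd).natAbs < l := lt_of_le_of_lt
    ((Finset.single_le_sum (f := fun i => ((x i).toAdd - (y i).toAdd).natAbs) (fun _ _ => Nat.zero_le _)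
      (Finset.mem_univ i)).trans ((Finset.single_le_sum (f := fun y => ∑ i, ((x i).toAdd - (y i).toAdd).natAbs)
      (fun _ _ => Nat.zero_le _) hy).trans (Finset.single_le_sum
      (f := fun x => ∑ y ∈ s, ∑ i, ((x i).toAdd - (y i).toAdd).natAbs) (fun _ _ => Nat.zero_le _) hx))) hl
  apply Multiplicative.toAdd.injective
  have := Int.eq_zero_of_dvd_of_natAbs_lt_natAbs h1 (by simpa using h2)
  omega

theorem mul_eq_zero_of_coeff_mem {L : Type*} [CommRing L] {G : Type*} [CommGroup G] {m : Ideal L} {v : MonoidAlgebra L G}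
    (hv : ∀ x ∈ m, x • v = 0) {z : MonoidAlgebra L G} (hz : ∀ g, z.coeff g ∈ m) : z * v = 0 := by
  rw [← z.sum_single, Finsupp.sum, Finset.sum_mul]
  refine Finset.sum_eq_zero fun g _ => ?_
  rw [show (single g (z.coeff g) : MonoidAlgebra L G) = z.coeff g • single g 1 by
    rw [smul_single, smul_eq_mul, _root_.mul_one], smul_mul_assoc, mul_comm, ← smul_mul_assoc, hv _ (hz g), zero_mul]

/-- Over a local ring: a product vanishing in a semisimple level up to powers vanishes there. -/
theorem mul_eq_zero_of_pow_mul {L : Type u} [CommRing L] [IsLocalRing L] {G : Type v} [CommGroup G] [Finite G]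
    (hcard : (Nat.card G : IsLocalRing.ResidueField L) ≠ 0) (a v : MonoidAlgebra L G)
    (hv : ∀ x ∈ IsLocalRing.maximalIdeal L, x • v = 0) (h : ∃ k, a ^ k * v = 0) : a * v = 0 := by
  haveI : NeZero (Nat.card G : IsLocalRing.ResidueField L) := ⟨hcard⟩
  let res := mapRingHom G (IsLocalRing.residue L)
  obtain ⟨e, he, hspan⟩ := IsSemisimpleRing.ideal_eq_span_idempotent (Ideal.span {res a})
  obtain ⟨c, hc⟩ := Ideal.mem_span_singleton'.mp (hspan.le (Ideal.mem_span_singleton_self (res a)))
  obtain ⟨d, hd⟩ := Ideal.mem_span_singleton'.mp (hspan.ge (Ideal.mem_span_singleton_self e))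
  obtain ⟨d', hd'⟩ : ∃ d', res d' = d := by
    clear hd
    induction d using MonoidAlgebra.induction_linear with
    | zero => exact ⟨0, map_zero _⟩
    | add x y hx hy =>
      obtain ⟨x', rfl⟩ := hx
      obtain ⟨y', rfl⟩ := hy
      exact ⟨x' + y', map_add _ _ _⟩
    | single g r =>
      obtain ⟨r', rfl⟩ := IsLocalRing.residue_surjective r
      exact ⟨single g r', by simp [res]⟩
  have h0 : res (a - a * a * d') = 0 := by
    rw [map_sub, map_mul, map_mul, hd', mul_assoc, mul_comm (res a) d, hd, sub_eq_zero]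
    calc res a = c * e := hc.symm
      _ = c * e * e := by rw [mul_assoc, he.eq]
      _ = res a * e := by rw [hc]
  have key : a * v = a * (a * d') * v := by
    rw [← sub_eq_zero, ← sub_mul, ← mul_assoc]
    refine mul_eq_zero_of_coeff_mem hv fun g => ?_
    rw [← IsLocalRing.residue_eq_zero_iff]
    have := congrArg (fun w => w.coeff g) h0
    simp only [res, coeff_mapRingHom, Finsupp.mapRange_apply, MonoidAlgebra.coeff_zero, Finsupp.zero_apply] at this
    exact this
  have hk : ∀ k, a * v = d' ^ k * (a * (a ^ k * v)) := by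
    intro k
    induction k with
    | zero => simp
    | succ k ih =>
      rw [ih]
      calc d' ^ k * (a * (a ^ k * v)) = d' ^ k * a ^ k * (a * v) := by ring
        _ = d' ^ k * a ^ k * (a * (a * d') * v) := by rw [← key]
        _ = d' ^ (k + 1) * (a * (a ^ (k + 1) * v)) := by ring
  obtain ⟨k, hk'⟩ := h
  rw [hk k, hk', mul_zero, mul_zero]

/-- An element killed up to powers of `a` in all prime levels is killed by a power of `a`. -/
theorem exists_pow_mul_eq_zero {B : Type u} [CommRing B] [IsNoetherianRing B]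
    (a y : MonoidAlgebra B (J → Multiplicative ℤ))
    (h : ∀ l, l.Prime → ∃ k, mapDomainRingHom B (redHom J l) (a ^ k * y) = 0) : ∃ k, a ^ k * y = 0 := by
  classical
  by_contra! hne
  let S : B → Ideal B := fun c =>
    { carrier := {b | ∃ k, (b * c) • (a ^ k * y) = 0}
      zero_mem' := ⟨0, by simp⟩
      add_mem' := by
        rintro b b' ⟨k, hk⟩ ⟨k', hk'⟩
        refine ⟨k + k', ?_⟩
        rw [add_mul, add_smul]
        conv_lhs =>
          congr
          · rw [pow_add, mul_comm (a ^ k), mul_assoc, ← mul_smul_comm, hk, mul_zero]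
          · rw [pow_add, mul_assoc, ← mul_smul_comm, hk', mul_zero]
        rw [add_zero]
      smul_mem' := by
        rintro r b ⟨k, hk⟩
        exact ⟨k, by rw [smul_eq_mul, mul_assoc, mul_smul, hk, smul_zero]⟩ }
  obtain ⟨p, ⟨c, hc, rfl⟩, hmax⟩ := set_has_maximal_iff_noetherian.mpr (inferInstance : IsNoetherian B B)
    {I | ∃ c, (∀ k, c • (a ^ k * y) ≠ 0) ∧ I = S c} ⟨S 1, 1, fun k => by rw [one_smul]; exact hne k, rfl⟩
  have hp : (S c).IsPrime := by
    refine ⟨(Ideal.ne_top_iff_one _).mpr fun ⟨k, hk⟩ => hc k (by rwa [_root_.one_mul] at hk), fun {b b'} hbb' => ?_⟩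
    by_contra! hnot
    have hle : S c ≤ S (b * c) := fun r ⟨k, hk⟩ =>
      ⟨k, by rw [show r * (b * c) = b * (r * c) by ring, mul_smul, hk, smul_zero]⟩
    have hbad : ∀ k, (b * c) • (a ^ k * y) ≠ 0 := fun k hk => hnot.1 ⟨k, hk⟩
    have heq : S c = S (b * c) := eq_of_le_of_not_lt hle fun hlt => hmax _ ⟨_, hbad, rfl⟩ hlt
    refine hnot.2 (heq.ge ?_)
    obtain ⟨k, hk⟩ := hbb'
    exact ⟨k, by rw [show b' * (b * c) = b * b' * c by ring, hk]⟩
  obtain ⟨t, ht⟩ := (isNoetherianRing_iff_ideal_fg B).mp inferInstance (S c)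
  choose k hk using fun b : t => (show (b : B) ∈ S c from ht ▸ Ideal.subset_span b.2)
  let K := Finset.univ.sup k
  let v := c • (a ^ K * y)
  have hv : ∀ b ∈ S c, b • v = 0 := by
    intro b hb
    have hle : S c ≤ LinearMap.ker (LinearMap.toSpanSingleton B _ v) := by
      rw [← ht]
      refine Submodule.span_le.mpr fun b hb => ?_
      obtain ⟨m, hm⟩ := Nat.le.dest (Finset.le_sup (f := k) (Finset.mem_univ (⟨b, hb⟩ : t)))
      simp only [SetLike.mem_coe, LinearMap.mem_ker, LinearMap.toSpanSingleton_apply, v, K]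
      rw [smul_smul, ← hm, pow_add, mul_comm (a ^ _) (a ^ m), mul_assoc, ← mul_smul_comm, hk ⟨b, hb⟩, mul_zero]
    simpa using hle hb
  have hnz : ∀ b, b ∉ S c → b • (a * v) ≠ 0 := fun b hb h0 => hb ⟨1 + K, by
    rw [pow_add, pow_one, mul_assoc, mul_smul, ← mul_smul_comm]; exact h0⟩
  haveI := hp
  let L := Localization.AtPrime (S c)
  let f := mapRingHom (J → Multiplicative ℤ) (algebraMap B L)
  have hfv : ∀ x ∈ IsLocalRing.maximalIdeal L, x • f v = 0 := by
    intro x hx
    obtain ⟨b, s, rfl⟩ := IsLocalization.exists_mk'_eq (S c).primeCompl x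
    have hb : b ∈ S c := (IsLocalization.AtPrime.mk'_mem_maximal_iff L (S c) b s).mp hx
    refine MonoidAlgebra.coeff_injective (Finsupp.ext fun g => ?_)
    have h1 := congrArg (fun w => algebraMap B L (w.coeff g)) (hv b hb)
    simp only [MonoidAlgebra.coeff_smul, Finsupp.smul_apply, smul_eq_mul, map_mul, MonoidAlgebra.coeff_zero,
      Finsupp.zero_apply, map_zero] at h1
    simp only [MonoidAlgebra.coeff_smul, Finsupp.smul_apply, smul_eq_mul, MonoidAlgebra.coeff_zero,
      Finsupp.zero_apply, f, coeff_mapRingHom, Finsupp.mapRange_apply]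
    rw [← IsLocalization.mk'_one (M := (S c).primeCompl) L b] at h1
    calc IsLocalization.mk' L b s * algebraMap B L (v.coeff g)
        = IsLocalization.mk' L 1 s * (IsLocalization.mk' L b 1 * algebraMap B L (v.coeff g)) := by
          rw [← mul_assoc, ← IsLocalization.mk'_mul, _root_.one_mul, _root_.mul_one]
      _ = 0 := by rw [h1, mul_zero]
  obtain ⟨N, hN⟩ := exists_injOn_redHom (a * v).coeff.support
  obtain ⟨l, hl, hlp⟩ := Nat.exists_infinite_primes (max N (ringChar (IsLocalRing.ResidueField L)) + 1)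
  haveI := Fact.mk hlp
  let G := J → Multiplicative (ZMod l)
  have hcard : (Nat.card G : IsLocalRing.ResidueField L) ≠ 0 := by
    rw [Nat.card_fun, Nat.card_congr (Multiplicative.toAdd (α := ZMod l)), Nat.card_zmod, Nat.cast_pow]
    refine pow_ne_zero _ fun h0 => ?_
    have := ringChar.dvd h0
    rcases hlp.eq_one_or_self_of_dvd _ this with h1 | h1
    · exact (CharP.ringChar_ne_one (R := IsLocalRing.ResidueField L)) h1
    · omega
  let red := mapDomainRingHom L (redHom J l)
  have hnat : ∀ z, red (f z) = mapRingHom G (algebraMap B L) (mapDomainRingHom B (redHom J l) z) := by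
    intro z
    induction z using MonoidAlgebra.induction_linear with
    | zero => simp
    | add x y hx hy => simp only [map_add, hx, hy]
    | single g r => simp [red, f]
  have hzero : red (f a) * red (f v) = 0 := by
    refine mul_eq_zero_of_pow_mul hcard _ _ (fun x hx => ?_) ?_
    · have := congrArg red (hfv x hx)
      rw [map_zero, Algebra.smul_def, map_mul] at this
      rw [Algebra.smul_def, ← this]
      congr 1
      simp [red]
    · obtain ⟨k, hk'⟩ := h l hlp
      refine ⟨k, ?_⟩
      rw [← map_pow, ← map_pow, ← map_mul, ← map_mul, hnat,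
        show a ^ k * v = c • (a ^ K * (a ^ k * y)) by rw [mul_smul_comm]; congr 1; ring, Algebra.smul_def, map_mul,
        map_mul, map_mul (mapDomainRingHom B (redHom J l)) (a ^ K), hk', mul_zero, map_zero, mul_zero]
  rw [← map_mul, ← map_mul] at hzero
  have hfav : f (a * v) = 0 := by
    refine MonoidAlgebra.coeff_injective (Finsupp.ext fun g => ?_)
    by_cases hg : g ∈ (a * v).coeff.support
    · have h1 : (red (f (a * v))).coeff (redHom J l g) = 0 := by rw [hzero]; rfl
      change Finsupp.mapDomain (redHom J l) (f (a * v)).coeff (redHom J l g) = 0 at h1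
      rwa [Finsupp.mapDomain_apply' ((a * v).coeff.support : Set _) _ ?_ (hN l (by omega)) hg] at h1
      simp only [f, coeff_mapRingHom]
      exact Finsupp.support_mapRange (hf := map_zero _)
    · simp only [f, coeff_mapRingHom, Finsupp.mapRange_apply, Finsupp.notMem_support_iff.mp hg, map_zero,
        MonoidAlgebra.coeff_zero, Finsupp.zero_apply]
  have hex : ∀ g ∈ (a * v).coeff.support, ∃ b ∉ S c, b * (a * v).coeff g = 0 := by
    intro g _
    have h1 := congrArg (fun w => w.coeff g) hfav
    simp only [f, coeff_mapRingHom, Finsupp.mapRange_apply, MonoidAlgebra.coeff_zero, Finsupp.zero_apply] at h1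
    obtain ⟨⟨b, hb⟩, hb'⟩ := (IsLocalization.map_eq_zero_iff (S c).primeCompl L _).mp h1
    exact ⟨b, hb, hb'⟩
  choose b hb hb' using hex
  refine hnz (∏ g : (a * v).coeff.support, b g.1 g.2) (fun hmem => ?_) ?_
  · obtain ⟨g, -, hg⟩ := hp.prod_mem_iff.mp hmem
    exact hb g.1 g.2 hg
  · refine MonoidAlgebra.coeff_injective (Finsupp.ext fun g => ?_)
    simp only [MonoidAlgebra.coeff_smul, Finsupp.smul_apply, smul_eq_mul, MonoidAlgebra.coeff_zero, Finsupp.zero_apply]
    by_cases hg : g ∈ (a * v).coeff.support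
    · rw [← Finset.prod_erase_mul _ _ (Finset.mem_univ (⟨g, hg⟩ : (a * v).coeff.support)), mul_assoc, hb' g hg,
        mul_zero]
    · rw [Finsupp.notMem_support_iff.mp hg, mul_zero]

end Core

section Diag

variable {R : Type u} [CommRing R] {M : Type u} [CommGroup M] [Group.FG M]

/-- Over a diagonalisable group, membership in all finite levels up to powers of `a`. -/
theorem exists_pow_mul_eq_zero_diag (a y : MonoidAlgebra R M)
    (h : ∀ n, 0 < n → ∃ k, a ^ k * y ∈ SGA3b.torsionIdeal R (MonoidAlgebra R M) n) : ∃ k, a ^ k * y = 0 := by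
  classical
  obtain ⟨ι, j, _, _, p, hp, e, ⟨E⟩⟩ := CommGroup.equiv_free_prod_prod_multiplicative_zmod M
  let F := (i : ι) → Multiplicative (ZMod (p i ^ e i))
  haveI : ∀ i, NeZero (p i ^ e i) := fun i => ⟨pow_ne_zero _ (hp i).ne_zero⟩
  let Ψ : ∀ (S : Type u) [CommRing S], MonoidAlgebra S M →+* MonoidAlgebra (MonoidAlgebra S F) (j → Multiplicative ℤ) :=
    fun S _ => (MonoidAlgebra.curryRingEquiv : MonoidAlgebra S ((j → Multiplicative ℤ) × F) ≃+* _).toRingHom.comp
      (mapDomainRingHom S E.toMonoidHom)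
  have hΨ : ∀ (S : Type u) [CommRing S] m (r : S), Ψ S (single m r) = single (E m).1 (single (E m).2 r) :=
    fun S _ m r => by simp [Ψ, MonoidAlgebra.curryRingEquiv, MonoidAlgebra.curryAddEquiv, ← MonoidAlgebra.ofCoeff_single]
  have hΨinj : ∀ (S : Type u) [CommRing S], Function.Injective (Ψ S) := fun S _ =>
    MonoidAlgebra.curryRingEquiv.injective.comp fun x z hxz =>
      MonoidAlgebra.coeff_injective (Finsupp.mapDomain_injective E.injective (congrArg MonoidAlgebra.coeff hxz :))
  let R₀ := Algebra.adjoin ℤ (↑(a.coeff.frange ∪ y.coeff.frange) : Set R)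
  haveI : Algebra.FiniteType ℤ R₀ := (Subalgebra.fg_iff_finiteType _).mp ⟨_, rfl⟩
  haveI : IsNoetherianRing R₀ := Algebra.FiniteType.isNoetherianRing ℤ R₀
  haveI : Module.Finite R₀ (MonoidAlgebra R₀ F) := Module.Finite.of_basis (MonoidAlgebra.basis F R₀)
  haveI : IsNoetherianRing (MonoidAlgebra R₀ F) := IsNoetherianRing.of_finite R₀ _
  let i₀ : R₀ →+* R := R₀.val.toRingHom
  have hi₀ : Function.Injective i₀ := Subtype.val_injective
  have hlift : ∀ z : MonoidAlgebra R M, (∀ m, z.coeff m ∈ R₀) → ∃ z₀ : MonoidAlgebra R₀ M, mapRingHom M i₀ z₀ = z := by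
    intro z hz
    refine ⟨∑ m ∈ z.coeff.support, single m ⟨z.coeff m, hz m⟩, ?_⟩
    rw [map_sum]
    conv_rhs => rw [← z.sum_single, Finsupp.sum]
    exact Finset.sum_congr rfl fun m _ => by simp [i₀]
  have hmem : ∀ z ∈ ({a, y} : Set (MonoidAlgebra R M)), ∀ m, z.coeff m ∈ R₀ := by
    intro z hz m
    by_cases hm : z.coeff m = 0
    · rw [hm]; exact zero_mem _
    · refine Algebra.subset_adjoin (Finset.mem_coe.mpr (Finset.mem_union.mpr ?_))
      rcases hz with rfl | rfl
      · exact Or.inl (Finsupp.mem_frange.mpr ⟨hm, m, rfl⟩)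
      · exact Or.inr (Finsupp.mem_frange.mpr ⟨hm, m, rfl⟩)
  obtain ⟨a₀, ha₀⟩ := hlift a (hmem a (by simp))
  obtain ⟨y₀, hy₀⟩ := hlift y (hmem y (by simp))
  have hlev : ∀ l, 0 < l → ∀ z ∈ SGA3b.torsionIdeal R (MonoidAlgebra R M) (Nat.card F * l),
      mapDomainRingHom _ (redHom j l) (Ψ R z) = 0 := by
    intro l _ z hz
    let ψ := (mapDomainRingHom (MonoidAlgebra R F) (redHom j l)).comp (Ψ R)
    change ψ z = 0
    have key : ∀ w : MonoidAlgebra R M, ψ (SGA3b.powConv R _ (Nat.card F * l) w) =
        ψ (algebraMap R _ (Coalgebra.counit w)) := by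
      intro w
      induction w using MonoidAlgebra.induction_linear with
      | zero => simp
      | add u v hu hv => simp only [map_add, hu, hv]
      | single m r =>
        have h1 : (E (m ^ (Nat.card F * l))).2 = 1 := by
          rw [map_pow, Prod.pow_snd, pow_mul, pow_card_eq_one', one_pow]
        have h2 : redHom j l (E (m ^ (Nat.card F * l))).1 = 1 := by
          rw [map_pow, Prod.pow_fst, pow_mul, redHom_pow]
        rw [show Coalgebra.counit (R := R) (single m r) = r by simp, show single m r = r • single m (1 : R) by simp,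
          map_smul, powConv_groupLike _ (MonoidAlgebra.isGroupLikeElem_single_one _), single_pow, one_pow, smul_single,
          smul_eq_mul, _root_.mul_one, MonoidAlgebra.coe_algebraMap]
        simp only [Function.comp_apply, Algebra.algebraMap_self, RingHom.id_apply, ψ, RingHom.comp_apply, hΨ,
          h1, mapDomainRingHom_apply, mapDomain_single, h2, map_one, Prod.fst_one, Prod.snd_one]
    refine (Ideal.map_le_iff_le_comap (K := RingHom.ker ψ)).mpr ?_ hz
    intro w hw
    change ψ (SGA3b.powConv R _ _ w) = 0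
    rw [key, show Coalgebra.counit (R := R) w = 0 from (RingHom.mem_ker.mp hw :), map_zero, map_zero]
  obtain ⟨k, hk⟩ := exists_pow_mul_eq_zero (Ψ R₀ a₀) (Ψ R₀ y₀) fun l hl => by
    obtain ⟨k, hk⟩ := h (Nat.card F * l) (Nat.mul_pos Nat.card_pos hl.pos)
    refine ⟨k, ?_⟩
    let G := j → Multiplicative (ZMod l)
    have hinj : Function.Injective (mapRingHom G (mapRingHom F i₀)) := by
      intro u v huv
      refine MonoidAlgebra.coeff_injective (Finsupp.ext fun g => MonoidAlgebra.coeff_injective (Finsupp.ext fun f => hi₀ ?_))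
      simpa using congrArg (fun w => (w.coeff g).coeff f) huv
    refine hinj ?_
    rw [map_zero, ← map_pow, ← map_mul]
    have hnat : ∀ z, mapRingHom G (mapRingHom F i₀) (mapDomainRingHom _ (redHom j l) (Ψ R₀ z)) =
        mapDomainRingHom _ (redHom j l) (Ψ R (mapRingHom M i₀ z)) := by
      intro z
      induction z using MonoidAlgebra.induction_linear with
      | zero => simp
      | add u v hu hv => simp only [map_add, hu, hv]
      | single m r => simp [hΨ, G]
    rw [hnat, map_mul (mapRingHom M i₀), map_pow (mapRingHom M i₀), ha₀, hy₀]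
    exact hlev l hl.pos _ hk
  refine ⟨k, ?_⟩
  rw [← map_pow, ← map_mul] at hk
  have := hΨinj R₀ (hk.trans (map_zero _).symm)
  rw [← ha₀, ← hy₀, ← map_pow, ← map_mul, this, map_zero]

end Diag

section MultType

variable {R : Type u} [CommRing R] {A : Type u} [CommRing A] [HopfAlgebra R A]

/-- The finite levels of a group of multiplicative type are schematically dense in every basic open. -/
theorem exists_pow_mul_eq_zero_of_isMultType [Algebra.FiniteType R A] (h : SGA3b.IsMultType R A) (a y : A)
    (hy : ∀ n, 0 < n → ∃ k, a ^ k * y ∈ SGA3b.torsionIdeal R A n) : ∃ k, a ^ k * y = 0 := by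
  classical
  let I : Ideal R :=
    { carrier := {r | ∃ k, r • (a ^ k * y) = 0}
      zero_mem' := ⟨0, zero_smul _ _⟩
      add_mem' := by
        rintro r r' ⟨k, hk⟩ ⟨k', hk'⟩
        refine ⟨k + k', ?_⟩
        rw [add_smul]
        conv_lhs =>
          congr
          · rw [pow_add, mul_comm (a ^ k), mul_assoc, ← mul_smul_comm, hk, mul_zero]
          · rw [pow_add, mul_assoc, ← mul_smul_comm, hk', mul_zero]
        rw [add_zero]
      smul_mem' := by
        rintro c r ⟨k, hk⟩
        exact ⟨k, by rw [smul_eq_mul, mul_smul, hk, smul_zero]⟩ }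
  suffices hI : I = ⊤ by
    obtain ⟨k, hk⟩ := (Ideal.eq_top_iff_one I).mp hI
    exact ⟨k, by rwa [one_smul] at hk⟩
  by_contra hne
  obtain ⟨p, hp, hle⟩ := Ideal.exists_le_maximal _ hne
  haveI := hp.isPrime
  let B := Localization.AtPrime p
  obtain ⟨T, _, _, _, M, _, hff, -, ⟨η⟩⟩ := GrothLib.Hopf.exists_local_chart (isMultType_baseChange_atPrime h p)
  haveI := hff
  haveI : Algebra.FiniteType T (MonoidAlgebra T M) :=
    Algebra.FiniteType.equiv (inferInstance : Algebra.FiniteType T (T ⊗[B] (B ⊗[R] A))) η.toAlgEquiv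
  haveI : Group.FG M := (MonoidAlgebra.finiteType_iff_group_fg (R := T)).mp inferInstance
  let j₁ : A →ₐ[R] B ⊗[R] A := Algebra.TensorProduct.includeRight
  let j₂ : B ⊗[R] A →ₐ[B] T ⊗[B] (B ⊗[R] A) := Algebra.TensorProduct.includeRight
  obtain ⟨k, hk⟩ := exists_pow_mul_eq_zero_diag (η (j₂ (j₁ a))) (η (j₂ (j₁ y))) fun n hn => by
    obtain ⟨k, hk⟩ := hy n hn
    refine ⟨k, ?_⟩
    rw [← map_pow, ← map_mul, ← map_pow j₂, ← map_pow j₁, ← map_mul j₂, ← map_mul j₁]
    refine torsionIdeal_map_le (η : T ⊗[B] (B ⊗[R] A) →ₐc[T] MonoidAlgebra T M) n (Ideal.mem_map_of_mem _ ?_)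
    rw [torsionIdeal_baseChange T n, torsionIdeal_baseChange B n]
    exact Ideal.mem_map_of_mem _ (Ideal.mem_map_of_mem _ hk)
  rw [← map_pow, ← map_mul, map_eq_zero_iff η (EquivLike.injective η), ← map_pow j₂, ← map_pow j₁, ← map_mul j₂,
    ← map_mul j₁] at hk
  have h1 : TensorProduct.mk R B A 1 (a ^ k * y) = 0 := by
    refine Module.FaithfullyFlat.tensorProduct_mk_injective (A := B) (B := T) _ ?_
    rw [map_zero]
    exact hk
  obtain ⟨⟨r, hr⟩, hr'⟩ := (IsLocalizedModule.eq_zero_iff p.primeCompl _).mp h1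
  exact hr (hle ⟨k, hr'⟩)

end MultType

end GrothLib.MultLift
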