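import Groth.Agent.Lib.MultLift.SmoothLift
import Groth.Agent.Lib.MultLocal.LiftLevel
import Groth.Agent.Lib.MultLocal.DescHom
import Groth.Agent.Lib.MultLocal.Algebraize
import Groth.Agent.Lib.MultLocal.Quot
import Mathlib.RingTheory.Smooth.Basic

/-!
Homomorphisms into smooth groups lift over complete Noetherian rings.
-/

universe u

set_option linter.style.haveILetI false
set_option maxSynthPendingDepth 3

open TensorProduct MonoidAlgebra

namespace GrothLib.MultLift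

open GrothLib.MultLocal

variable {A : Type u} [CommRing A] {B : Type u} [CommRing B] [HopfAlgebra A B] {C : Type u} [CommRing C]
  [HopfAlgebra A C]

/-- One step of lifting along a thickening. -/
theorem exists_lift_thickening [Algebra.FormallySmooth A C] {S S' : Type u} [CommRing S] [CommRing S'] [Algebra A S]
    [Algebra A S'] (π : S' →ₐ[A] S) (hπ : Function.Surjective π) (hnil : IsNilpotent (RingHom.ker (π : S' →+* S)))
    (hmt : SGA3b.IsMultType S' (S' ⊗[A] B)) (φ : S ⊗[A] C →ₐc[S] S ⊗[A] B) :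
    ∃ φ' : S' ⊗[A] C →ₐc[S'] S' ⊗[A] B, ∀ c,
      coefMap B π (φ' ((1 : S') ⊗ₜ[A] c)) = φ ((1 : S) ⊗ₜ[A] c) := by
  let J := RingHom.ker (π : S' →+* S)
  let T := S' ⧸ J
  let e : T ≃ₐ[A] S := Ideal.quotientKerAlgEquivOfSurjective hπ
  obtain ⟨φT, hφT⟩ := exists_bc_hom e.symm.toAlgHom φ
  let φ₀ : T ⊗[S'] (S' ⊗[A] C) →ₐc[T] T ⊗[S'] (S' ⊗[A] B) :=
    ((GrothLib.Hopf.cancelBaseChange A S' T B).symm : T ⊗[A] B →ₐc[T] T ⊗[S'] (S' ⊗[A] B)).comp
      (φT.comp (GrothLib.Hopf.cancelBaseChange A S' T C : T ⊗[S'] (S' ⊗[A] C) →ₐc[T] T ⊗[A] C))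
  obtain ⟨ψ, hψ⟩ := exists_lift hmt J hnil φ₀
  refine ⟨ψ, fun c => ?_⟩
  have h1 := congrArg (GrothLib.Hopf.cancelBaseChange A S' T B) (hψ ((1 : S') ⊗ₜ[A] c))
  have h2 : GrothLib.Hopf.cancelBaseChange A S' T B (φ₀ ((1 : T) ⊗ₜ[S'] ((1 : S') ⊗ₜ[A] c))) =
      φT ((1 : T) ⊗ₜ[A] c) := by
    change GrothLib.Hopf.cancelBaseChange A S' T B ((GrothLib.Hopf.cancelBaseChange A S' T B).symm
      (φT (GrothLib.Hopf.cancelBaseChange A S' T C ((1 : T) ⊗ₜ[S'] ((1 : S') ⊗ₜ[A] c))))) = _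
    rw [BialgEquiv.apply_symm_apply, GrothLib.Hopf.cancelBaseChange_tmul, one_smul]
  rw [h2] at h1
  have h3 := congrArg (coefMap B e.toAlgHom) h1
  have h4 : φT ((1 : T) ⊗ₜ[A] c) = coefMap B e.symm.toAlgHom (φ ((1 : S) ⊗ₜ[A] c)) := by
    rw [← hφT, coefMap_tmul, map_one]
  have h5 : ∀ y, coefMap B e.toAlgHom (coefMap B e.symm.toAlgHom y) = y := fun y => by
    induction y using TensorProduct.induction_on with
    | zero => simp
    | add x y hx hy => simp only [map_add, hx, hy]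
    | tmul t b => simp
  have h6 : ∀ y, coefMap B e.toAlgHom (GrothLib.Hopf.cancelBaseChange A S' T B ((1 : T) ⊗ₜ[S'] y)) = coefMap B π y :=
    fun y => by
    induction y using TensorProduct.induction_on with
    | zero => simp
    | add x y hx hy => simp only [tmul_add, map_add, hx, hy]
    | tmul t b =>
      rw [GrothLib.Hopf.cancelBaseChange_tmul, coefMap_tmul, coefMap_tmul, Algebra.smul_def, _root_.mul_one]
      rfl
  rw [h4, h5, h6] at h3
  exact h3.symm

variable [IsNoetherianRing A] (I : Ideal A) [IsAdicComplete I A]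

/-- Lifting over a complete Noetherian base from an isotrivial source. -/
theorem exists_lift_adicComplete [Algebra.FormallySmooth A C] (E : Type u) [CommRing E] [Algebra A E]
    [Module.Finite A E] [Module.FaithfullyFlat A E] {M : Type u} [CommGroup M]
    {g : M →* GroupLike E (E ⊗[A] B)} (hg : IsFrame g)
    (φ₀ : (A ⧸ I) ⊗[A] C →ₐc[A ⧸ I] (A ⧸ I) ⊗[A] B) :
    ∃ φ : C →ₐc[A] B, ∀ c : C, φ₀ ((1 : A ⧸ I) ⊗ₜ[A] c) = (1 : A ⧸ I) ⊗ₜ[A] (φ c) := by
  let R := fun n : ℕ => A ⧸ I ^ (n + 1)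
  have hmt : ∀ n, SGA3b.IsMultType (R n) (R n ⊗[A] B) := fun n =>
    isMultType_of_frame (R' := R n ⊗[A] E) ((hg.map (Algebra.TensorProduct.includeRight : E →ₐ[A] R n ⊗[A] E)).push
      (GrothLib.Hopf.cancelBaseChange A (R n) (R n ⊗[A] E) B).symm)
  obtain ⟨φ1, hφ1⟩ := exists_bc_hom (Ideal.Quotient.factorₐ A (show I ≤ I ^ (0 + 1) by simp)) φ₀
  let π : ∀ n, R (n + 1) →ₐ[A] R n := fun n => Ideal.Quotient.factorₐ A (Ideal.pow_le_pow_right (n + 1).le_succ)
  have hπ : ∀ n, Function.Surjective (π n) := fun n => Ideal.Quotient.factor_surjective (Ideal.pow_le_pow_right (n + 1).le_succ)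
  have hnil : ∀ n, IsNilpotent (RingHom.ker (π n : R (n + 1) →+* R n)) := fun n => by
    refine ⟨2, le_bot_iff.mp ?_⟩
    have hle : RingHom.ker (π n : R (n + 1) →+* R n) ≤ (I ^ (n + 1)).map (Ideal.Quotient.mk (I ^ (n + 1 + 1))) := by
      intro x hx
      obtain ⟨a, rfl⟩ := Ideal.Quotient.mk_surjective x
      exact Ideal.mem_map_of_mem _ (Ideal.Quotient.eq_zero_iff_mem.mp (RingHom.mem_ker.mp hx))
    refine (Ideal.pow_right_mono hle 2).trans ?_
    rw [← Ideal.map_pow, ← pow_mul]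
    exact (Ideal.map_mono (Ideal.pow_le_pow_right (show n + 1 + 1 ≤ (n + 1) * 2 by omega))).trans (Ideal.map_quotient_self _).le
  let Hom := fun n => R n ⊗[A] C →ₐc[R n] R n ⊗[A] B
  let φs : ∀ n, Hom n := fun n => Nat.rec (motive := Hom) φ1
    (fun k φk => (exists_lift_thickening (π k) (hπ k) (hnil k) (hmt (k + 1)) φk).choose) n
  have hstep : ∀ n c, coefMap B (π n) (φs (n + 1) ((1 : R (n + 1)) ⊗ₜ[A] c)) = φs n ((1 : R n) ⊗ₜ[A] c) := fun n =>
    (exists_lift_thickening (π n) (hπ n) (hnil n) (hmt (n + 1)) (φs n)).choose_spec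
  have hcomp : ∀ m n (h : m ≤ n) c, coefMap B (Ideal.Quotient.factorₐ A (Ideal.pow_le_pow_right (Nat.succ_le_succ h)) :
      R n →ₐ[A] R m) (φs n ((1 : R n) ⊗ₜ[A] c)) = φs m ((1 : R m) ⊗ₜ[A] c) := by
    intro m n h c
    induction h with
    | refl =>
      rw [show (Ideal.Quotient.factorₐ A (Ideal.pow_le_pow_right (le_refl (m + 1))) : R m →ₐ[A] R m) = AlgHom.id A _ from
        AlgHom.ext fun x => by obtain ⟨z, rfl⟩ := Ideal.Quotient.mk_surjective x; rfl]
      generalize φs m ((1 : R m) ⊗ₜ[A] c) = y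
      induction y using TensorProduct.induction_on with
      | zero => simp
      | add x y hx hy => simp only [map_add, hx, hy]
      | tmul t b => simp
    | @step n h ih =>
      rw [← ih, ← hstep n, coefMap_comp]
      congr 2
      exact AlgHom.ext fun x => by obtain ⟨z, rfl⟩ := Ideal.Quotient.mk_surjective x; rfl
  -- over the finite cover
  let J := I.map (algebraMap A E)
  haveI : IsNoetherianRing E := IsNoetherianRing.of_finite A E
  haveI hcE : IsAdicComplete J E :=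
    (IsAdicComplete.map_algebraMap_iff I E (S := E)).mpr (GrothLib.AdicLim.isAdicComplete_of_finite I E)
  let T := fun n : ℕ => E ⧸ J ^ (n + 1)
  let q : ∀ n, R n →ₐ[A] T n := fun n => Ideal.Quotient.liftₐ (I ^ (n + 1)) (Algebra.ofId A (T n)) fun a ha => by
    change algebraMap A (E ⧸ J ^ (n + 1)) a = 0
    rw [IsScalarTower.algebraMap_apply A E (E ⧸ J ^ (n + 1)), Ideal.Quotient.algebraMap_eq,
      Ideal.Quotient.eq_zero_iff_mem, ← Ideal.map_pow]
    exact Ideal.mem_map_of_mem _ ha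
  let mk : ∀ n, E →ₐ[A] T n := fun n => Ideal.Quotient.mkₐ A (J ^ (n + 1))
  have hgn : ∀ n, IsFrame ((glMap B (mk n)).comp g) := fun n => hg.map (mk n)
  choose φT hφT using fun n => exists_bc_hom (q n) (φs n)
  let ψ : ∀ n, T n ⊗[E] (E ⊗[A] C) →ₐc[T n] MonoidAlgebra (T n) M := fun n =>
    ((hgn n).equiv.symm : T n ⊗[A] B →ₐc[T n] MonoidAlgebra (T n) M).comp
      ((φT n).comp (GrothLib.Hopf.cancelBaseChange A E (T n) C : T n ⊗[E] (E ⊗[A] C) →ₐc[T n] T n ⊗[A] C))
  have hφTc : ∀ n c, φT n ((1 : T n) ⊗ₜ[A] c) = coefMap B (q n) (φs n ((1 : R n) ⊗ₜ[A] c)) := fun n c => by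
    rw [← hφT, coefMap_tmul, map_one]
  have hψ : ∀ n (t : E) c, ψ n ((1 : T n) ⊗ₜ[E] (t ⊗ₜ[A] c)) =
      mk n t • (hgn n).equiv.symm (coefMap B (q n) (φs n ((1 : R n) ⊗ₜ[A] c))) := fun n t c => by
    change (hgn n).equiv.symm (φT n (GrothLib.Hopf.cancelBaseChange A E (T n) C _)) = _
    rw [GrothLib.Hopf.cancelBaseChange_tmul, show (t • (1 : T n)) ⊗ₜ[A] c = mk n t • ((1 : T n) ⊗ₜ[A] c) by
      rw [smul_tmul', smul_eq_mul, _root_.mul_one, Algebra.smul_def, _root_.mul_one]; rfl, map_smul, map_smul, hφTc]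
  obtain ⟨f, hf⟩ := exists_bialgHom_of_compatible J ψ fun m n h x => by
    induction x using TensorProduct.induction_on with
    | zero => simp
    | add x y hx hy => simp only [tmul_add, map_add, hx, hy]
    | tmul t c =>
      let lev : T n →ₐ[A] T m := Ideal.Quotient.factorₐ A (Ideal.pow_le_pow_right (Nat.succ_le_succ h))
      rw [hψ, hψ]
      refine Eq.trans (mapRingHom_smul _ _ _) ?_
      refine congrArg₂ (· • ·) rfl ?_
      apply (hgn m).equiv.toEquiv.injective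
      change (hgn m).equiv _ = (hgn m).equiv _
      rw [BialgEquiv.apply_symm_apply, IsFrame.equiv_apply,
        show (glMap B (mk m)).comp g = (glMap B lev).comp ((glMap B (mk n)).comp g) from MonoidHom.ext fun x => by
          simp only [MonoidHom.comp_apply, glMap_glMap]; rfl]
      refine Eq.trans (glHom_glMap lev _ _) ?_
      rw [← IsFrame.equiv_apply (hgn n), BialgEquiv.apply_symm_apply, ← hcomp m n h c, coefMap_comp, coefMap_comp]
      congr 2
      exact AlgHom.ext fun x => by obtain ⟨z, rfl⟩ := Ideal.Quotient.mk_surjective x; rfl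
  let F : E ⊗[A] C →ₐc[E] E ⊗[A] B := (hg.equiv : MonoidAlgebra E M →ₐc[E] E ⊗[A] B).comp f
  have hF : ∀ n c, coefMap B (mk n) (F ((1 : E) ⊗ₜ[A] c)) = coefMap B (q n) (φs n ((1 : R n) ⊗ₜ[A] c)) := by
    intro n c
    change coefMap B (mk n) (glHom g (f ((1 : E) ⊗ₜ[A] c))) = _
    rw [← glHom_glMap, show mapRingHom M (mk n : E →+* T n) (f ((1 : E) ⊗ₜ[A] c)) =
      ψ n ((1 : T n) ⊗ₜ[E] ((1 : E) ⊗ₜ[A] c)) from hf n _, hψ, map_one, one_smul, ← IsFrame.equiv_apply (hgn n),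
      BialgEquiv.apply_symm_apply]
  -- descent
  obtain ⟨φ, hφ⟩ := exists_bialgHom_descend F fun c => by
    let W := E ⊗[A] E
    let i₁ : E →ₐ[A] W := Algebra.TensorProduct.includeLeft
    let i₂ : E →ₐ[A] W := Algebra.TensorProduct.includeRight
    let J' := I.map (algebraMap A W)
    haveI : IsAdicComplete J' W :=
      (IsAdicComplete.map_algebraMap_iff I W (S := W)).mpr (GrothLib.AdicLim.isAdicComplete_of_finite I W)
    haveI : IsHausdorff J' W := IsAdicComplete.toIsHausdorff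
    have hW := hg.map i₁
    obtain ⟨z₁, hz₁⟩ := hW.2 (coefMap B i₁ (F ((1 : E) ⊗ₜ[A] c)))
    obtain ⟨z₂, hz₂⟩ := hW.2 (coefMap B i₂ (F ((1 : E) ⊗ₜ[A] c)))
    suffices z₁ = z₂ by rw [← hz₁, ← hz₂, this]
    refine ext_of_forall_mapRingHom J' fun n => ?_
    let U := W ⧸ J' ^ (n + 1)
    let mkU : W →ₐ[A] U := Ideal.Quotient.mkₐ A _
    let qU : R n →ₐ[A] U := Ideal.Quotient.liftₐ (I ^ (n + 1)) (Algebra.ofId A U) fun a ha => by
      change algebraMap A (W ⧸ J' ^ (n + 1)) a = 0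
      rw [IsScalarTower.algebraMap_apply A W (W ⧸ J' ^ (n + 1)), Ideal.Quotient.algebraMap_eq,
        Ideal.Quotient.eq_zero_iff_mem, ← Ideal.map_pow]
      exact Ideal.mem_map_of_mem _ ha
    have hi : ∀ i : E →ₐ[A] W, coefMap B mkU (coefMap B i (F ((1 : E) ⊗ₜ[A] c))) =
        coefMap B qU (φs n ((1 : R n) ⊗ₜ[A] c)) := fun i => by
      let lev : T n →ₐ[A] U := Ideal.Quotient.liftₐ (J ^ (n + 1)) (mkU.comp i) fun a ha => by
        have h2 := Ideal.mem_map_of_mem (i : E →+* W) ha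
        rw [Ideal.map_pow, Ideal.map_map, AlgHom.comp_algebraMap] at h2
        exact Ideal.Quotient.eq_zero_iff_mem.mpr h2
      rw [coefMap_comp, show mkU.comp i = lev.comp (mk n) from rfl, ← coefMap_comp, hF, coefMap_comp]
      congr 2
      exact AlgHom.ext fun x => by
        obtain ⟨z, rfl⟩ := Ideal.Quotient.mk_surjective x
        change lev (algebraMap A (T n) z) = algebraMap A U z
        rw [AlgHom.commutes]
    refine (hW.map mkU).1 ?_
    change glHom ((glMap B mkU).comp ((glMap B i₁).comp g)) (mapRingHom M (mkU : W →+* U) z₁) =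
      glHom ((glMap B mkU).comp ((glMap B i₁).comp g)) (mapRingHom M (mkU : W →+* U) z₂)
    rw [glHom_glMap, glHom_glMap, hz₁, hz₂]
    exact (hi i₁).trans (hi i₂).symm
  refine ⟨φ, fun c => ?_⟩
  let fac : T 0 →ₐ[A] E ⧸ J := Ideal.Quotient.factorₐ A (show J ^ (0 + 1) ≤ J by simp)
  let ρ : (A ⧸ I) →ₐ[A] E ⧸ J := (fac.comp (q 0)).comp (Ideal.Quotient.factorₐ A (show I ≤ I ^ (0 + 1) by simp))
  refine coefMap_quot_injective I B ρ ?_
  have h0 : φs 0 ((1 : R 0) ⊗ₜ[A] c) = coefMap B (Ideal.Quotient.factorₐ A (show I ≤ I ^ (0 + 1) by simp))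
      (φ₀ ((1 : A ⧸ I) ⊗ₜ[A] c)) := by
    change φ1 ((1 : R 0) ⊗ₜ[A] c) = _
    rw [← hφ1, coefMap_tmul, map_one]
  have h := congrArg (coefMap B fac) (hF 0 c)
  rw [h0, coefMap_comp, coefMap_comp, coefMap_comp, ← hφ, coefMap_tmul, map_one] at h
  rw [coefMap_tmul, map_one]
  exact h.symm

end GrothLib.MultLift
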