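import Groth.Agent.Lib.MultLift.TorsionIdeal
import Groth.Agent.Lib.MultLocal.ClopenBC
import Groth.Agent.Lib.DescElem.Basic
import Mathlib.RingTheory.HopfAlgebra.Quotient

/-!
Descent of a clopen subgroup of multiplicative type approximated on all finite levels.
-/

universe u

set_option linter.style.haveILetI false
set_option maxSynthPendingDepth 3

open TensorProduct

namespace GrothLib.MultLift

open GrothLib.MultLocal

variable {R : Type u} [CommRing R] {C : Type u} [CommRing C] [HopfAlgebra R C] {T : Type u} [CommRing T] [Algebra R T]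

theorem cancel_one_tmul {W : Type u} [CommRing W] [Algebra R W] [Algebra T W] [IsScalarTower R T W] (i : T →ₐ[R] W)
    (hi : ∀ t, i t = algebraMap T W t) (x : T ⊗[R] C) :
    GrothLib.Hopf.cancelBaseChange R T W C ((1 : W) ⊗ₜ[T] x) = coefMap C i x := by
  induction x using TensorProduct.induction_on with
  | zero => simp
  | add u v hu hv => simp only [tmul_add, map_add, hu, hv]
  | tmul t c =>
    rw [GrothLib.Hopf.cancelBaseChange_tmul, coefMap_tmul, Algebra.smul_def, _root_.mul_one, hi]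

/-- The comparison of the two pullbacks. -/
theorem coefMap_right_mem (e : T ⊗[R] C) [(Ideal.span {e}).IsHopfIdeal T]
    {E : Type u} [CommRing E] [Algebra T E] [Module.FaithfullyFlat T E] {M : Type u} [CommGroup M] [Group.FG M]
    {g : M →* GroupLike E (E ⊗[T] ((T ⊗[R] C) ⧸ Ideal.span {e}))} (hg : IsFrame g) (f : ℕ → C)
    (h1 : ∀ n, 0 < n → e ∈ Ideal.span {(1 : T) ⊗ₜ[R] f n} ⊔ SGA3b.torsionIdeal T (T ⊗[R] C) n)
    (h2 : ∀ n, 0 < n → (1 : T) ⊗ₜ[R] f n ∈ Ideal.span {e} ⊔ SGA3b.torsionIdeal T (T ⊗[R] C) n) :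
    coefMap C (Algebra.TensorProduct.includeRight : T →ₐ[R] T ⊗[R] T) e ∈
      Ideal.span {coefMap C (Algebra.TensorProduct.includeLeft : T →ₐ[R] T ⊗[R] T) e} := by
  let W := T ⊗[R] T
  let i₁ : T →ₐ[R] W := Algebra.TensorProduct.includeLeft
  let i₂ : T →ₐ[R] W := Algebra.TensorProduct.includeRight
  let C₀ := (T ⊗[R] C) ⧸ Ideal.span {e}
  let q : T ⊗[R] C →ₐc[T] C₀ := Bialgebra.Quotient.mkBialgHom (R := T) (Ideal.span {e})
  let c := GrothLib.Hopf.cancelBaseChange R T W C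
  let Φ : W ⊗[R] C →ₐc[W] W ⊗[T] C₀ := (projT q W).comp (c.symm : W ⊗[R] C →ₐc[W] W ⊗[T] (T ⊗[R] C))
  have hΦ : ∀ x, Φ (coefMap C i₁ x) = (1 : W) ⊗ₜ[T] q x := fun x => by
    change projT q W (c.symm (coefMap C i₁ x)) = _
    rw [← cancel_one_tmul i₁ (fun t => rfl) x, BialgEquiv.symm_apply_apply, projT_tmul]
  have hf : ∀ n, coefMap C i₁ ((1 : T) ⊗ₜ[R] f n) = (1 : W) ⊗ₜ[R] f n ∧
      coefMap C i₂ ((1 : T) ⊗ₜ[R] f n) = (1 : W) ⊗ₜ[R] f n := fun n =>
    ⟨by rw [coefMap_tmul, map_one], by rw [coefMap_tmul, map_one]⟩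
  have hkey : Φ (coefMap C i₂ e) = 0 := by
    refine eq_zero_of_forall_torsion hg _ fun n hn => ?_
    let J := SGA3b.torsionIdeal W (W ⊗[T] C₀) n
    let ΦR : W ⊗[R] C →+* W ⊗[T] C₀ := (Φ : W ⊗[R] C →ₐ[W] W ⊗[T] C₀)
    have hJ : SGA3b.torsionIdeal W (W ⊗[R] C) n ≤ J.comap ΦR :=
      Ideal.map_le_iff_le_comap.mp (torsionIdeal_map_le Φ n)
    have hf1 : (1 : W) ⊗ₜ[R] f n ∈ J.comap ΦR := by
      rw [← (hf n).1]
      have h := Ideal.mem_map_of_mem (coefMap C i₁ : T ⊗[R] C →+* W ⊗[R] C) (h2 n hn)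
      rw [Ideal.map_sup] at h
      refine (sup_le ?_ ?_ : _ ≤ J.comap ΦR) h
      · rw [Ideal.map_span, Set.image_singleton, Ideal.span_singleton_le_iff_mem, Ideal.mem_comap]
        change Φ (coefMap C i₁ e) ∈ J
        rw [hΦ, show q e = 0 from Ideal.Quotient.eq_zero_iff_mem.mpr (Ideal.mem_span_singleton_self e), tmul_zero]
        exact zero_mem _
      · exact Ideal.map_le_iff_le_comap.mpr fun x hx => hJ (coefMap_torsionIdeal i₁ n hx)
    have h := Ideal.mem_map_of_mem (coefMap C i₂ : T ⊗[R] C →+* W ⊗[R] C) (h1 n hn)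
    rw [Ideal.map_sup] at h
    refine (sup_le ?_ ?_ : _ ≤ J.comap ΦR) h
    · rw [Ideal.map_span, Set.image_singleton, Ideal.span_singleton_le_iff_mem]
      change coefMap C i₂ ((1 : T) ⊗ₜ[R] f n) ∈ J.comap ΦR
      rw [(hf n).2]
      exact hf1
    · exact Ideal.map_le_iff_le_comap.mpr fun x hx => hJ (coefMap_torsionIdeal i₂ n hx)
  let y := c.symm (coefMap C i₂ e)
  have hy : y ∈ Ideal.span {(1 : W) ⊗ₜ[T] e} := by
    have h := Algebra.TensorProduct.lTensor_ker (A := W) (Ideal.Quotient.mkₐ T (Ideal.span {e}))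
      (Ideal.Quotient.mkₐ_surjective T _)
    have hy0 : y ∈ RingHom.ker (Algebra.TensorProduct.map (AlgHom.id T W) (Ideal.Quotient.mkₐ T (Ideal.span {e}))) :=
      RingHom.mem_ker.mpr hkey
    rw [h, show RingHom.ker (Ideal.Quotient.mkₐ T (Ideal.span {e})) = Ideal.span {e} from Ideal.mk_ker,
      Ideal.map_span, Set.image_singleton] at hy0
    exact hy0
  obtain ⟨d, hd⟩ := Ideal.mem_span_singleton'.mp hy
  refine Ideal.mem_span_singleton'.mpr ⟨c d, ?_⟩
  have h3 := congrArg c hd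
  rw [map_mul, cancel_one_tmul i₁ (fun t => rfl), show c y = coefMap C i₂ e from BialgEquiv.apply_symm_apply _ _] at h3
  exact h3

/-- An idempotent approximated on all finite levels descends. -/
theorem exists_descended [Module.FaithfullyFlat R T] (e : T ⊗[R] C) (he : IsIdempotentElem e)
    [(Ideal.span {e}).IsHopfIdeal T] {E : Type u} [CommRing E] [Algebra T E] [Module.FaithfullyFlat T E] {M : Type u}
    [CommGroup M] [Group.FG M] {g : M →* GroupLike E (E ⊗[T] ((T ⊗[R] C) ⧸ Ideal.span {e}))} (hg : IsFrame g)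
    (f : ℕ → C)
    (h1 : ∀ n, 0 < n → e ∈ Ideal.span {(1 : T) ⊗ₜ[R] f n} ⊔ SGA3b.torsionIdeal T (T ⊗[R] C) n)
    (h2 : ∀ n, 0 < n → (1 : T) ⊗ₜ[R] f n ∈ Ideal.span {e} ⊔ SGA3b.torsionIdeal T (T ⊗[R] C) n) :
    ∃ e₀ : C, IsIdempotentElem e₀ ∧ (1 : T) ⊗ₜ[R] e₀ = e := by
  let W := T ⊗[R] T
  let e₁ := coefMap C (Algebra.TensorProduct.includeLeft : T →ₐ[R] W) e
  let e₂ := coefMap C (Algebra.TensorProduct.includeRight : T →ₐ[R] W) e
  have h21 : e₂ ∈ Ideal.span {e₁} := coefMap_right_mem e hg f h1 h2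
  let σ : W →ₐ[R] W := (Algebra.TensorProduct.comm R T T).toAlgHom
  have h12 : e₁ ∈ Ideal.span {e₂} := by
    have h := Ideal.mem_map_of_mem (coefMap C σ : W ⊗[R] C →+* W ⊗[R] C) h21
    rw [Ideal.map_span, Set.image_singleton] at h
    change coefMap C σ (coefMap C _ e) ∈ Ideal.span {coefMap C σ (coefMap C _ e)} at h
    rw [coefMap_comp, coefMap_comp,
      show σ.comp Algebra.TensorProduct.includeRight = (Algebra.TensorProduct.includeLeft : T →ₐ[R] W) from
        AlgHom.ext fun x => rfl,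
      show σ.comp Algebra.TensorProduct.includeLeft = (Algebra.TensorProduct.includeRight : T →ₐ[R] W) from
        AlgHom.ext fun x => rfl] at h
    exact h
  have i1 : IsIdempotentElem e₁ := he.map _
  have i2 : IsIdempotentElem e₂ := he.map _
  have heq : e₁ = e₂ := by
    obtain ⟨a, ha⟩ := Ideal.mem_span_singleton'.mp h12
    obtain ⟨b, hb⟩ := Ideal.mem_span_singleton'.mp h21
    calc e₁ = e₁ * e₂ := by rw [← ha, mul_assoc, i2.eq]
      _ = e₂ := by rw [← hb, mul_comm, mul_assoc, i1.eq]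
  have h1' : ∀ y : T ⊗[R] C, (TensorProduct.mk R T C 1).lTensor T y =
      TensorProduct.assoc R T T C (coefMap C (Algebra.TensorProduct.includeLeft : T →ₐ[R] W) y) := by
    intro y
    induction y using TensorProduct.induction_on with
    | zero => simp
    | tmul t a => rfl
    | add x y hx hy => simp only [map_add, hx, hy]
  have h2' : ∀ y : T ⊗[R] C, (1 : T) ⊗ₜ[R] y =
      TensorProduct.assoc R T T C (coefMap C (Algebra.TensorProduct.includeRight : T →ₐ[R] W) y) := by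
    intro y
    induction y using TensorProduct.induction_on with
    | zero => simp
    | tmul t a => rfl
    | add x y hx hy => simp only [tmul_add, map_add, hx, hy]
  obtain ⟨e₀, he₀⟩ := GrothLib.DescElem.mem_range_of_one_tmul T (TensorProduct.mk R T C 1) e
    ⟨e, by rw [h1', h2']; exact congrArg _ heq⟩
  refine ⟨e₀, ?_, he₀⟩
  refine Module.FaithfullyFlat.tensorProduct_mk_injective (A := R) (B := T) C ?_
  change (1 : T) ⊗ₜ[R] (e₀ * e₀) = (1 : T) ⊗ₜ[R] e₀
  rw [show (1 : T) ⊗ₜ[R] (e₀ * e₀) = ((1 : T) ⊗ₜ[R] e₀) * ((1 : T) ⊗ₜ[R] e₀) by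
    rw [Algebra.TensorProduct.tmul_mul_tmul, _root_.mul_one]]
  rw [show (1 : T) ⊗ₜ[R] e₀ = e from he₀]
  exact he.eq

end GrothLib.MultLift
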