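import Groth.Agent.Lib.MultLift.TorsionIdeal
import Groth.Agent.Lib.MultLocal.Main
import Groth.Agent.Lib.Hensel.LocalSplit
import Mathlib.RingTheory.ZariskisMainTheorem

/-!
Finite parts of the torsion over a henselian local ring.
-/

universe u

set_option linter.style.haveILetI false
set_option maxSynthPendingDepth 3

open TensorProduct IsLocalRing

namespace GrothLib.MultLift

open GrothLib.MultLocal

/-- Quasi-finiteness at the closed points when the closed fibre is finite. -/
theorem quasiFiniteAt_of_finite_fibre {R : Type u} [CommRing R] [IsLocalRing R] {S : Type u} [CommRing S] [Algebra R S]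
    [Algebra.FiniteType R S] [Module.Finite R (S ⧸ (maximalIdeal R).map (algebraMap R S))]
    (q : Ideal S) [q.IsPrime] [q.LiesOver (maximalIdeal R)] : Algebra.QuasiFiniteAt R q := by
  let m := maximalIdeal R
  let κ := m.ResidueField
  have hsurj : Function.Surjective (algebraMap R κ) := by
    intro x
    obtain ⟨y, rfl⟩ := m.bijective_algebraMap_quotient_residueField.2 x
    obtain ⟨y, rfl⟩ := Ideal.Quotient.mk_surjective y
    exact ⟨y, (IsScalarTower.algebraMap_apply R (R ⧸ m) κ y)⟩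
  have hker : ∀ x ∈ m.map (algebraMap R S), (1 : κ) ⊗ₜ[R] x = (0 : κ ⊗[R] S) := by
    intro x hx
    have h : m.map (algebraMap R S) ≤
        RingHom.ker (Algebra.TensorProduct.includeRight : S →ₐ[R] κ ⊗[R] S) :=
      Ideal.map_le_iff_le_comap.mpr fun r hr => by
        rw [Ideal.mem_comap, RingHom.mem_ker, AlgHom.commutes, IsScalarTower.algebraMap_apply R κ (κ ⊗[R] S),
          Ideal.algebraMap_residueField_eq_zero.mpr hr, map_zero]
    exact h hx
  let ν : S ⧸ m.map (algebraMap R S) →ₐ[R] κ ⊗[R] S :=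
    Ideal.Quotient.liftₐ _ (Algebra.TensorProduct.includeRight : S →ₐ[R] κ ⊗[R] S) fun x hx => hker x hx
  haveI : Module.Finite R (κ ⊗[R] S) := Module.Finite.of_surjective ν.toLinearMap fun y => by
    induction y using TensorProduct.induction_on with
    | zero => exact ⟨0, map_zero _⟩
    | add a b ha hb =>
      obtain ⟨a', rfl⟩ := ha
      obtain ⟨b', rfl⟩ := hb
      exact ⟨a' + b', map_add _ _ _⟩
    | tmul t s =>
      obtain ⟨r, rfl⟩ := hsurj t
      refine ⟨Ideal.Quotient.mk _ (r • s), ?_⟩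
      change (1 : κ) ⊗ₜ[R] (r • s) = _
      rw [tmul_smul, smul_tmul', Algebra.algebraMap_eq_smul_one]
  haveI : Module.Finite κ (κ ⊗[R] S) := Module.Finite.of_restrictScalars_finite R κ _
  let Q := (PrimeSpectrum.primesOverOrderIsoFiber R S m ⟨q, ‹_›, ‹_›⟩).asIdeal
  have hQ : Q.comap Algebra.TensorProduct.includeRight.toRingHom = q :=
    congr($((PrimeSpectrum.primesOverOrderIsoFiber R S m).symm_apply_apply ⟨q, ‹_›, ‹_›⟩).1)
  haveI : Algebra.QuasiFinite κ (m.Fiber S) := inferInstance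
  haveI : Algebra.QuasiFiniteAt κ Q := Algebra.QuasiFinite.of_isLocalization Q.primeCompl
  exact .of_quasiFiniteAt_residueField m q Q hQ

/-- A finite type algebra over a henselian local ring with finite closed fibre is finite up to an idempotent
in the radical part. -/
theorem exists_idem_of_finite_fibre {R : Type u} [CommRing R] [HenselianLocalRing R] {S : Type u} [CommRing S]
    [Algebra R S] [Algebra.FiniteType R S] [Module.Finite R (S ⧸ (maximalIdeal R).map (algebraMap R S))] :
    ∃ f : S, IsIdempotentElem f ∧ f ∈ (maximalIdeal R).map (algebraMap R S) ∧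
      Module.Finite R (S ⧸ Ideal.span {f}) := by
  obtain ⟨e, he, hfin, hno⟩ := GrothLib.Hensel.exists_idem_finite_quasiFinite (R := R) (S := S)
  refine ⟨1 - e, he.one_sub, ?_, hfin⟩
  have htop : (maximalIdeal R).map (algebraMap R S) ⊔ Ideal.span {e} = ⊤ := by
    by_contra hne
    obtain ⟨Q, hQ, hle⟩ := Ideal.exists_le_maximal _ hne
    haveI := hQ.isPrime
    let π := Ideal.Quotient.mk (Ideal.span ({e} : Set S))
    have hker : RingHom.ker π ≤ Q := Ideal.mk_ker.le.trans (le_sup_right.trans hle)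
    haveI hp : (Q.map π).IsPrime := Ideal.map_isPrime_of_surjective Ideal.Quotient.mk_surjective hker
    have hover : (Q.map π).LiesOver (maximalIdeal R) := ⟨(IsLocalRing.maximalIdeal.isMaximal R).eq_of_le
      (hp.under R).ne_top fun r hr => Ideal.mem_map_of_mem π (hle (Ideal.mem_sup_left (Ideal.mem_map_of_mem _ hr)))⟩
    haveI : Module.Finite R
        ((S ⧸ Ideal.span ({e} : Set S)) ⧸ (maximalIdeal R).map (algebraMap R (S ⧸ Ideal.span ({e} : Set S)))) := by
      let g : (S ⧸ (maximalIdeal R).map (algebraMap R S)) →ₐ[R]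
          (S ⧸ Ideal.span ({e} : Set S)) ⧸ (maximalIdeal R).map (algebraMap R (S ⧸ Ideal.span ({e} : Set S))) :=
        Ideal.Quotient.liftₐ _ ((Ideal.Quotient.mkₐ R _).comp (Ideal.Quotient.mkₐ R _)) fun x hx => by
          change Ideal.Quotient.mk _ (π x) = 0
          rw [Ideal.Quotient.eq_zero_iff_mem,
            IsScalarTower.algebraMap_eq R S (S ⧸ Ideal.span ({e} : Set S)), ← Ideal.map_map]
          exact Ideal.mem_map_of_mem _ hx
      refine Module.Finite.of_surjective g.toLinearMap fun y => ?_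
      obtain ⟨y, rfl⟩ := Ideal.Quotient.mk_surjective y
      obtain ⟨y, rfl⟩ := Ideal.Quotient.mk_surjective y
      exact ⟨Ideal.Quotient.mk _ y, rfl⟩
    haveI := hover
    exact hno (Q.map π) hover (quasiFiniteAt_of_finite_fibre _)
  obtain ⟨a, ha, b, hb, hab⟩ := Submodule.mem_sup.mp ((Ideal.eq_top_iff_one _).mp htop)
  obtain ⟨c, rfl⟩ := Ideal.mem_span_singleton'.mp hb
  have h : 1 - e = (1 - e) * a := by
    have h2 : (1 - e) * (c * e) = 0 := by
      rw [mul_left_comm, sub_mul, _root_.one_mul, he.eq, sub_self, mul_zero]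
    calc 1 - e = (1 - e) * (a + c * e) := by rw [hab, _root_.mul_one]
      _ = (1 - e) * a := by rw [mul_add, h2, add_zero]
  rw [h]
  exact Ideal.mul_mem_left _ _ ha

/-- Finite approximations of the closed part of the torsion. -/
theorem exists_level_idem {A : Type u} [CommRing A] [HenselianLocalRing A] {C : Type u} [CommRing C] [HopfAlgebra A C]
    [Algebra.FiniteType A C] (hs : SGA3b.IsMultType (ResidueField A) (ResidueField A ⊗[A] C)) {n : ℕ} (hn : 0 < n) :
    ∃ f : C, f ∈ (maximalIdeal A).map (algebraMap A C) ∧ f * f - f ∈ SGA3b.torsionIdeal A C n ∧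
      Module.Finite A (C ⧸ (Ideal.span {f} ⊔ SGA3b.torsionIdeal A C n)) := by
  let k := ResidueField A
  let J := SGA3b.torsionIdeal A C n
  let Cn := C ⧸ J
  obtain ⟨R', _, _, _, M, _, hff, -, ⟨η⟩⟩ := GrothLib.Hopf.exists_local_chart hs
  haveI := hff
  obtain ⟨g, hg⟩ := exists_frame_of_equiv η
  haveI : Group.FG M := fg_of_frame hg
  haveI := finite_torsion_of_frame hg hn
  haveI : Module.Finite A ((k ⊗[A] C) ⧸ SGA3b.torsionIdeal k (k ⊗[A] C) n) :=
    Module.Finite.trans k _
  let φ : k →ₐ[A] Cn ⧸ (maximalIdeal A).map (algebraMap A Cn) :=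
    Ideal.Quotient.liftₐ (maximalIdeal A) (Algebra.ofId A _) fun a ha => by
      change algebraMap A (Cn ⧸ (maximalIdeal A).map (algebraMap A Cn)) a = 0
      rw [IsScalarTower.algebraMap_apply A Cn, Ideal.Quotient.algebraMap_eq, Ideal.Quotient.eq_zero_iff_mem]
      exact Ideal.mem_map_of_mem _ ha
  let ψ : k ⊗[A] C →ₐ[A] Cn ⧸ (maximalIdeal A).map (algebraMap A Cn) :=
    Algebra.TensorProduct.lift φ ((Ideal.Quotient.mkₐ A _).comp (Ideal.Quotient.mkₐ A J)) fun _ _ => Commute.all _ _
  have hψ : SGA3b.torsionIdeal k (k ⊗[A] C) n ≤ RingHom.ker ψ := by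
    rw [torsionIdeal_baseChange]
    refine Ideal.map_le_iff_le_comap.mpr fun x hx => ?_
    rw [Ideal.mem_comap, RingHom.mem_ker]
    change ψ ((1 : k) ⊗ₜ[A] x) = 0
    rw [Algebra.TensorProduct.lift_tmul, map_one, _root_.one_mul]
    change Ideal.Quotient.mk _ (Ideal.Quotient.mk J x) = 0
    rw [show Ideal.Quotient.mk J x = 0 from Ideal.Quotient.eq_zero_iff_mem.mpr hx, map_zero]
  haveI : Module.Finite A (Cn ⧸ (maximalIdeal A).map (algebraMap A Cn)) := by
    refine Module.Finite.of_surjective (Ideal.Quotient.liftₐ _ ψ fun x hx => hψ hx).toLinearMap fun y => ?_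
    obtain ⟨y, rfl⟩ := Ideal.Quotient.mk_surjective y
    obtain ⟨y, rfl⟩ := Ideal.Quotient.mk_surjective y
    refine ⟨Ideal.Quotient.mk _ ((1 : k) ⊗ₜ[A] y), ?_⟩
    change ψ ((1 : k) ⊗ₜ[A] y) = _
    rw [Algebra.TensorProduct.lift_tmul, map_one, _root_.one_mul]
    rfl
  obtain ⟨f', hf', hf'm, hfin⟩ := exists_idem_of_finite_fibre (R := A) (S := Cn)
  rw [IsScalarTower.algebraMap_eq A C Cn, ← Ideal.map_map] at hf'm
  obtain ⟨f, hf, hff'⟩ := (Ideal.mem_map_iff_of_surjective _ Ideal.Quotient.mk_surjective).mp hf'm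
  refine ⟨f, hf, ?_, ?_⟩
  · rw [← Ideal.Quotient.eq_zero_iff_mem, map_sub, map_mul, sub_eq_zero]
    rw [show Ideal.Quotient.mk (SGA3b.torsionIdeal A C n) f = f' from hff']
    exact hf'.eq
  · let ν : Cn ⧸ Ideal.span {f'} →ₐ[A] C ⧸ (Ideal.span {f} ⊔ J) :=
      Ideal.Quotient.liftₐ _ (Ideal.Quotient.factorₐ A (le_sup_right : J ≤ Ideal.span {f} ⊔ J)) fun x hx => by
        obtain ⟨d, rfl⟩ := Ideal.mem_span_singleton'.mp hx
        rw [map_mul, ← hff']
        change _ * Ideal.Quotient.mk _ f = 0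
        rw [Ideal.Quotient.eq_zero_iff_mem.mpr (Ideal.mem_sup_left (Ideal.mem_span_singleton_self f)), mul_zero]
    refine Module.Finite.of_surjective ν.toLinearMap fun y => ?_
    obtain ⟨y, rfl⟩ := Ideal.Quotient.mk_surjective y
    exact ⟨Ideal.Quotient.mk _ (Ideal.Quotient.mk J y), rfl⟩

end GrothLib.MultLift
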