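import Groth.Agent.Lib.MultLift.Residue
import Groth.Agent.Lib.MultLift.DescClopen
import Groth.Agent.Lib.MultLift.LevelIdem
import Groth.Agent.Lib.MultLocal.DescIdem
import Groth.Agent.Lib.MultLocal.LocalCrit
import Groth.Agent.Lib.Hensel.Local
import Groth.Agent.Lib.AdicExtra.Completion
import Groth.Agent.S5285
import Groth.Agent.S2969

/-!
Homomorphisms to a group with closed fibre of multiplicative type: descent from the completion.
-/

universe u

set_option linter.style.haveILetI false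
set_option maxSynthPendingDepth 3

open TensorProduct IsLocalRing

namespace GrothLib.MultLift

open GrothLib.MultLocal

/-- An idempotent in the radical part of a group of multiplicative type over a local ring vanishes. -/
theorem eq_zero_of_idem_multType {R : Type u} [CommRing R] [IsLocalRing R] {H : Type u} [CommRing H] [HopfAlgebra R H]
    (h : SGA3b.IsMultType R H) {x : H} (hx : IsIdempotentElem x) (hxm : x ∈ (maximalIdeal R).map (algebraMap R H)) :
    x = 0 := by
  obtain ⟨R', _, _, _, M, _, hff, hmax, ⟨η⟩⟩ := GrothLib.Hopf.exists_local_chart h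
  haveI := hff
  refine Module.FaithfullyFlat.tensorProduct_mk_injective (A := R) (B := R') H ?_
  simp only [TensorProduct.mk_apply, tmul_zero]
  refine (map_eq_zero_iff η (EquivLike.injective η)).mp ?_
  let θ : H →ₐ[R] MonoidAlgebra R' M :=
    ((η.toAlgEquiv : R' ⊗[R] H →ₐ[R'] MonoidAlgebra R' M).restrictScalars R).comp Algebra.TensorProduct.includeRight
  change θ x = 0
  refine eq_zero_of_idem_mem (J := maximalIdeal R') (maximalIdeal_le_jacobson ⊥) (hx.map θ) fun m => ?_
  have h1 := Ideal.mem_map_of_mem (θ : H →+* MonoidAlgebra R' M) hxm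
  rw [Ideal.map_map, AlgHom.comp_algebraMap, IsScalarTower.algebraMap_eq R R' (MonoidAlgebra R' M),
    ← Ideal.map_map] at h1
  have h2 : θ x ∈ (maximalIdeal R') • (⊤ : Submodule R' (MonoidAlgebra R' M)) := by
    rw [Ideal.smul_top_eq_map]; exact Ideal.map_mono hmax h1
  refine Submodule.smul_induction_on (p := fun z => z.coeff m ∈ maximalIdeal R') h2
    (fun r hr z _ => ?_) fun y z hy hz => ?_
  · rw [MonoidAlgebra.coeff_smul, Finsupp.smul_apply, smul_eq_mul]
    exact Ideal.mul_mem_right _ _ hr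
  · rw [MonoidAlgebra.coeff_add, Finsupp.add_apply]; exact add_mem hy hz

/-- The closed fibre after a local extension is isotrivial. -/
theorem isIsotrivial_residue {A : Type u} [CommRing A] [IsLocalRing A] {C : Type u} [CommRing C] [HopfAlgebra A C]
    [Algebra.FiniteType A C] (hs : SGA3b.IsMultType (ResidueField A) (ResidueField A ⊗[A] C))
    (T : Type u) [CommRing T] [IsLocalRing T] [Algebra A T] [IsLocalHom (algebraMap A T)] :
    SGA3b.IsIsotrivial (T ⧸ maximalIdeal T) ((T ⧸ maximalIdeal T) ⊗[T] (T ⊗[A] C)) := by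
  let k := ResidueField A
  let k' := T ⧸ maximalIdeal T
  letI : Field k' := Ideal.Quotient.field _
  let ρ : k →ₐ[A] k' := Ideal.Quotient.liftₐ (maximalIdeal A) (Algebra.ofId A k') fun a ha => by
    change algebraMap A k' a = 0
    rw [IsScalarTower.algebraMap_apply A T k', Ideal.Quotient.algebraMap_eq, Ideal.Quotient.eq_zero_iff_mem]
    exact (mem_maximalIdeal _).mpr fun hu => (mem_maximalIdeal _).mp ha (isUnit_of_map_unit (algebraMap A T) a hu)
  letI : Algebra k k' := ρ.toRingHom.toAlgebra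
  haveI : IsScalarTower A k k' := IsScalarTower.of_algebraMap_eq fun a => (ρ.commutes a).symm
  have h1 : SGA3b.IsMultType k' (k' ⊗[k] (k ⊗[A] C)) := isMultType_baseChange hs k'
  have h2 := isMultType_congr ((GrothLib.Hopf.cancelBaseChange A k k' C).trans
    (GrothLib.Hopf.cancelBaseChange A T k' C).symm) h1
  obtain ⟨F, _, _, hfin, hsep, N, _, -, hd⟩ := Groth.Agent.S2969.result k' (k' ⊗[T] (T ⊗[A] C)) inferInstance h2
  haveI := hfin
  haveI := hsep
  haveI : Algebra.FormallyEtale k' F := Algebra.FormallyEtale.of_isSeparable k' F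
  haveI : Algebra.FinitePresentation k' F := Algebra.FinitePresentation.of_finiteType.mp inferInstance
  haveI : Algebra.Etale k' F := ⟨inferInstance, inferInstance⟩
  exact ⟨F, inferInstance, inferInstance, inferInstance, inferInstance, inferInstance, N, inferInstance, hd⟩

/-- Flatness at the closed fibre after a local extension. -/
theorem flat_atPrime_baseChange {A : Type u} [CommRing A] [IsLocalRing A] {C : Type u} [CommRing C] [Algebra A C]
    [Algebra.FinitePresentation A C]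
    (hfl : ∀ (q : Ideal C) [q.IsPrime], Ideal.map (algebraMap A C) (maximalIdeal A) ≤ q →
      Module.Flat A (Localization.AtPrime q))
    (T : Type u) [CommRing T] [IsLocalRing T] [Algebra A T] [IsLocalHom (algebraMap A T)]
    (q : Ideal (T ⊗[A] C)) [q.IsPrime] (hq : Ideal.map (algebraMap T (T ⊗[A] C)) (maximalIdeal T) ≤ q) :
    Module.Flat T (Localization.AtPrime q) := by
  rw [← flat_localizedModule_iff]
  refine flat_stageMap (Algebra.ofId A T) q ?_
  rw [flat_localizedModule_iff]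
  refine flat_atPrime_congr (Algebra.TensorProduct.lid A C).symm _ (hfl _ ?_)
  rw [Ideal.map_le_iff_le_comap]
  intro x hx
  have h1 : algebraMap A T x ∈ maximalIdeal T := (mem_maximalIdeal _).mpr fun hu =>
    (mem_maximalIdeal _).mp hx (isUnit_of_map_unit (algebraMap A T) x hu)
  rw [Ideal.mem_comap, Ideal.mem_comap, Ideal.mem_comap]
  have h3 : (Algebra.TensorProduct.lid A C).symm (algebraMap A C x) = x ⊗ₜ[A] (1 : C) := by
    rw [AlgEquiv.commutes]; rfl
  change stageMap (Algebra.ofId A T) ((Algebra.TensorProduct.lid A C).symm (algebraMap A C x)) ∈ q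
  rw [h3]
  exact hq (Ideal.mem_map_of_mem _ h1)

/-- The idempotent lies in each finite level. -/
theorem mem_level {A : Type u} [CommRing A] {C : Type u} [CommRing C] [HopfAlgebra A C] {T : Type u} [CommRing T]
    [Algebra A T] {n : ℕ} {x : C} [Module.Finite A (C ⧸ (Ideal.span {x} ⊔ SGA3b.torsionIdeal A C n))]
    {I : Ideal T} (hI : I ≤ Ring.jacobson T) {e : T ⊗[A] C} (he : IsIdempotentElem e)
    (hem : e ∈ I.map (algebraMap T (T ⊗[A] C))) :
    e ∈ Ideal.span {(1 : T) ⊗ₜ[A] x} ⊔ SGA3b.torsionIdeal T (T ⊗[A] C) n := by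
  let S := Ideal.span {(1 : T) ⊗ₜ[A] x} ⊔ SGA3b.torsionIdeal T (T ⊗[A] C) n
  let Q := C ⧸ (Ideal.span {x} ⊔ SGA3b.torsionIdeal A C n)
  let X := (T ⊗[A] C) ⧸ S
  let ν : Q →ₐ[A] X := Ideal.Quotient.liftₐ _
    ((Ideal.Quotient.mkₐ A S).comp (Algebra.TensorProduct.includeRight : C →ₐ[A] T ⊗[A] C)) fun y hy => by
      change Ideal.Quotient.mk S ((1 : T) ⊗ₜ[A] y) = 0
      rw [Ideal.Quotient.eq_zero_iff_mem]
      have h := Ideal.mem_map_of_mem ((Algebra.TensorProduct.includeRight : C →ₐ[A] T ⊗[A] C) : C →+* T ⊗[A] C) hy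
      rw [Ideal.map_sup, Ideal.map_span, Set.image_singleton] at h
      refine (sup_le ?_ ?_ : _ ≤ S) h
      · exact le_sup_left
      · exact (torsionIdeal_baseChange T n).ge.trans le_sup_right
  let Φ : T ⊗[A] Q →ₐ[T] X := Algebra.TensorProduct.lift (Algebra.ofId T X) ν fun _ _ => Commute.all _ _
  haveI : Module.Finite T X := Module.Finite.of_surjective Φ.toLinearMap fun y => by
    obtain ⟨y, rfl⟩ := Ideal.Quotient.mk_surjective y
    induction y using TensorProduct.induction_on with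
    | zero => exact ⟨0, by simp⟩
    | add a b ha hb =>
      obtain ⟨a', ha'⟩ := ha
      obtain ⟨b', hb'⟩ := hb
      exact ⟨a' + b', by rw [map_add, ha', hb', map_add]⟩
    | tmul t c =>
      refine ⟨t ⊗ₜ Ideal.Quotient.mk _ c, ?_⟩
      change Φ (t ⊗ₜ Ideal.Quotient.mk _ c) = _
      rw [Algebra.TensorProduct.lift_tmul]
      change Ideal.Quotient.mk S (t ⊗ₜ[A] (1 : C)) * Ideal.Quotient.mk S ((1 : T) ⊗ₜ[A] c) = _
      rw [← map_mul, Algebra.TensorProduct.tmul_mul_tmul, _root_.mul_one, _root_.one_mul]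
  refine Ideal.Quotient.eq_zero_iff_mem.mp (eq_zero_of_idem_finite hI (he.map (Ideal.Quotient.mk S)) ?_)
  have h := Ideal.mem_map_of_mem (Ideal.Quotient.mk S) hem
  rwa [Ideal.map_map] at h

/-- A finite level idempotent lies in the clopen part. -/
theorem mem_clopen {T : Type u} [CommRing T] {H : Type u} [CommRing H] [HopfAlgebra T H] (e : H)
    [(Ideal.span {e}).IsHopfIdeal T] {n : ℕ}
    [Module.Finite T ((H ⧸ Ideal.span {e}) ⧸ SGA3b.torsionIdeal T (H ⧸ Ideal.span {e}) n)]
    {I : Ideal T} (hI : I ≤ Ring.jacobson T) {y : H} (hy : y * y - y ∈ SGA3b.torsionIdeal T H n)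
    (hyI : y ∈ I.map (algebraMap T H)) : y ∈ Ideal.span {e} ⊔ SGA3b.torsionIdeal T H n := by
  let S := Ideal.span {e} ⊔ SGA3b.torsionIdeal T H n
  let X := H ⧸ S
  let C₁ := H ⧸ Ideal.span {e}
  let J₁ := SGA3b.torsionIdeal T C₁ n
  let q : H →ₐc[T] C₁ := Bialgebra.Quotient.mkBialgHom (R := T) (Ideal.span {e})
  let p : C₁ →ₐ[T] X := Ideal.Quotient.factorₐ T (le_sup_left : Ideal.span {e} ≤ S)
  have hp : J₁ ≤ RingHom.ker p := by
    refine Ideal.map_le_iff_le_comap.mpr fun a ha => ?_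
    obtain ⟨a, rfl⟩ := Ideal.Quotient.mk_surjective a
    change p (SGA3b.powConv T C₁ n (q a)) = 0
    rw [← powConv_bialgHom]
    change Ideal.Quotient.mk S (SGA3b.powConv T H n a) = 0
    rw [Ideal.Quotient.eq_zero_iff_mem]
    refine Ideal.mem_sup_right (Ideal.mem_map_of_mem _ (RingHom.mem_ker.mpr ?_))
    change Coalgebra.counit (R := T) a = 0
    rw [← CoalgHomClass.counit_comp_apply q a]
    exact (RingHom.mem_ker.mp ha :)
  haveI : Module.Finite T X := Module.Finite.of_surjective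
    (Ideal.Quotient.liftₐ J₁ p fun x hx => hp hx).toLinearMap fun z => by
      obtain ⟨z, rfl⟩ := Ideal.Quotient.mk_surjective z
      exact ⟨Ideal.Quotient.mk _ (Ideal.Quotient.mk _ z), rfl⟩
  refine Ideal.Quotient.eq_zero_iff_mem.mp (eq_zero_of_idem_finite hI ?_ ?_)
  · change _ * _ = _
    rw [← map_mul, Ideal.Quotient.eq]
    exact Ideal.mem_sup_right hy
  · have h := Ideal.mem_map_of_mem (Ideal.Quotient.mk S) hyI
    rwa [Ideal.map_map] at h

theorem mem_clopen_frame {T : Type u} [CommRing T] {H : Type u} [CommRing H] [HopfAlgebra T H] (e : H)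
    [(Ideal.span {e}).IsHopfIdeal T] {E : Type u} [CommRing E] [Algebra T E] [Module.FaithfullyFlat T E] {M : Type u}
    [CommGroup M] [Group.FG M] {g : M →* GroupLike E (E ⊗[T] (H ⧸ Ideal.span {e}))} (hg : IsFrame g)
    {n : ℕ} (hn : 0 < n) {I : Ideal T} (hI : I ≤ Ring.jacobson T) {y : H}
    (hy : y * y - y ∈ SGA3b.torsionIdeal T H n) (hyI : y ∈ I.map (algebraMap T H)) :
    y ∈ Ideal.span {e} ⊔ SGA3b.torsionIdeal T H n := by
  haveI := finite_torsion_of_frame hg hn
  exact mem_clopen e hI hy hyI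

theorem mem_level_pair {A : Type u} [CommRing A] [IsLocalRing A] {C : Type u} [CommRing C] [HopfAlgebra A C]
    {T : Type u} [CommRing T] [IsLocalRing T] [Algebra A T]
    (hm : (maximalIdeal A).map (algebraMap A T) = maximalIdeal T) {n : ℕ} {x : C}
    (hx : x * x - x ∈ SGA3b.torsionIdeal A C n) (hxm : x ∈ (maximalIdeal A).map (algebraMap A C)) :
    ((1 : T) ⊗ₜ[A] x) * ((1 : T) ⊗ₜ[A] x) - (1 : T) ⊗ₜ[A] x ∈ SGA3b.torsionIdeal T (T ⊗[A] C) n ∧
      (1 : T) ⊗ₜ[A] x ∈ (maximalIdeal T).map (algebraMap T (T ⊗[A] C)) := by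
  refine ⟨?_, ?_⟩
  · rw [Algebra.TensorProduct.tmul_mul_tmul, _root_.mul_one, ← tmul_sub]
    exact (torsionIdeal_baseChange T n).ge (Ideal.mem_map_of_mem _ hx)
  · have h := Ideal.mem_map_of_mem ((Algebra.TensorProduct.includeRight : C →ₐ[A] T ⊗[A] C) : C →+* T ⊗[A] C) hxm
    rw [Ideal.map_map, AlgHom.comp_algebraMap, IsScalarTower.algebraMap_eq A T (T ⊗[A] C), ← Ideal.map_map, hm] at h
    exact h

/-- A subgroup of multiplicative type cut out by a descended idempotent descends. -/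
theorem exists_hopf_descended {A : Type u} [CommRing A] {C : Type u} [CommRing C] [HopfAlgebra A C] {T : Type u}
    [CommRing T] [Algebra A T] [Module.FaithfullyFlat A T] {e₀ : C} (he₀ : IsIdempotentElem e₀) (e : T ⊗[A] C)
    [(Ideal.span {e}).IsHopfIdeal T] (he₀e : (1 : T) ⊗ₜ[A] e₀ = e)
    {E : Type u} [CommRing E] [Algebra T E] [Module.FaithfullyFlat T E] {M : Type u} [CommGroup M]
    {g : M →* GroupLike E (E ⊗[T] ((T ⊗[A] C) ⧸ Ideal.span {e}))} (hg : IsFrame g) :
    ∃ _ : (Ideal.span {e₀}).IsHopfIdeal A, SGA3b.IsMultType A (C ⧸ Ideal.span {e₀}) := by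
  letI : Algebra A E := Algebra.compHom E (algebraMap A T)
  haveI : IsScalarTower A T E := IsScalarTower.of_algebraMap_eq fun _ => rfl
  haveI : Module.FaithfullyFlat A E := Module.FaithfullyFlat.trans A T E
  let C₁ := (T ⊗[A] C) ⧸ Ideal.span {e}
  let q : T ⊗[A] C →ₐc[T] C₁ := Bialgebra.Quotient.mkBialgHom (R := T) (Ideal.span {e})
  let c := GrothLib.Hopf.cancelBaseChange A T E C
  let p : E ⊗[A] C →ₐc[E] MonoidAlgebra E M :=
    ((hg.equiv.symm : E ⊗[T] C₁ →ₐc[E] MonoidAlgebra E M).comp (projT q E)).comp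
      (c.symm : E ⊗[A] C →ₐc[E] E ⊗[T] (T ⊗[A] C))
  have hce : c ((1 : E) ⊗ₜ[T] e) = (1 : E) ⊗ₜ[A] e₀ := by
    rw [← he₀e, GrothLib.Hopf.cancelBaseChange_tmul, one_smul]
  have hp : Function.Surjective p := by
    refine ((EquivLike.surjective hg.equiv.symm).comp fun y => ?_).comp (EquivLike.surjective c.symm)
    induction y using TensorProduct.induction_on with
    | zero => exact ⟨0, map_zero _⟩
    | add u v hu hv =>
      obtain ⟨a, rfl⟩ := hu
      obtain ⟨b, rfl⟩ := hv
      exact ⟨a + b, map_add _ _ _⟩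
    | tmul t x =>
      obtain ⟨x, rfl⟩ := Ideal.Quotient.mk_surjective x
      exact ⟨t ⊗ₜ x, rfl⟩
  have hk : ∀ z, p z = 0 ↔ c.symm z ∈ Ideal.span {(1 : E) ⊗ₜ[T] e} := by
    intro z
    have h1 : p z = 0 ↔ projT q E (c.symm z) = 0 := map_eq_zero_iff _ (EquivLike.injective hg.equiv.symm)
    have h2 := Algebra.TensorProduct.lTensor_ker (A := E) (Ideal.Quotient.mkₐ T (Ideal.span {e}))
      (Ideal.Quotient.mkₐ_surjective T _)
    rw [h1]
    change Algebra.TensorProduct.map (AlgHom.id T E) (Ideal.Quotient.mkₐ T (Ideal.span {e})) (c.symm z) = 0 ↔ _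
    rw [← RingHom.mem_ker, h2, show RingHom.ker (Ideal.Quotient.mkₐ T (Ideal.span {e})) = Ideal.span {e} from
      Ideal.mk_ker, Ideal.map_span, Set.image_singleton]
    rfl
  obtain ⟨hK, ⟨ε⟩⟩ := exists_hopfIdeal_of_idem e₀ p hp
    ((hk _).mpr (by rw [← hce, BialgEquiv.symm_apply_apply]; exact Ideal.mem_span_singleton_self _))
    fun z hz => by
      obtain ⟨d, hd⟩ := Ideal.mem_span_singleton'.mp ((hk z).mp hz)
      have hz' : z = c d * ((1 : E) ⊗ₜ[A] e₀) := by
        rw [← hce, ← map_mul, hd, BialgEquiv.apply_symm_apply]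
      rw [hz', mul_left_comm, Algebra.TensorProduct.tmul_mul_tmul, _root_.mul_one, he₀.eq]
  obtain ⟨g₀, hg₀⟩ := exists_frame_of_equiv ε
  exact ⟨hK, isMultType_of_frame hg₀⟩

/-- A clopen subgroup of multiplicative type over a henselian local ring, descended from a complete ring. -/
theorem exists_idem_clopen {A : Type u} [CommRing A] [HenselianLocalRing A] {C : Type u} [CommRing C] [HopfAlgebra A C]
    [Algebra.FiniteType A C] (hs : SGA3b.IsMultType (ResidueField A) (ResidueField A ⊗[A] C))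
    (T : Type u) [CommRing T] [IsLocalRing T] [Algebra A T] [Module.FaithfullyFlat A T]
    (hm : (maximalIdeal A).map (algebraMap A T) = maximalIdeal T) (e : T ⊗[A] C) (he : IsIdempotentElem e)
    (hem : e ∈ (maximalIdeal T).map (algebraMap T (T ⊗[A] C))) [(Ideal.span {e}).IsHopfIdeal T]
    (hiso : SGA3b.IsIsotrivial T ((T ⊗[A] C) ⧸ Ideal.span {e})) :
    ∃ e₀ : C, (1 : T) ⊗ₜ[A] e₀ = e ∧ ∃ _ : (Ideal.span {e₀}).IsHopfIdeal A,
      SGA3b.IsMultType A (C ⧸ Ideal.span {e₀}) := by
  obtain ⟨E, _, _, -, -, hEff, M, _, ⟨ηE⟩⟩ := hiso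
  haveI := hEff
  obtain ⟨g, hg⟩ := exists_frame_of_equiv ηE
  haveI : FaithfulSMul T E := Module.FaithfullyFlat.faithfulSMul
  haveI : Nontrivial E := (FaithfulSMul.algebraMap_injective T E).nontrivial
  haveI : Group.FG M := fg_of_frame hg
  choose f hfm hfJ hfin using fun n (hn : 0 < n) => exists_level_idem (C := C) hs hn
  let f' : ℕ → C := fun n => if h : 0 < n then f n h else 0
  have hf' : ∀ n (hn : 0 < n), f' n = f n hn := fun n hn => dif_pos hn
  have hJ : maximalIdeal T ≤ Ring.jacobson T := (IsLocalRing.ringJacobson_eq_maximalIdeal T).ge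
  have h1 : ∀ n, 0 < n → e ∈ Ideal.span {(1 : T) ⊗ₜ[A] f' n} ⊔ SGA3b.torsionIdeal T (T ⊗[A] C) n := fun n hn => by
    rw [hf' n hn]
    haveI := hfin n hn
    exact mem_level hJ he hem
  have h2 : ∀ n, 0 < n → (1 : T) ⊗ₜ[A] f' n ∈ Ideal.span {e} ⊔ SGA3b.torsionIdeal T (T ⊗[A] C) n := fun n hn => by
    rw [hf' n hn]
    have h := mem_level_pair (T := T) hm (hfJ n hn) (hfm n hn)
    exact mem_clopen_frame e hg hn hJ h.1 h.2
  obtain ⟨e₀, he₀, he₀e⟩ := exists_descended e he hg f' h1 h2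
  exact ⟨e₀, he₀e, exists_hopf_descended he₀ e he₀e hg⟩

end GrothLib.MultLift

namespace GrothLib.MultLift

open GrothLib.MultLocal

/-- Homomorphisms after a local base change are determined on the closed fibre. -/
theorem hom_ext_residue {A : Type u} [CommRing A] [IsLocalRing A] {B C : Type u} [CommRing B] [HopfAlgebra A B]
    [CommRing C] [HopfAlgebra A C] [Algebra.FiniteType A B] [Algebra.FiniteType A C] (hG : SGA3b.IsMultType A B)
    (hH : SGA3b.IsMultType A C) {T : Type u} [CommRing T] [HenselianLocalRing T] [Algebra A T]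
    (χ : T →ₐ[A] ResidueField A) (hker : RingHom.ker (χ : T →+* ResidueField A) ≤ maximalIdeal T)
    (ρ : ResidueField A →ₐ[A] ResidueField T) (u v : T ⊗[A] C →ₐc[T] T ⊗[A] B)
    (h : ∀ c, coefMap B χ (u ((1 : T) ⊗ₜ[A] c)) = coefMap B χ (v ((1 : T) ⊗ₜ[A] c))) : u = v := by
  let k' := ResidueField T
  have hres : ∀ t : T, algebraMap T k' t = ρ (χ t) := fun t => by
    obtain ⟨a, ha⟩ := Ideal.Quotient.mk_surjective (χ t)
    have h0 : t - algebraMap A T a ∈ maximalIdeal T := hker (by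
      rw [RingHom.mem_ker, map_sub, show (χ : T →+* ResidueField A) (algebraMap A T a) = χ t from
        (χ.commutes a).trans ha]
      exact sub_self _)
    rw [← ha]
    change _ = ρ (algebraMap A (ResidueField A) a)
    rw [ρ.commutes, IsScalarTower.algebraMap_apply A T k', ← sub_eq_zero, ← map_sub]
    exact Ideal.Quotient.eq_zero_iff_mem.mpr h0
  let res : T →ₐ[A] k' := IsScalarTower.toAlgHom A T k'
  let cc := GrothLib.Hopf.cancelBaseChange A T k' B
  have hcomp : res = ρ.comp χ := AlgHom.ext hres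
  refine (reduction_bijective (isMultType_baseChange hG T) (isMultType_baseChange hH T)).1 u v fun z => ?_
  refine EquivLike.injective cc ?_
  rw [cancel_one_tmul res (fun t => rfl), cancel_one_tmul res (fun t => rfl), hcomp, ← coefMap_comp, ← coefMap_comp]
  refine congrArg _ ?_
  induction z using TensorProduct.induction_on with
  | zero => simp
  | add a b ha hb => simp only [map_add, ha, hb]
  | tmul t c =>
    rw [show t ⊗ₜ[A] c = t • ((1 : T) ⊗ₜ[A] c) by rw [smul_tmul', smul_eq_mul, _root_.mul_one], map_smul u, map_smul v,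
      coefMap_smul, coefMap_smul, h]

/-- Descent of homomorphisms from a complete extension with the same residue field. -/
theorem exists_hom_descended {A : Type u} [CommRing A] [HenselianLocalRing A] {B C : Type u} [CommRing B]
    [HopfAlgebra A B] [CommRing C] [HopfAlgebra A C] [Algebra.FiniteType A B] [Algebra.FiniteType A C]
    (hG : SGA3b.IsMultType A B) {T : Type u} [CommRing T] [HenselianLocalRing T] [Algebra A T]
    (χ : T →ₐ[A] ResidueField A) (hker : RingHom.ker (χ : T →+* ResidueField A) ≤ maximalIdeal T)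
    (ρ : ResidueField A →ₐ[A] ResidueField T) (e₀ : C) [(Ideal.span {e₀}).IsHopfIdeal A]
    (hC : SGA3b.IsMultType A (C ⧸ Ideal.span {e₀})) (ψ : T ⊗[A] C →ₐc[T] T ⊗[A] B)
    (hψ : ψ ((1 : T) ⊗ₜ[A] e₀) = 0) :
    ∃ φ : C →ₐc[A] B, ∀ c, ψ ((1 : T) ⊗ₜ[A] c) = (1 : T) ⊗ₜ[A] φ c := by
  let C₀ := C ⧸ Ideal.span {e₀}
  let q₀ : C →ₐc[A] C₀ := Bialgebra.Quotient.mkBialgHom (R := A) (Ideal.span {e₀})
  let qT : T ⊗[A] C →ₐc[T] T ⊗[A] C₀ := projT q₀ T
  have hqs : Function.Surjective qT := fun y => by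
    induction y using TensorProduct.induction_on with
    | zero => exact ⟨0, map_zero _⟩
    | add a b ha hb =>
      obtain ⟨a', rfl⟩ := ha
      obtain ⟨b', rfl⟩ := hb
      exact ⟨a' + b', map_add _ _ _⟩
    | tmul t c =>
      obtain ⟨c, rfl⟩ := Ideal.Quotient.mk_surjective c
      exact ⟨t ⊗ₜ c, rfl⟩
  obtain ⟨ψ', hψ'⟩ := exists_factor_surjective qT hqs ψ fun z hz => by
    have h2 := Algebra.TensorProduct.lTensor_ker (A := T) (Ideal.Quotient.mkₐ A (Ideal.span {e₀}))
      (Ideal.Quotient.mkₐ_surjective A _)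
    have hz' : z ∈ RingHom.ker (Algebra.TensorProduct.map (AlgHom.id A T) (Ideal.Quotient.mkₐ A (Ideal.span {e₀}))) :=
      RingHom.mem_ker.mpr hz
    rw [h2, show RingHom.ker (Ideal.Quotient.mkₐ A (Ideal.span {e₀})) = Ideal.span {e₀} from Ideal.mk_ker,
      Ideal.map_span, Set.image_singleton] at hz'
    obtain ⟨d, rfl⟩ := Ideal.mem_span_singleton'.mp hz'
    rw [map_mul]
    change _ * ψ ((1 : T) ⊗ₜ[A] e₀) = 0
    rw [hψ, mul_zero]
  obtain ⟨φ₀, hφ₀⟩ := exists_bc_hom χ ψ'
  obtain ⟨φ, hφ⟩ := (reduction_bijective hG hC).2 φ₀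
  have heq : ψ' = Bialgebra.TensorProduct.map (BialgHom.id T T) φ :=
    hom_ext_residue hG hC χ hker ρ _ _ fun c => by
      rw [← hφ₀, coefMap_tmul, map_one, hφ]
      change _ = coefMap B χ ((1 : T) ⊗ₜ[A] φ c)
      rw [coefMap_tmul, map_one]
  refine ⟨φ.comp q₀, fun c => ?_⟩
  rw [← hψ', heq]
  rfl

end GrothLib.MultLift
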