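import Mathlib.RingTheory.Bialgebra.Convolution
import Mathlib.RingTheory.HopfAlgebra.Convolution
import Mathlib.RingTheory.Ideal.Quotient.Operations
import Mathlib.RingTheory.Smooth.Basic

/-!
Linear maps out of a Hopf algebra under convolution, modulo ideals.
-/

universe u

set_option linter.style.haveILetI false

open TensorProduct WithConv

namespace GrothLib.MultLift

variable {R : Type u} [CommRing R] {C : Type u} [CommRing C] [HopfAlgebra R C]
  {S T : Type u} [CommRing S] [Algebra R S] [CommRing T] [Algebra R T]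

/-- A point as a linear map. -/
noncomputable def pt (φ : C →ₐ[R] S) : WithConv (C →ₗ[R] S) := toConv φ.toLinearMap

@[simp] theorem pt_apply (φ : C →ₐ[R] S) (c : C) : (pt φ).ofConv c = φ c := rfl

theorem pt_one : pt ((Algebra.ofId R S).comp (Bialgebra.counitAlgHom R C)) = 1 := rfl

theorem pt_mul (φ ψ : C →ₐ[R] S) : pt φ * pt ψ = pt (toConv φ * toConv ψ).ofConv :=
  (AlgHom.toLinearMap_convMul (toConv φ) (toConv ψ)).symm

theorem pt_injective : Function.Injective (pt (R := R) (C := C) (S := S)) := fun φ ψ h =>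
  AlgHom.ext fun c => congrArg (fun x : WithConv (C →ₗ[R] S) => x.ofConv c) h

/-- Pushing forward along an algebra map. -/
noncomputable def pu (i : S →ₐ[R] T) : WithConv (C →ₗ[R] S) →+* WithConv (C →ₗ[R] T) where
  toFun x := toConv (i.toLinearMap ∘ₗ x.ofConv)
  map_one' := WithConv.ext (LinearMap.ext fun c => by simp)
  map_mul' x y := WithConv.ext (LinearMap.algHom_comp_convMul_distrib i x y)
  map_zero' := WithConv.ext (LinearMap.ext fun c => by simp)
  map_add' x y := WithConv.ext (LinearMap.ext fun c => by simp)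

@[simp] theorem pu_apply (i : S →ₐ[R] T) (x : WithConv (C →ₗ[R] S)) (c : C) : (pu i x).ofConv c = i (x.ofConv c) :=
  rfl

theorem pu_pu {U : Type u} [CommRing U] [Algebra R U] (i : S →ₐ[R] T) (k : T →ₐ[R] U) (x : WithConv (C →ₗ[R] S)) :
    pu k (pu i x) = pu (k.comp i) x := rfl

theorem pu_pt (i : S →ₐ[R] T) (φ : C →ₐ[R] S) : pu i (pt φ) = pt (i.comp φ) := rfl

/-- The inverse of a point. -/
noncomputable def ptInv (φ : C →ₐ[R] S) : WithConv (C →ₗ[R] S) := pt (φ.comp (HopfAlgebra.antipodeAlgHom R C))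

theorem ptInv_eq (φ : C →ₐ[R] S) : ptInv φ = pu φ (toConv (HopfAlgebra.antipode R (A := C))) := rfl

theorem ptInv_mul (φ : C →ₐ[R] S) : ptInv φ * pt φ = 1 := by
  rw [ptInv_eq, show pt φ = pu φ (toConv LinearMap.id) from rfl, ← map_mul, LinearMap.antipode_mul_id, map_one]

theorem mul_ptInv (φ : C →ₐ[R] S) : pt φ * ptInv φ = 1 := by
  rw [ptInv_eq, show pt φ = pu φ (toConv LinearMap.id) from rfl, ← map_mul, LinearMap.id_mul_antipode, map_one]

/-- Pushing forward along a linear map. -/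
noncomputable def lu (ρ : T →ₗ[R] S) : WithConv (C →ₗ[R] T) →+ WithConv (C →ₗ[R] S) where
  toFun x := toConv (ρ ∘ₗ x.ofConv)
  map_zero' := WithConv.ext (LinearMap.ext fun c => by simp)
  map_add' x y := WithConv.ext (LinearMap.ext fun c => by simp)

@[simp] theorem lu_apply (ρ : T →ₗ[R] S) (x : WithConv (C →ₗ[R] T)) (c : C) :
    (lu ρ x).ofConv c = ρ (x.ofConv c) := rfl

theorem lu_one (ρ : T →ₗ[R] S) (h : ρ 1 = 1) : lu ρ (1 : WithConv (C →ₗ[R] T)) = 1 := by
  refine WithConv.ext (LinearMap.ext fun c => ?_)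
  rw [lu_apply]
  simp [Algebra.algebraMap_eq_smul_one, h]

theorem lu_pu_mul (ρ : T →ₗ[R] S) (i : S →ₐ[R] T) (h : ∀ a t, ρ (i a * t) = a * ρ t)
    (a : WithConv (C →ₗ[R] S)) (x : WithConv (C →ₗ[R] T)) : lu ρ (pu i a * x) = a * lu ρ x := by
  refine WithConv.ext (LinearMap.ext fun c => ?_)
  rw [lu_apply, LinearMap.convMul_apply, LinearMap.convMul_apply]
  induction Coalgebra.comul (R := R) c using TensorProduct.induction_on with
  | zero => simp
  | add x y hx hy => simp only [map_add, hx, hy]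
  | tmul u v => simp [h]

theorem lu_mul_pu (ρ : T →ₗ[R] S) (i : S →ₐ[R] T) (h : ∀ a t, ρ (i a * t) = a * ρ t)
    (a : WithConv (C →ₗ[R] S)) (x : WithConv (C →ₗ[R] T)) : lu ρ (x * pu i a) = lu ρ x * a := by
  refine WithConv.ext (LinearMap.ext fun c => ?_)
  rw [lu_apply, LinearMap.convMul_apply, LinearMap.convMul_apply]
  induction Coalgebra.comul (R := R) c using TensorProduct.induction_on with
  | zero => simp
  | add x y hx hy => simp only [map_add, hx, hy]
  | tmul u v =>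
    simp only [TensorProduct.map_tmul, LinearMap.mul'_apply, pu_apply, lu_apply]
    rw [mul_comm (x.ofConv u), h, mul_comm]

/-- The linear maps with values in an ideal. -/
def Z (L : Ideal S) : AddSubgroup (WithConv (C →ₗ[R] S)) where
  carrier := {x | ∀ c, x.ofConv c ∈ L}
  zero_mem' := fun c => by simp
  add_mem' := fun {x y} hx hy c => by
    rw [WithConv.ofConv_add, LinearMap.add_apply]; exact L.add_mem (hx c) (hy c)
  neg_mem' := fun {x} hx c => by
    rw [WithConv.ofConv_neg, LinearMap.neg_apply]; exact L.neg_mem (hx c)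

theorem mem_Z {L : Ideal S} {x : WithConv (C →ₗ[R] S)} : x ∈ Z L ↔ ∀ c, x.ofConv c ∈ L := Iff.rfl

theorem Z_mono {L L' : Ideal S} (h : L ≤ L') : Z (R := R) (C := C) L ≤ Z L' := fun _ hx c => h (hx c)

theorem mul_mem_Z {L L' : Ideal S} {x y : WithConv (C →ₗ[R] S)} (hx : x ∈ Z L) (hy : y ∈ Z L') :
    x * y ∈ Z (L * L') := fun c => by
  rw [LinearMap.convMul_apply]
  induction Coalgebra.comul (R := R) c using TensorProduct.induction_on with
  | zero => simp
  | add u v hu hv => rw [map_add, map_add]; exact add_mem hu hv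
  | tmul u v => simpa using Ideal.mul_mem_mul (hx u) (hy v)

theorem mul_mem_Z_left {L : Ideal S} {x : WithConv (C →ₗ[R] S)} (hx : x ∈ Z L) (y : WithConv (C →ₗ[R] S)) :
    y * x ∈ Z L := by
  have h : y * x ∈ Z ((⊤ : Ideal S) * L) := mul_mem_Z (fun _ => Submodule.mem_top) hx
  exact fun c => Ideal.mul_le_right (h c)

theorem mul_mem_Z_right {L : Ideal S} {x : WithConv (C →ₗ[R] S)} (hx : x ∈ Z L) (y : WithConv (C →ₗ[R] S)) :
    x * y ∈ Z L := by
  have hy : y ∈ Z (R := R) (C := C) (⊤ : Ideal S) := fun _ => Submodule.mem_top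
  have h := mul_mem_Z (R := R) (C := C) (L := L) (L' := (⊤ : Ideal S)) (x := x) (y := y) hx hy
  rw [Ideal.mul_top] at h
  exact h

theorem pu_mem_Z {K : Ideal R} (i : S →ₐ[R] T) {x : WithConv (C →ₗ[R] S)}
    (hx : x ∈ Z (K.map (algebraMap R S))) : pu i x ∈ Z (K.map (algebraMap R T)) := fun c => by
  have := Ideal.mem_map_of_mem (i : S →+* T) (hx c)
  rwa [Ideal.map_map, AlgHom.comp_algebraMap] at this

theorem map_mem_of_linear (ρ : T →ₗ[R] S) (K : Ideal R) {t : T} (ht : t ∈ K.map (algebraMap R T)) :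
    ρ t ∈ K.map (algebraMap R S) := by
  have h1 : t ∈ K • (⊤ : Submodule R T) := by rw [Ideal.smul_top_eq_map]; exact ht
  have h2 := Submodule.mem_map_of_mem (f := ρ) h1
  rw [Submodule.map_smul''] at h2
  have h3 : ρ t ∈ K • (⊤ : Submodule R S) := Submodule.smul_mono (le_refl K) le_top h2
  rw [Ideal.smul_top_eq_map] at h3
  exact h3

theorem lu_mem_Z {K : Ideal R} (ρ : T →ₗ[R] S) {x : WithConv (C →ₗ[R] T)}
    (hx : x ∈ Z (K.map (algebraMap R T))) : lu ρ x ∈ Z (K.map (algebraMap R S)) := fun c =>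
  map_mem_of_linear ρ K (hx c)

/-- A linear map multiplicative modulo an ideal. -/
def IsMulMod (L : Ideal S) (x : WithConv (C →ₗ[R] S)) : Prop :=
  x.ofConv 1 - 1 ∈ L ∧ ∀ c c', x.ofConv (c * c') - x.ofConv c * x.ofConv c' ∈ L

theorem isMulMod_pt (L : Ideal S) (φ : C →ₐ[R] S) : IsMulMod L (pt φ) :=
  ⟨by simp [pt], fun c c' => by simp [pt]⟩

theorem IsMulMod.exists_algHom {L : Ideal S} {x : WithConv (C →ₗ[R] S)} (hx : IsMulMod L x) :
    ∃ φ : C →ₐ[R] S ⧸ L, ∀ c, φ c = Ideal.Quotient.mk L (x.ofConv c) :=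
  ⟨AlgHom.ofLinearMap ((Ideal.Quotient.mkₐ R L).toLinearMap ∘ₗ x.ofConv)
    (by
      change Ideal.Quotient.mk L (x.ofConv 1) = 1
      rw [← map_one (Ideal.Quotient.mk L)]
      exact Ideal.Quotient.eq.mpr hx.1)
    (fun c c' => by
      change Ideal.Quotient.mk L (x.ofConv (c * c')) = Ideal.Quotient.mk L (x.ofConv c) * Ideal.Quotient.mk L (x.ofConv c')
      rw [← map_mul]
      exact Ideal.Quotient.eq.mpr (hx.2 c c')), fun _ => rfl⟩

theorem IsMulMod.mul {L : Ideal S} {x y : WithConv (C →ₗ[R] S)} (hx : IsMulMod L x) (hy : IsMulMod L y) :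
    IsMulMod L (x * y) := by
  obtain ⟨φ, hφ⟩ := hx.exists_algHom
  obtain ⟨ψ, hψ⟩ := hy.exists_algHom
  have hφ' : pu (Ideal.Quotient.mkₐ R L) x = pt φ := WithConv.ext (LinearMap.ext fun c => (hφ c).symm)
  have hψ' : pu (Ideal.Quotient.mkₐ R L) y = pt ψ := WithConv.ext (LinearMap.ext fun c => (hψ c).symm)
  have h : ∀ c, Ideal.Quotient.mk L ((x * y).ofConv c) = (toConv φ * toConv ψ).ofConv c := fun c => by
    rw [← pt_apply (toConv φ * toConv ψ).ofConv c, ← pt_mul, ← hφ', ← hψ', ← map_mul]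
    rfl
  refine ⟨Ideal.Quotient.eq.mp (by rw [h, map_one, map_one]), fun c c' => Ideal.Quotient.eq.mp ?_⟩
  rw [map_mul (Ideal.Quotient.mk L) _ _, h, h, h, map_mul]

/-- A point congruent to a multiplicative map. -/
theorem IsMulMod.exists_lift [Algebra.FormallySmooth R C] {L : Ideal S} (hL : IsNilpotent L)
    {x : WithConv (C →ₗ[R] S)} (hx : IsMulMod L x) : ∃ φ : C →ₐ[R] S, pt φ - x ∈ Z L := by
  obtain ⟨ψ, hψ⟩ := hx.exists_algHom
  refine ⟨Algebra.FormallySmooth.lift L hL ψ, fun c => ?_⟩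
  change (pt (Algebra.FormallySmooth.lift L hL ψ) - x).ofConv c ∈ L
  rw [WithConv.ofConv_sub, LinearMap.sub_apply, ← Ideal.Quotient.eq, pt_apply, Algebra.FormallySmooth.mk_lift, hψ]

end GrothLib.MultLift
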