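import Groth.Agent.Lib.MultLift.KernelType
import Mathlib.RingTheory.RingHom.Flat
import Mathlib.RingTheory.Spectrum.Prime.Topology
import Mathlib.RingTheory.LocalProperties.Submodule

/-!
Closed subgroups of multiplicative type of a diagonalisable group over a connected base.
-/

universe u

set_option linter.style.haveILetI false
set_option maxSynthPendingDepth 3

open TensorProduct MonoidAlgebra

namespace GrothLib.MultLift

open GrothLib.MultLocal

variable {R : Type u} [CommRing R] {X : Type u} [CommRing X] [HopfAlgebra R X]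

/-- The locus where an element becomes `1` in the fibre. -/
def unitLocus (w : X) : Set (PrimeSpectrum R) :=
  {p | (1 : p.asIdeal.ResidueField) ⊗ₜ[R] w = (1 : p.asIdeal.ResidueField ⊗[R] X)}

/-- A field extension detects the locus. -/
theorem mem_unitLocus_iff (w : X) (p : PrimeSpectrum R) {K : Type u} [Field K] [Algebra R K]
    (ι : p.asIdeal.ResidueField →ₐ[R] K) : p ∈ unitLocus w ↔ (1 : K) ⊗ₜ[R] w = (1 : K ⊗[R] X) := by
  let κ := p.asIdeal.ResidueField
  letI : Algebra κ K := ι.toRingHom.toAlgebra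
  haveI : IsScalarTower R κ K := IsScalarTower.of_algebraMap_eq fun r => (ι.commutes r).symm
  let c := GrothLib.Hopf.cancelBaseChange R κ K X
  constructor
  · intro h
    have h2 := congrArg (fun y => c ((1 : K) ⊗ₜ[κ] y)) (h : (1 : κ) ⊗ₜ[R] w = (1 : κ ⊗[R] X))
    simp only [Algebra.TensorProduct.one_def, c, GrothLib.Hopf.cancelBaseChange_tmul, one_smul] at h2
    rw [Algebra.TensorProduct.one_def]
    exact h2
  · intro h
    refine Module.FaithfullyFlat.tensorProduct_mk_injective (A := κ) (B := K) (κ ⊗[R] X) ?_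
    refine EquivLike.injective c ?_
    simp only [TensorProduct.mk_apply, c, Algebra.TensorProduct.one_def, GrothLib.Hopf.cancelBaseChange_tmul, one_smul]
    rw [Algebra.TensorProduct.one_def] at h
    exact h

/-- The locus of a group-like element of a group of multiplicative type is clopen. -/
theorem isClopen_unitLocus (h : SGA3b.IsMultType R X) (w : X) (hw : IsGroupLikeElem R w) :
    IsClopen (unitLocus (R := R) w) := by
  classical
  obtain ⟨s, hs, hloc⟩ := h
  suffices key : ∀ p : PrimeSpectrum R, ∃ V : Set (PrimeSpectrum R), IsOpen V ∧ p ∈ V ∧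
      ((∀ q ∈ V, q ∈ unitLocus w) ∨ ∀ q ∈ V, q ∉ unitLocus w) by
    refine ⟨⟨isOpen_iff_forall_mem_open.mpr fun p hp => ?_⟩, isOpen_iff_forall_mem_open.mpr fun p hp => ?_⟩
    · obtain ⟨V, hV, hpV, hall | hall⟩ := key p
      · exact absurd (hall p hpV) hp
      · exact ⟨V, fun q hq => hall q hq, hV, hpV⟩
    · obtain ⟨V, hV, hpV, hall | hall⟩ := key p
      · exact ⟨V, fun q hq => hall q hq, hV, hpV⟩
      · exact absurd hp (hall p hpV)
  intro p
  obtain ⟨f, hf, hfp⟩ : ∃ f ∈ s, f ∉ p.asIdeal := by
    by_contra! hc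
    exact p.isPrime.ne_top (top_le_iff.mp (hs ▸ Ideal.span_le.mpr hc))
  obtain ⟨R', _, _, hff, Q, _, ⟨d⟩⟩ := hloc f hf
  haveI := hff
  let S := Localization.Away f
  letI : Algebra R R' := Algebra.compHom R' (algebraMap R S)
  haveI : IsScalarTower R S R' := IsScalarTower.of_algebraMap_eq fun _ => rfl
  obtain ⟨g, hg⟩ := exists_frame_of_equiv (GrothLib.Hopf.trivOfAway S R' d)
  let x : MonoidAlgebra R' Q := hg.equiv.symm ((1 : R') ⊗ₜ[R] w)
  have hgl : IsGroupLikeElem R' ((1 : R') ⊗ₜ[R] w) :=
    ⟨by rw [TensorProduct.counit_tmul, CommSemiring.counit_apply, hw.counit_eq_one, one_smul], by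
      rw [comul_one_tmul, hw.comul_eq_tmul_self, sqMap_tmul]⟩
  have hx : IsGroupLikeElem R' x := hgl.map (hg.equiv.symm : R' ⊗[R] X →ₐc[R'] MonoidAlgebra R' Q)
  let ε := x.coeff 1
  have hε := isIdempotentElem_coeff hx 1
  have hW : ∀ P : PrimeSpectrum R', PrimeSpectrum.comap (algebraMap R R') P ∈ unitLocus w ↔ ε ∉ P.asIdeal := by
    intro P
    let K := P.asIdeal.ResidueField
    let ι : (PrimeSpectrum.comap (algebraMap R R') P).asIdeal.ResidueField →ₐ[R] K :=
      Ideal.ResidueField.mapₐ _ P.asIdeal (Algebra.ofId R R') rfl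
    rw [mem_unitLocus_iff w _ ι]
    let r : R' →ₐ[R] K := IsScalarTower.toAlgHom R R' K
    have hgK := hg.map r
    have h1 : hgK.equiv (mapRingHom Q (r : R' →+* K) x) = (1 : K) ⊗ₜ[R] w := by
      rw [hgK.equiv_apply, glHom_glMap, ← hg.equiv_apply, BialgEquiv.apply_symm_apply, coefMap_tmul, map_one]
    rw [← h1, map_eq_one_iff _ (EquivLike.injective hgK.equiv)]
    obtain ⟨q, hq⟩ := exists_eq_single (isGroupLikeElem_mapRingHom (r : R' →+* K) hx)
    have hr : r ε = (single q (1 : K) : MonoidAlgebra K Q).coeff 1 := by rw [← hq]; simp [ε]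
    rw [hq, ← Ideal.algebraMap_residueField_eq_zero (I := P.asIdeal)]
    change _ ↔ ¬ r ε = 0
    rw [hr, MonoidAlgebra.one_def]
    constructor
    · intro h
      rw [h]
      simp
    · intro h
      by_cases hq1 : q = 1
      · rw [hq1]
      · simp [Finsupp.single_eq_of_ne' hq1] at h
  have hsurj := PrimeSpectrum.comap_surjective_of_faithfullyFlat (A := S) (B := R')
  have hquot : Topology.IsQuotientMap (PrimeSpectrum.comap (algebraMap S R')) :=
    PrimeSpectrum.isQuotientMap_of_generalizingMap hsurj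
      (RingHom.Flat.generalizingMap_comap ((RingHom.flat_algebraMap_iff).mpr inferInstance))
  let U : Set (PrimeSpectrum S) := PrimeSpectrum.comap (algebraMap R S) ⁻¹' unitLocus w
  have hpre : PrimeSpectrum.comap (algebraMap S R') ⁻¹' U = {P : PrimeSpectrum R' | ε ∉ P.asIdeal} := by
    ext P
    rw [Set.mem_preimage, Set.mem_preimage, Set.mem_setOf_eq, ← hW P]
    rfl
  have hU : IsOpen U ∧ IsOpen Uᶜ := by
    rw [← hquot.isOpen_preimage, ← hquot.isOpen_preimage, Set.preimage_compl, hpre]
    refine ⟨(PrimeSpectrum.basicOpen ε).isOpen, ?_⟩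
    have : {P : PrimeSpectrum R' | ε ∉ P.asIdeal}ᶜ = PrimeSpectrum.basicOpen (1 - ε) := by
      ext P
      simp only [Set.mem_compl_iff, Set.mem_setOf_eq, not_not, SetLike.mem_coe, PrimeSpectrum.mem_basicOpen]
      constructor
      · intro h h'
        exact P.isPrime.ne_top ((Ideal.eq_top_iff_one _).mpr (by simpa using add_mem h h'))
      · intro h
        exact (P.isPrime.mem_or_mem (show ε * (1 - ε) ∈ P.asIdeal by
          rw [mul_sub, _root_.mul_one, hε.eq, sub_self]; exact zero_mem _)).resolve_right h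
    rw [this]
    exact (PrimeSpectrum.basicOpen (1 - ε)).isOpen
  have hemb := (PrimeSpectrum.localization_away_isOpenEmbedding S f).isOpenMap
  obtain ⟨p', hp'⟩ : p ∈ Set.range (PrimeSpectrum.comap (algebraMap R S)) := by
    rw [PrimeSpectrum.localization_away_comap_range S f]
    exact hfp
  by_cases hm : p ∈ unitLocus w
  · exact ⟨_, hemb _ hU.1, ⟨p', by rw [Set.mem_preimage, hp']; exact hm, hp'⟩,
      Or.inl fun q ⟨q', hq', hqq'⟩ => hqq' ▸ hq'⟩
  · exact ⟨_, hemb _ hU.2, ⟨p', by rw [Set.mem_compl_iff, Set.mem_preimage, hp']; exact hm, hp'⟩,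
      Or.inr fun q ⟨q', hq', hqq'⟩ => hqq' ▸ hq'⟩

/-- An element killed over faithfully flat extensions of all local rings vanishes. -/
theorem eq_zero_of_local_charts {Y : Type u} [CommRing Y] [Algebra R Y] (y : Y)
    (h : ∀ (p : Ideal R) [p.IsMaximal], ∃ (T : Type u) (_ : CommRing T) (_ : Algebra (Localization.AtPrime p) T)
      (_ : Module.FaithfullyFlat (Localization.AtPrime p) T),
      (1 : T) ⊗ₜ[Localization.AtPrime p] ((1 : Localization.AtPrime p) ⊗ₜ[R] y) = 0) : y = 0 := by
  have key : ∀ (p : Ideal R) [p.IsMaximal], ∃ r : R, r ∉ p ∧ r • y = 0 := by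
    intro p _
    obtain ⟨T, _, _, hff, hT⟩ := h p
    haveI := hff
    have h1 : TensorProduct.mk R (Localization.AtPrime p) Y 1 y = 0 := by
      refine Module.FaithfullyFlat.tensorProduct_mk_injective (A := Localization.AtPrime p) (B := T) _ ?_
      simpa using hT
    obtain ⟨⟨r, hr⟩, hr'⟩ := (IsLocalizedModule.eq_zero_iff p.primeCompl _).mp h1
    exact ⟨r, hr, hr'⟩
  let K : Ideal R := LinearMap.ker (LinearMap.toSpanSingleton R Y y)
  have hK : K = ⊤ := by
    by_contra hne
    obtain ⟨p, hp, hle⟩ := Ideal.exists_le_maximal _ hne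
    obtain ⟨r, hr, hr'⟩ := key p
    exact hr (hle (by simpa [K] using hr'))
  have := (Ideal.eq_top_iff_one K).mp hK
  simpa [K] using this

/-- A bialgebra quotient of `R[M]` of multiplicative type is `R[M/Γ]` when the base is connected. -/
theorem isDiag_of_surjective [Nontrivial R] (hconn : ∀ e : R, IsIdempotentElem e → e = 0 ∨ e = 1) {M : Type u}
    [CommGroup M] (π : MonoidAlgebra R M →ₐc[R] X) (hπ : Function.Surjective π) (h : SGA3b.IsMultType R X) :
    SGA3b.IsDiag R X := by
  classical
  let w : M → X := fun m => π (single m 1)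
  have hw : ∀ m, IsGroupLikeElem R (w m) := fun m => (MonoidAlgebra.isGroupLikeElem_single_one m).map π
  have hU : ∀ m, unitLocus (R := R) (w m) = ∅ ∨ unitLocus (R := R) (w m) = Set.univ := by
    intro m
    obtain ⟨e, he, hU⟩ := PrimeSpectrum.isClopen_iff.mp (isClopen_unitLocus h (w m) (hw m))
    rcases hconn e he with rfl | rfl
    · left; rw [hU]; simp
    · right; rw [hU]; simp
  let Γ : Subgroup M :=
    { carrier := {m | ∀ p, p ∈ unitLocus (R := R) (w m)}
      one_mem' := fun p => by
        change (1 : p.asIdeal.ResidueField) ⊗ₜ[R] π (single 1 1) = (1 : p.asIdeal.ResidueField ⊗[R] X)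
        rw [← MonoidAlgebra.one_def, map_one, ← Algebra.TensorProduct.one_def]
      mul_mem' := fun {a b} ha hb p => by
        change (1 : p.asIdeal.ResidueField) ⊗ₜ[R] π (single (a * b) 1) = (1 : p.asIdeal.ResidueField ⊗[R] X)
        have e1 : (1 : p.asIdeal.ResidueField) ⊗ₜ[R] π (single a 1) = (1 : p.asIdeal.ResidueField ⊗[R] X) := ha p
        have e2 : (1 : p.asIdeal.ResidueField) ⊗ₜ[R] π (single b 1) = (1 : p.asIdeal.ResidueField ⊗[R] X) := hb p
        have e3 := congrArg₂ (· * ·) e1 e2
        simp only [Algebra.TensorProduct.tmul_mul_tmul, _root_.mul_one] at e3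
        rw [← e3, ← map_mul, single_mul_single, _root_.mul_one]
      inv_mem' := fun {a} ha p => by
        change (1 : p.asIdeal.ResidueField) ⊗ₜ[R] π (single a⁻¹ 1) = (1 : p.asIdeal.ResidueField ⊗[R] X)
        have e1 : (1 : p.asIdeal.ResidueField) ⊗ₜ[R] π (single a 1) = (1 : p.asIdeal.ResidueField ⊗[R] X) := ha p
        calc (1 : p.asIdeal.ResidueField) ⊗ₜ[R] π (single a⁻¹ 1)
            = ((1 : p.asIdeal.ResidueField) ⊗ₜ[R] π (single a⁻¹ 1)) * ((1 : p.asIdeal.ResidueField) ⊗ₜ[R] π (single a 1)) := by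
              rw [e1, _root_.mul_one]
          _ = 1 := by
              rw [Algebra.TensorProduct.tmul_mul_tmul, _root_.mul_one, ← map_mul, single_mul_single, _root_.mul_one,
                inv_mul_cancel, ← MonoidAlgebra.one_def, map_one, ← Algebra.TensorProduct.one_def] }
  let q : MonoidAlgebra R M →ₐc[R] MonoidAlgebra R (M ⧸ Γ) := mapDomainBialgHom R (QuotientGroup.mk' Γ)
  have hq : Function.Surjective q := fun y => by
    induction y using MonoidAlgebra.induction_linear with
    | zero => exact ⟨0, map_zero _⟩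
    | add a b ha hb =>
      obtain ⟨a', rfl⟩ := ha
      obtain ⟨b', rfl⟩ := hb
      exact ⟨a' + b', map_add _ _ _⟩
    | single v r =>
      obtain ⟨m, rfl⟩ := QuotientGroup.mk_surjective v
      exact ⟨single m r, by simp [q]⟩
  -- the comparison in a local chart
  have chart : ∀ (p : Ideal R) [p.IsPrime], ∃ (T : Type u) (_ : CommRing T) (_ : Algebra (Localization.AtPrime p) T)
      (_ : Module.FaithfullyFlat (Localization.AtPrime p) T),
      ∀ z : MonoidAlgebra R M,
        ((1 : T) ⊗ₜ[Localization.AtPrime p] ((1 : Localization.AtPrime p) ⊗ₜ[R] π z) = 0 ↔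
          (1 : T) ⊗ₜ[Localization.AtPrime p] ((1 : Localization.AtPrime p) ⊗ₜ[R] q z) = 0) := by
    intro p _
    let B := Localization.AtPrime p
    obtain ⟨T, _, _, _, Q, _, hff, hmax, ⟨η⟩⟩ := GrothLib.Hopf.exists_local_chart (isMultType_baseChange_atPrime h p)
    haveI := hff
    letI : Algebra R T := Algebra.compHom T (algebraMap R B)
    haveI : IsScalarTower R B T := IsScalarTower.of_algebraMap_eq fun _ => rfl
    obtain ⟨g, hg⟩ := exists_frame_of_equiv η
    have hgT := hg.push (GrothLib.Hopf.cancelBaseChange R B T X)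
    refine ⟨T, inferInstance, inferInstance, inferInstance, fun z => ?_⟩
    have hσ : ∀ m, ∃ v : Q, hgT.equiv (single v 1) = (1 : T) ⊗ₜ[R] w m := fun m => by
      have hgl : IsGroupLikeElem T ((1 : T) ⊗ₜ[R] w m) :=
        ⟨by rw [TensorProduct.counit_tmul, CommSemiring.counit_apply, (hw m).counit_eq_one, one_smul], by
          rw [comul_one_tmul, (hw m).comul_eq_tmul_self, sqMap_tmul]⟩
      obtain ⟨v, hv⟩ := exists_eq_single (hgl.map (hgT.equiv.symm : T ⊗[R] X →ₐc[T] MonoidAlgebra T Q))
      exact ⟨v, by rw [← hv]; exact hgT.equiv.apply_symm_apply _⟩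
    choose σ hσ using hσ
    have hinj : Function.Injective fun v : Q => hgT.equiv (single v (1 : T)) :=
      (EquivLike.injective hgT.equiv).comp single_one_injective
    let σh : M →* Q :=
      { toFun := σ
        map_one' := hinj (by
          simp only [hσ, w, ← MonoidAlgebra.one_def, map_one, ← Algebra.TensorProduct.one_def])
        map_mul' := fun a b => hinj (by
          have h2 : (single (σ a * σ b) 1 : MonoidAlgebra T Q) = single (σ a) 1 * single (σ b) 1 := by
            rw [single_mul_single, _root_.mul_one]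
          simp only [h2, map_mul, hσ, w, Algebra.TensorProduct.tmul_mul_tmul, _root_.mul_one]
          rw [← map_mul, single_mul_single, _root_.mul_one]) }
    -- the residue field
    let P : PrimeSpectrum R := ⟨p, inferInstance⟩
    let K := IsLocalRing.ResidueField T
    let r : T →ₐ[R] K := IsScalarTower.toAlgHom R T K
    have hpK : RingHom.ker (algebraMap R K) = p := by
      ext a
      rw [RingHom.mem_ker, IsScalarTower.algebraMap_apply R T K, IsScalarTower.algebraMap_apply R B T]
      change Ideal.Quotient.mk _ (algebraMap B T (algebraMap R B a)) = 0 ↔ _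
      rw [Ideal.Quotient.eq_zero_iff_mem]
      constructor
      · intro ha
        by_contra hap
        exact (IsLocalRing.mem_maximalIdeal _).mp ha
          (((IsLocalization.map_units B (⟨a, hap⟩ : p.primeCompl))).map (algebraMap B T))
      · intro ha
        exact hmax (Ideal.mem_map_of_mem _ (by
          rw [← Localization.AtPrime.map_eq_maximalIdeal]; exact Ideal.mem_map_of_mem _ ha))
    let ι : P.asIdeal.ResidueField →ₐ[R] K := Ideal.ResidueField.liftₐ p (Algebra.ofId R K)
      (by intro a ha; exact hpK.ge ha)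
      (by
        intro a ha
        change IsUnit (algebraMap R K a)
        rw [isUnit_iff_ne_zero]
        exact fun h0 => ha (hpK.le h0))
    have hker : ∀ m, σh m = 1 ↔ m ∈ Γ := fun m => by
      have hgK := hgT.map r
      have h1 : hgK.equiv (single (σ m) 1) = (1 : K) ⊗ₜ[R] w m := by
        have h3 : mapRingHom Q (r : T →+* K) (single (σ m) 1) = single (σ m) 1 := by rw [mapRingHom_single, map_one]
        rw [← h3, hgK.equiv_apply, glHom_glMap, ← hgT.equiv_apply, hσ, coefMap_tmul, map_one]
      have h2 : σ m = 1 ↔ P ∈ unitLocus (R := R) (w m) := by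
        rw [mem_unitLocus_iff (w m) P ι, ← h1, map_eq_one_iff _ (EquivLike.injective hgK.equiv),
          MonoidAlgebra.one_def]
        exact (single_one_injective (T := K)).eq_iff.symm
      change σ m = 1 ↔ _
      rw [h2]
      refine ⟨fun hP => ?_, fun hm => hm P⟩
      rcases hU m with h0 | h0
      · rw [h0] at hP; exact absurd hP (Set.notMem_empty _)
      · intro p'; rw [h0]; exact Set.mem_univ _
    let σq : M ⧸ Γ →* Q := QuotientGroup.lift Γ σh fun m hm => (hker m).mpr hm
    have hσq : Function.Injective σq := (injective_iff_map_eq_one σq).mpr fun v hv => by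
      obtain ⟨m, rfl⟩ := QuotientGroup.mk_surjective v
      exact (QuotientGroup.eq_one_iff m).mpr ((hker m).mp hv)
    let cX := GrothLib.Hopf.cancelBaseChange R B T X
    let cQ := GrothLib.Hopf.cancelBaseChange R B T (MonoidAlgebra R (M ⧸ Γ))
    let sT : T ⊗[R] MonoidAlgebra R (M ⧸ Γ) ≃ₐ[T] MonoidAlgebra T (M ⧸ Γ) := MonoidAlgebra.scalarTensorEquiv R T
    have key : ∀ z : MonoidAlgebra R M, hgT.equiv.symm ((1 : T) ⊗ₜ[R] π z) =
        mapDomainAlgHom T T σq (sT ((1 : T) ⊗ₜ[R] q z)) := by
      intro z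
      induction z using MonoidAlgebra.induction_linear with
      | zero => simp
      | add a b ha hb => simp only [map_add, tmul_add, ha, hb]
      | single m c =>
        rw [show (single m c : MonoidAlgebra R M) = c • single m 1 by rw [smul_single, smul_eq_mul, _root_.mul_one],
          map_smul, map_smul, tmul_smul, tmul_smul, ← algebraMap_smul T c ((1 : T) ⊗ₜ[R] π (single m 1)),
          ← algebraMap_smul T c ((1 : T) ⊗ₜ[R] q (single m 1)), map_smul, map_smul, map_smul]
        refine congrArg _ ?_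
        rw [← hσ, BialgEquiv.symm_apply_apply]
        simp [q, sT, σq, σh]
    have e1 : (1 : T) ⊗ₜ[B] ((1 : B) ⊗ₜ[R] π z) = 0 ↔ (1 : T) ⊗ₜ[R] π z = 0 := by
      rw [← map_eq_zero_iff cX (EquivLike.injective cX)]
      simp [cX, GrothLib.Hopf.cancelBaseChange_tmul]
    have e2 : (1 : T) ⊗ₜ[B] ((1 : B) ⊗ₜ[R] q z) = 0 ↔ (1 : T) ⊗ₜ[R] q z = 0 := by
      rw [← map_eq_zero_iff cQ (EquivLike.injective cQ)]
      simp [cQ, GrothLib.Hopf.cancelBaseChange_tmul]
    have hmd : Function.Injective (mapDomainAlgHom T T σq : MonoidAlgebra T (M ⧸ Γ) → MonoidAlgebra T Q) := fun a b hab =>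
      MonoidAlgebra.coeff_injective (Finsupp.mapDomain_injective hσq (congrArg MonoidAlgebra.coeff hab :))
    rw [e1, e2, ← map_eq_zero_iff hgT.equiv.symm (EquivLike.injective hgT.equiv.symm), key,
      map_eq_zero_iff _ hmd,
      map_eq_zero_iff sT sT.injective]
  have h1 : ∀ z, π z = 0 → q z = 0 := fun z hz => eq_zero_of_local_charts _ fun p hp => by
    obtain ⟨T, _, _, hff, hz'⟩ := chart p
    exact ⟨T, inferInstance, inferInstance, hff, (hz' z).mp (by rw [hz, tmul_zero, tmul_zero])⟩
  have h2 : ∀ z, q z = 0 → π z = 0 := fun z hz => eq_zero_of_local_charts _ fun p hp => by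
    obtain ⟨T, _, _, hff, hz'⟩ := chart p
    exact ⟨T, inferInstance, inferInstance, hff, (hz' z).mpr (by rw [hz, tmul_zero, tmul_zero])⟩
  obtain ⟨u, hu⟩ := exists_factor_surjective π hπ q h1
  obtain ⟨v, hv⟩ := exists_factor_surjective q hq π h2
  exact ⟨M ⧸ Γ, inferInstance, ⟨BialgEquiv.ofBialgHom u v
    (BialgHom.ext fun y => by
      obtain ⟨z, rfl⟩ := hq y
      change u (v (q z)) = q z
      rw [hv, hu])
    (BialgHom.ext fun y => by
      obtain ⟨z, rfl⟩ := hπ y
      change v (u (π z)) = π z
      rw [hu, hv])⟩⟩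

end GrothLib.MultLift
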