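import Groth.Agent.Lib.MultLocal.Frame
import Groth.Agent.Lib.MultLocal.Quot
import Groth.Agent.Lib.MultLocal.Torsion
import Mathlib.RingTheory.Nakayama
import Mathlib.RingTheory.HopfAlgebra.MonoidAlgebra

/-!
Homomorphisms from a group of finite type into a diagonalisable group over a local base.
-/

universe u

set_option linter.style.haveILetI false
set_option maxSynthPendingDepth 3

open TensorProduct MonoidAlgebra

namespace GrothLib.MultLift

open GrothLib.MultLocal

variable {R : Type u} [CommRing R] {M : Type u} [CommGroup M]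

/-- Contracting the comultiplication of a group algebra with a coefficient. -/
theorem rid_coeffAt_comul (γ : M) (x : MonoidAlgebra R M) :
    TensorProduct.rid R (MonoidAlgebra R M)
      (TensorProduct.map LinearMap.id (GrothLib.Hopf.coeffAt (R := R) γ) (Coalgebra.comul (R := R) x)) =
      x.coeff γ • single γ 1 := by
  classical
  induction x using MonoidAlgebra.induction_linear with
  | zero => simp
  | add a b ha hb => simp only [map_add, ha, hb, coeff_add, Finsupp.add_apply, add_smul]
  | single m r =>
    simp only [MonoidAlgebra.comul_single, TensorProduct.map_tmul, LinearMap.id_apply, CommSemiring.comul_apply,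
      TensorProduct.map_tmul, TensorProduct.rid_tmul, GrothLib.Hopf.coeffAt_single, coeff_single, Finsupp.single_apply]
    by_cases h : m = γ
    · subst h; simp [smul_single, GrothLib.Hopf.coeffAt_apply]
    · simp [h, Ne.symm h, GrothLib.Hopf.coeffAt_apply]

variable {C : Type u} [CommRing C] [HopfAlgebra R C] (θ : C →ₐc[R] MonoidAlgebra R M)

/-- The members of `M` in the image of a homomorphism. -/
def imageSubgroup : Subgroup M where
  carrier := {γ | ∃ c, θ c = single γ 1}
  mul_mem' := by
    rintro a b ⟨c, hc⟩ ⟨d, hd⟩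
    exact ⟨c * d, by rw [map_mul, hc, hd, single_mul_single, _root_.mul_one]⟩
  one_mem' := ⟨1, by rw [map_one, MonoidAlgebra.one_def]⟩
  inv_mem' := by
    rintro a ⟨c, hc⟩
    refine ⟨HopfAlgebraStruct.antipode R c, ?_⟩
    have h := LinearMap.congr_fun (antipode_bialgHom θ) c
    simp only [LinearMap.comp_apply] at h
    refine (Eq.trans ?_ h.symm).trans ?_
    · rfl
    · change HopfAlgebraStruct.antipode R (θ c) = _
      rw [hc]
      simp

theorem mem_imageSubgroup {γ : M} : γ ∈ imageSubgroup θ ↔ ∃ c, θ c = single γ 1 := Iff.rfl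

theorem mem_imageSubgroup_of_isUnit {γ : M} {c : C} (h : IsUnit ((θ c).coeff γ)) : γ ∈ imageSubgroup θ := by
  obtain ⟨u, hu⟩ := h
  let d := TensorProduct.rid R C (TensorProduct.map LinearMap.id
    ((GrothLib.Hopf.coeffAt (R := R) γ).comp (θ : C →ₗ[R] MonoidAlgebra R M)) (Coalgebra.comul (R := R) c))
  have hd : θ d = (θ c).coeff γ • single γ 1 := by
    rw [← rid_coeffAt_comul, ← CoalgHomClass.map_comp_comul_apply θ c]
    simp only [d]
    generalize Coalgebra.comul (R := R) c = z
    induction z using TensorProduct.induction_on with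
    | zero => simp
    | add a b ha hb => simp only [map_add, ha, hb]
    | tmul a b =>
      simp only [TensorProduct.map_tmul, TensorProduct.rid_tmul, LinearMap.id_apply, LinearMap.comp_apply, map_smul]
      rfl
  refine ⟨(↑u⁻¹ : R) • d, ?_⟩
  rw [map_smul, hd, smul_smul, ← hu, Units.inv_mul, one_smul]

/-- Over a local ring a homomorphism of a group of finite type into a diagonalisable group is supported on
its image subgroup. -/
theorem coeff_eq_zero_of_notMem [IsLocalRing R] [Algebra.FiniteType R C] (c : C) {m : M}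
    (hm : m ∉ imageSubgroup θ) : (θ c).coeff m = 0 := by
  classical
  obtain ⟨s, hs⟩ := Algebra.FiniteType.out (R := R) (A := C)
  let F : Finset R := s.biUnion fun x => ((θ x).coeff.support.filter (· ∉ imageSubgroup θ)).image (θ x).coeff
  let I : Ideal R := Ideal.span (F : Set R)
  have hall : ∀ x : C, ∀ k, k ∉ imageSubgroup θ → (θ x).coeff k ∈ I := by
    intro x
    have hx : x ∈ Algebra.adjoin R (s : Set C) := hs ▸ Algebra.mem_top
    induction hx using Algebra.adjoin_induction with
    | mem x hx =>
      intro k hk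
      by_cases h0 : (θ x).coeff k = 0
      · rw [h0]; exact zero_mem _
      · exact Ideal.subset_span (Finset.mem_biUnion.mpr ⟨x, hx, Finset.mem_image.mpr
          ⟨k, Finset.mem_filter.mpr ⟨Finsupp.mem_support_iff.mpr h0, hk⟩, rfl⟩⟩)
    | algebraMap r =>
      intro k hk
      rw [show θ (algebraMap R C r) = algebraMap R _ r from (θ : C →ₐ[R] MonoidAlgebra R M).commutes r]
      have hk1 : k ≠ 1 := fun h => hk (h ▸ one_mem _)
      simp [MonoidAlgebra.coe_algebraMap, Finsupp.single_eq_of_ne' (Ne.symm hk1)]
    | add x y _ _ hx hy =>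
      intro k hk
      rw [map_add, coeff_add, Finsupp.add_apply]
      exact add_mem (hx k hk) (hy k hk)
    | mul x y _ _ hx hy =>
      intro k hk
      rw [map_mul, MonoidAlgebra.coeff_mul]
      simp only [Finsupp.sum, Finsupp.coe_finset_sum, Finset.sum_apply]
      refine Submodule.sum_mem _ fun a _ => Submodule.sum_mem _ fun b _ => ?_
      split_ifs with hab
      · by_cases ha : a ∈ imageSubgroup θ
        · exact Ideal.mul_mem_left _ _ (hy b fun hb => hk (hab ▸ mul_mem ha hb))
        · exact Ideal.mul_mem_right _ _ (hx a ha)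
      · exact zero_mem _
  have hsq : ∀ x : C, ∀ k, k ∉ imageSubgroup θ → (θ x).coeff k ∈ I * I := by
    intro x k hk
    have h := GrothLib.Hopf.coeffAt_comul k k (θ x)
    rw [if_pos rfl, GrothLib.Hopf.coeffAt_apply] at h
    rw [← h, ← CoalgHomClass.map_comp_comul_apply θ x]
    generalize Coalgebra.comul (R := R) x = z
    induction z using TensorProduct.induction_on with
    | zero => simp
    | add a b ha hb => simp only [map_add]; exact add_mem ha hb
    | tmul a b =>
      simp only [TensorProduct.map_tmul, LinearMap.mul'_apply]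
      exact Ideal.mul_mem_mul (hall a k hk) (hall b k hk)
  have hIm : I ≤ IsLocalRing.maximalIdeal R := Ideal.span_le.mpr fun r hr => by
    obtain ⟨x, -, hr⟩ := Finset.mem_biUnion.mp hr
    obtain ⟨k, hk, rfl⟩ := Finset.mem_image.mp hr
    exact (IsLocalRing.mem_maximalIdeal _).mpr fun hu => (Finset.mem_filter.mp hk).2 (mem_imageSubgroup_of_isUnit θ hu)
  have h0 : I = ⊥ := by
    refine Submodule.eq_bot_of_le_smul_of_le_jacobson_bot I I (Submodule.fg_span (Finset.finite_toSet _)) ?_
      (hIm.trans (IsLocalRing.maximalIdeal_le_jacobson ⊥))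
    refine Ideal.span_le.mpr fun r hr => ?_
    obtain ⟨x, -, hr⟩ := Finset.mem_biUnion.mp hr
    obtain ⟨k, hk, rfl⟩ := Finset.mem_image.mp hr
    exact hsq x k (Finset.mem_filter.mp hk).2
  exact Ideal.mem_bot.mp (h0 ▸ hall c m hm)

/-- The kernel of a homomorphism into a diagonalisable group over a local ring. -/
theorem span_image_aug [IsLocalRing R] [Algebra.FiniteType R C] :
    Ideal.map (θ : C →ₐ[R] MonoidAlgebra R M) (RingHom.ker (Bialgebra.counitAlgHom R C)) =
      RingHom.ker (mapDomainAlgHom R R (QuotientGroup.mk' (imageSubgroup θ))) := by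
  classical
  let Γ := imageSubgroup θ
  let q := mapDomainAlgHom R R (QuotientGroup.mk' Γ)
  let J := Ideal.map (θ : C →ₐ[R] MonoidAlgebra R M) (RingHom.ker (Bialgebra.counitAlgHom R C))
  refine le_antisymm ?_ fun z hz => ?_
  · refine Ideal.map_le_iff_le_comap.mpr fun c hc => ?_
    rw [Ideal.mem_comap, RingHom.mem_ker]
    have hq : ∀ y : MonoidAlgebra R M, (∀ m, m ∉ Γ → y.coeff m = 0) → q y = Coalgebra.counit (R := R) y • (1 : MonoidAlgebra R (M ⧸ Γ)) := by
      intro y hy
      conv_lhs => rw [← MonoidAlgebra.sum_coeff_single y]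
      conv_rhs => rw [← MonoidAlgebra.sum_coeff_single y]
      rw [Finsupp.sum, map_sum, map_sum, Finset.sum_smul]
      refine Finset.sum_congr rfl fun m hm => ?_
      have hmΓ : m ∈ Γ := by_contra fun h => Finsupp.mem_support_iff.mp hm (hy m h)
      simp [q, (QuotientGroup.eq_one_iff m).mpr hmΓ, MonoidAlgebra.one_def, smul_single]
    change q (θ c) = 0
    rw [hq _ fun m hm => coeff_eq_zero_of_notMem θ c hm, CoalgHomClass.counit_comp_apply,
      show Coalgebra.counit (R := R) c = 0 from (RingHom.mem_ker.mp hc :), zero_smul]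
  · let π := Ideal.Quotient.mkₐ R J
    let χ : M →* MonoidAlgebra R M ⧸ J :=
      ((π : MonoidAlgebra R M →+* MonoidAlgebra R M ⧸ J) : MonoidAlgebra R M →* _).comp (MonoidAlgebra.of R M)
    have hχ : Γ ≤ χ.ker := by
      rintro γ ⟨c, hc⟩
      rw [MonoidHom.mem_ker]
      change Ideal.Quotient.mk J (single γ 1) = 1
      rw [← map_one (Ideal.Quotient.mk J), Ideal.Quotient.eq]
      have h1 : Coalgebra.counit (R := R) c = 1 := by
        have h := CoalgHomClass.counit_comp_apply θ c
        rw [hc] at h
        simpa using h.symm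
      have h2 : θ (c - 1) ∈ J := Ideal.mem_map_of_mem (θ : C →ₐ[R] MonoidAlgebra R M) (RingHom.mem_ker.mpr (by
        change Coalgebra.counit (R := R) (c - 1) = 0
        rw [map_sub, h1, Bialgebra.counit_one, sub_self]))
      rwa [map_sub, hc, map_one] at h2
    let Ψ : MonoidAlgebra R (M ⧸ Γ) →ₐ[R] MonoidAlgebra R M ⧸ J :=
      MonoidAlgebra.lift R _ (M ⧸ Γ) (QuotientGroup.lift Γ χ hχ)
    have hΨ : Ψ.comp q = π := MonoidAlgebra.algHom_ext' (MonoidHom.ext fun m => by simp [Ψ, q, χ, π]) (Subsingleton.elim _ _)
    refine Ideal.Quotient.eq_zero_iff_mem.mp ?_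
    change π z = 0
    rw [← hΨ, AlgHom.comp_apply, show q z = 0 from RingHom.mem_ker.mp hz, map_zero]

end GrothLib.MultLift
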