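import Groth.Agent.Lib.MultLocal.NilLift
import Groth.Agent.Lib.MultLocal.Glue
import Groth.Agent.Lib.DescElem.Basic
import Mathlib.LinearAlgebra.TensorProduct.Pi
import Mathlib.RingTheory.TensorProduct.Pi

/-!
The invariant integral of a group of multiplicative type.
-/

universe u

set_option linter.style.haveILetI false
set_option maxSynthPendingDepth 3

open TensorProduct MonoidAlgebra

namespace GrothLib.MultLift

open GrothLib.MultLocal

variable {R : Type u} [CommRing R] {A : Type u} [CommRing A] [HopfAlgebra R A]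

variable (R A) in
/-- A two-sided invariant functional. -/
def IsInv {T : Type u} [CommRing T] [Algebra R T] (j : A →ₗ[R] T) : Prop :=
  ∀ a, j.lTensor A (Coalgebra.comul (R := R) a) = (1 : A) ⊗ₜ[R] j a ∧
    j.rTensor A (Coalgebra.comul (R := R) a) = j a ⊗ₜ[R] (1 : A)

theorem IsInv.map {T T' : Type u} [CommRing T] [Algebra R T] [CommRing T'] [Algebra R T'] {j : A →ₗ[R] T}
    (hj : IsInv R A j) (f : T →ₐ[R] T') : IsInv R A (f.toLinearMap ∘ₗ j) := fun a => by
  constructor
  · rw [LinearMap.lTensor_comp, LinearMap.comp_apply, (hj a).1]; rfl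
  · rw [LinearMap.rTensor_comp, LinearMap.comp_apply, (hj a).2]; rfl

theorem IsInv.unique {T : Type u} [CommRing T] [Algebra R T] {j₁ j₂ : A →ₗ[R] T} (h₁ : IsInv R A j₁)
    (h₂ : IsInv R A j₂) (e₁ : j₁ 1 = 1) (e₂ : j₂ 1 = 1) : j₁ = j₂ := by
  refine LinearMap.ext fun a => ?_
  let P : A ⊗[R] A →ₗ[R] T := LinearMap.mul' R T ∘ₗ TensorProduct.map j₁ j₂
  let P₁ : A ⊗[R] T →ₗ[R] T := LinearMap.mul' R T ∘ₗ j₁.rTensor T
  let P₂ : T ⊗[R] A →ₗ[R] T := LinearMap.mul' R T ∘ₗ j₂.lTensor T
  have hP₁ : ∀ z, P z = P₁ (j₂.lTensor A z) := fun z => by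
    induction z using TensorProduct.induction_on with
    | zero => simp
    | add x y hx hy => simp only [map_add, hx, hy]
    | tmul x y => rfl
  have hP₂ : ∀ z, P z = P₂ (j₁.rTensor A z) := fun z => by
    induction z using TensorProduct.induction_on with
    | zero => simp
    | add x y hx hy => simp only [map_add, hx, hy]
    | tmul x y => rfl
  have h := (hP₁ (Coalgebra.comul (R := R) a)).symm.trans (hP₂ (Coalgebra.comul (R := R) a))
  rw [(h₂ a).1, (h₁ a).2] at h
  simpa [P₁, P₂, e₁, e₂] using h.symm

/-- The invariant functional of a framed group. -/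
theorem exists_inv_frame {T : Type u} [CommRing T] [Algebra R T] {M : Type u} [CommGroup M]
    {g : M →* GroupLike T (T ⊗[R] A)} (hg : IsFrame g) : ∃ j : A →ₗ[R] T, IsInv R A j ∧ j 1 = 1 := by
  classical
  let ev : MonoidAlgebra T M →ₗ[T] T :=
    { toFun := fun x => x.coeff 1
      map_add' := fun x y => by simp
      map_smul' := fun t x => by simp }
  let J : T ⊗[R] A →ₗ[T] T := ev ∘ₗ hg.equiv.symm.toLinearEquiv.toLinearMap
  let j : A →ₗ[R] T := J.restrictScalars R ∘ₗ TensorProduct.mk R T A 1
  have hJg : ∀ m, J (g m).val = if m = 1 then 1 else 0 := fun m => by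
    have h : hg.equiv.symm (g m).val = single m 1 := by
      rw [← one_smul T (g m).val, ← glHom_single g m 1, ← hg.equiv_apply, BialgEquiv.symm_apply_apply]
    change (hg.equiv.symm (g m).val).coeff 1 = _
    rw [h, coeff_single, Finsupp.single_apply]
  have hJt : ∀ (t : T) (a : A), J (t ⊗ₜ[R] a) = t * j a := fun t a => by
    rw [show t ⊗ₜ[R] a = t • ((1 : T) ⊗ₜ[R] a) by rw [smul_tmul', smul_eq_mul, _root_.mul_one], map_smul]
    rfl
  have hj1 : j 1 = 1 := by
    change J ((1 : T) ⊗ₜ[R] (1 : A)) = 1
    rw [← Algebra.TensorProduct.one_def, ← GroupLike.val_one (R := T) (A := T ⊗[R] A), ← map_one g, hJg, if_pos rfl]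
  let sw : T ⊗[R] A ≃ₐ[R] A ⊗[R] T := Algebra.TensorProduct.comm R T A
  let ψ : T ⊗[R] (A ⊗[R] A) →ₗ[R] A ⊗[R] T :=
    ((LinearMap.mul' R T).lTensor A ∘ₗ (TensorProduct.leftComm R T A T).toLinearMap) ∘ₗ (j.lTensor A).lTensor T
  let ψ' : T ⊗[R] (A ⊗[R] A) →ₗ[R] T ⊗[R] A :=
    ((LinearMap.mul' R T).rTensor A ∘ₗ (TensorProduct.assoc R T T A).symm.toLinearMap) ∘ₗ (j.rTensor A).lTensor T
  have hψ : ∀ u v : T ⊗[R] A, ψ (sqInv R A T (u ⊗ₜ v)) = sw u * ((1 : A) ⊗ₜ[R] J v) := fun u v => by
    induction u using TensorProduct.induction_on with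
    | zero => simp
    | add x y hx hy => simp only [add_tmul, map_add, add_mul, hx, hy]
    | tmul t a =>
      induction v using TensorProduct.induction_on with
      | zero => simp
      | add x y hx hy => simp only [tmul_add, map_add, mul_add, hx, hy]
      | tmul s b =>
        rw [sqInv_tmul, hJt]
        simp [ψ, sw, Algebra.TensorProduct.tmul_mul_tmul, _root_.mul_assoc]
  have hψ' : ∀ u v : T ⊗[R] A, ψ' (sqInv R A T (u ⊗ₜ v)) = (J u ⊗ₜ[R] (1 : A)) * v := fun u v => by
    induction u using TensorProduct.induction_on with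
    | zero => simp
    | add x y hx hy => simp only [add_tmul, map_add, add_mul, hx, hy]
    | tmul t a =>
      induction v using TensorProduct.induction_on with
      | zero => simp
      | add x y hx hy => simp only [tmul_add, map_add, mul_add, hx, hy]
      | tmul s b =>
        rw [sqInv_tmul, hJt]
        simp [ψ', Algebra.TensorProduct.tmul_mul_tmul, mul_comm, mul_left_comm, _root_.mul_assoc]
  have key : ∀ y : T ⊗[R] A, ψ ((Coalgebra.comul (R := R) (A := A)).lTensor T y) = (1 : A) ⊗ₜ[R] J y ∧
      ψ' ((Coalgebra.comul (R := R) (A := A)).lTensor T y) = J y ⊗ₜ[R] (1 : A) := by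
    intro y
    obtain ⟨z, rfl⟩ := hg.2 y
    induction z using MonoidAlgebra.induction_linear with
    | zero => simp
    | add x y hx hy =>
      simp only [map_add, tmul_add, add_tmul] at hx hy ⊢
      exact ⟨by rw [hx.1, hy.1], by rw [hx.2, hy.2]⟩
    | single m r =>
      rw [glHom_single, ← sqInv_comul, map_smul, (g m).isGroupLikeElem_val.comul_eq_tmul_self]
      constructor
      · rw [smul_tmul', hψ, hJg, map_smul J, hJg]
        split_ifs with hm
        · rw [hm, map_one, GroupLike.val_one, Algebra.TensorProduct.one_def, smul_tmul', smul_eq_mul, _root_.mul_one,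
            Algebra.TensorProduct.comm_tmul, Algebra.TensorProduct.tmul_mul_tmul, _root_.mul_one, _root_.mul_one]
        · simp
      · rw [smul_tmul', hψ', map_smul J, hJg]
        split_ifs with hm
        · rw [hm, map_one, GroupLike.val_one, _root_.mul_one]
        · simp
  refine ⟨j, fun a => ⟨?_, ?_⟩, hj1⟩
  · have h := (key ((1 : T) ⊗ₜ[R] a)).1
    rw [LinearMap.lTensor_tmul] at h
    refine Eq.trans ?_ h
    induction Coalgebra.comul (R := R) a using TensorProduct.induction_on with
    | zero => simp
    | add x y hx hy => simp only [map_add, tmul_add, hx, hy]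
    | tmul x y => simp [ψ]
  · have h := (key ((1 : T) ⊗ₜ[R] a)).2
    rw [LinearMap.lTensor_tmul] at h
    refine Eq.trans ?_ h
    induction Coalgebra.comul (R := R) a using TensorProduct.induction_on with
    | zero => simp
    | add x y hx hy => simp only [map_add, tmul_add, hx, hy]
    | tmul x y => simp [ψ']

/-- A group of multiplicative type has an invariant integral. -/
theorem exists_integral (h : SGA3b.IsMultType R A) :
    ∃ j : A →ₗ[R] R, j 1 = 1 ∧ ∀ a,
      (TensorProduct.rid R A : A ⊗[R] R →ₗ[R] A) (j.lTensor A (Coalgebra.comul (R := R) a)) = algebraMap R A (j a) := by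
  classical
  obtain ⟨ι, _, T, _, _, M, _, hff, hfr⟩ := exists_cover h
  haveI := hff
  choose g hg using hfr
  choose jj hjj hjj1 using fun i => exists_inv_frame (hg i)
  let E := ∀ i, T i
  let J : A →ₗ[R] E := LinearMap.pi jj
  have hJ1 : J 1 = 1 := funext fun i => hjj1 i
  have hJ : IsInv R A J := fun a => by
    constructor
    · refine (TensorProduct.piRight R R A T).injective (funext fun i => ?_)
      have hl : ∀ z, TensorProduct.piRight R R A T (J.lTensor A z) i = (jj i).lTensor A z := fun z => by
        induction z using TensorProduct.induction_on with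
        | zero => simp
        | add x y hx hy => simp only [map_add, Pi.add_apply, hx, hy]
        | tmul x y => simp [J, TensorProduct.piRight_apply]; rfl
      rw [hl, (hjj i a).1]
      simp [J, TensorProduct.piRight_apply]; rfl
    · refine ((TensorProduct.comm R E A).trans (TensorProduct.piRight R R A T)).injective (funext fun i => ?_)
      have hl : ∀ z, ((TensorProduct.comm R E A).trans (TensorProduct.piRight R R A T)) (J.rTensor A z) i =
          TensorProduct.comm R (T i) A ((jj i).rTensor A z) := fun z => by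
        induction z using TensorProduct.induction_on with
        | zero => simp
        | add x y hx hy => simp only [map_add, Pi.add_apply, hx, hy]
        | tmul x y => simp [J, TensorProduct.piRight_apply]; rfl
      rw [hl, (hjj i a).2]
      simp [J, TensorProduct.piRight_apply]; rfl
  let i₁ : E →ₐ[R] E ⊗[R] E := Algebra.TensorProduct.includeLeft
  let i₂ : E →ₐ[R] E ⊗[R] E := Algebra.TensorProduct.includeRight
  have huniq := (hJ.map i₁).unique (hJ.map i₂) (by simp [hJ1]) (by simp [hJ1])
  have hmem : ∀ a, ∃ r, algebraMap R E r = J a := fun a => by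
    refine LinearMap.mem_range.mp (GrothLib.DescElem.mem_range_of_one_tmul E (Algebra.linearMap R E) _ ?_)
    refine ⟨J a ⊗ₜ[R] (1 : R), ?_⟩
    rw [LinearMap.lTensor_tmul]
    have := LinearMap.congr_fun huniq a
    simpa [i₁, i₂] using this
  choose j hj using hmem
  have hinj := FaithfulSMul.algebraMap_injective R E
  let jl : A →ₗ[R] R :=
    { toFun := j
      map_add' := fun x y => hinj (by rw [map_add, hj, hj, hj, map_add])
      map_smul' := fun r x => hinj (by
        rw [RingHom.id_apply, smul_eq_mul, map_mul, hj, hj, map_smul, Algebra.smul_def]) }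
  refine ⟨jl, hinj ((hj 1).trans (hJ1.trans (map_one _).symm)), fun a => ?_⟩
  refine Module.FaithfullyFlat.tensorProduct_mk_injective (A := R) (B := E) A ?_
  have hJl : J = Algebra.linearMap R E ∘ₗ jl := LinearMap.ext fun x => (hj x).symm
  have h1 := congrArg (TensorProduct.comm R A E) (hJ a).1
  rw [hJl, LinearMap.lTensor_comp, LinearMap.comp_apply] at h1
  simp only [TensorProduct.mk_apply]
  have hz : ∀ z : A ⊗[R] R, TensorProduct.comm R A E ((Algebra.linearMap R E).lTensor A z) =
      (1 : E) ⊗ₜ[R] (TensorProduct.rid R A : A ⊗[R] R →ₗ[R] A) z := fun z => by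
    induction z using TensorProduct.induction_on with
    | zero => simp
    | add x y hx hy => simp only [map_add, tmul_add, hx, hy]
    | tmul x r => simp [Algebra.algebraMap_eq_smul_one, smul_tmul]
  rw [← hz, h1]
  simp [Algebra.algebraMap_eq_smul_one, smul_tmul]

end GrothLib.MultLift
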