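import Groth.Agent.Lib.MultLocal.AtPrime
import Groth.Agent.Lib.MultLocal.TrivFibre
import Groth.Agent.Lib.MultLocal.TorsionDense
import Groth.Agent.Lib.Hopf.FiniteGroupPow

/-!
Torsion ideals: naturality, base change, separation on groups of multiplicative type.
-/

universe u

set_option linter.style.haveILetI false
set_option maxSynthPendingDepth 3

open TensorProduct MonoidAlgebra WithConv

namespace GrothLib.MultLift

open GrothLib.MultLocal

section Natural

variable {R : Type u} [CommRing R] {A B : Type u} [CommRing A] [HopfAlgebra R A] [CommRing B] [HopfAlgebra R B]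

theorem powConv_bialgHom (φ : A →ₐc[R] B) (n : ℕ) (a : A) :
    φ (SGA3b.powConv R A n a) = SGA3b.powConv R B n (φ a) := by
  have h1 := GrothLib.Hopf.FiniteRank.comp_convPow (φ : A →ₐ[R] B) (toConv (AlgHom.id R A)) n
  have h2 := GrothLib.Hopf.FiniteRank.convPow_comp_bialgHom φ (toConv (AlgHom.id R B)) n
  rw [ofConv_toConv, AlgHom.comp_id] at h1
  rw [ofConv_toConv, AlgHom.id_comp] at h2
  exact (DFunLike.congr_fun (congrArg ofConv (h1.trans h2.symm)) a :)

theorem torsionIdeal_map_le (φ : A →ₐc[R] B) (n : ℕ) :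
    (SGA3b.torsionIdeal R A n).map (φ : A →ₐ[R] B) ≤ SGA3b.torsionIdeal R B n := by
  refine Ideal.map_le_iff_le_comap.mpr (Ideal.map_le_iff_le_comap.mpr ?_)
  intro a ha
  change φ (SGA3b.powConv R A n a) ∈ SGA3b.torsionIdeal R B n
  rw [powConv_bialgHom]
  exact Ideal.mem_map_of_mem _ (RingHom.mem_ker.mpr ((CoalgHomClass.counit_comp_apply φ a).trans (RingHom.mem_ker.mp ha :)))

/-- A bialgebra homomorphism factors through a surjective one killing less. -/
theorem exists_factor_surjective {Z : Type u} [CommRing Z] [Bialgebra R Z] (π : A →ₐc[R] B) (hπ : Function.Surjective π)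
    (f : A →ₐc[R] Z) (h : ∀ a, π a = 0 → f a = 0) : ∃ g : B →ₐc[R] Z, ∀ a, g (π a) = f a := by
  let g₀ : B →ₐ[R] Z := AlgHom.liftOfSurjective (π : A →ₐ[R] B) hπ (f : A →ₐ[R] Z) fun a ha => h a ha
  have hg : ∀ a, g₀ (π a) = f a := fun a => AlgHom.liftOfSurjective_apply _ _ _ _ a
  refine ⟨BialgHom.ofAlgHom g₀ (AlgHom.ext fun b => ?_) (AlgHom.ext fun b => ?_), hg⟩
  · obtain ⟨a, rfl⟩ := hπ b
    change Coalgebra.counit (R := R) (g₀ (π a)) = Coalgebra.counit (R := R) (π a)
    rw [hg, CoalgHomClass.counit_comp_apply, CoalgHomClass.counit_comp_apply]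
  · obtain ⟨a, rfl⟩ := hπ b
    change TensorProduct.map g₀.toLinearMap g₀.toLinearMap (Coalgebra.comul (π a)) = Coalgebra.comul (g₀ (π a))
    rw [hg, ← CoalgHomClass.map_comp_comul_apply π a, ← CoalgHomClass.map_comp_comul_apply f a]
    rw [← LinearMap.comp_apply, ← TensorProduct.map_comp]
    congr 2 <;> exact LinearMap.ext hg

end Natural

section BaseChange

variable {R : Type u} [CommRing R] {C : Type u} [CommRing C] [HopfAlgebra R C] (T : Type u) [CommRing T] [Algebra R T]

theorem torsionIdeal_baseChange (n : ℕ) :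
    SGA3b.torsionIdeal T (T ⊗[R] C) n =
      (SGA3b.torsionIdeal R C n).map (Algebra.TensorProduct.includeRight : C →ₐ[R] T ⊗[R] C) := by
  refine le_antisymm ?_ ?_
  · rw [SGA3b.torsionIdeal, Ideal.map_le_iff_le_comap]
    intro y hy
    have hy0 : Coalgebra.counit (R := T) y = 0 := (RingHom.mem_ker.mp hy :)
    have key : ∀ y : T ⊗[R] C, SGA3b.powConv T (T ⊗[R] C) n (y - algebraMap T _ (Coalgebra.counit (R := T) y)) ∈
        (SGA3b.torsionIdeal R C n).map (Algebra.TensorProduct.includeRight : C →ₐ[R] T ⊗[R] C) := by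
      intro y
      induction y using TensorProduct.induction_on with
      | zero => simp
      | add a b ha hb =>
        rw [map_add, map_add, add_sub_add_comm, map_add]
        exact add_mem ha hb
      | tmul t c =>
        have : t ⊗ₜ[R] c - algebraMap T (T ⊗[R] C) (Coalgebra.counit (R := T) (t ⊗ₜ[R] c)) =
            t • ((1 : T) ⊗ₜ[R] (c - algebraMap R C (Coalgebra.counit c))) := by
          rw [TensorProduct.counit_tmul, CommSemiring.counit_apply, Algebra.TensorProduct.algebraMap_apply,
            Algebra.algebraMap_eq_smul_one (A := C), tmul_sub, tmul_smul, smul_sub, smul_tmul', smul_tmul',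
            smul_tmul', smul_eq_mul, _root_.mul_one]
          simp [Algebra.smul_def, mul_comm]
        rw [this, map_smul, Algebra.smul_def, GrothLib.OT.powConv_baseChange]
        refine Ideal.mul_mem_left _ _ (Ideal.mem_map_of_mem _ (Ideal.mem_map_of_mem _ ?_))
        rw [RingHom.mem_ker]
        simp
    have h := key y
    rw [hy0, map_zero, sub_zero] at h
    exact h
  · refine Ideal.map_le_iff_le_comap.mpr (Ideal.map_le_iff_le_comap.mpr ?_)
    intro a ha
    change (1 : T) ⊗ₜ[R] SGA3b.powConv R C n a ∈ SGA3b.torsionIdeal T (T ⊗[R] C) n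
    rw [← GrothLib.OT.powConv_baseChange]
    refine Ideal.mem_map_of_mem _ (RingHom.mem_ker.mpr ?_)
    change Coalgebra.counit (R := T) ((1 : T) ⊗ₜ[R] a) = 0
    rw [TensorProduct.counit_tmul, show Coalgebra.counit (R := R) a = 0 from (RingHom.mem_ker.mp ha :), zero_smul]

variable {T}

theorem coefMap_torsionIdeal {T' : Type u} [CommRing T'] [Algebra R T'] (i : T →ₐ[R] T') (n : ℕ) {x : T ⊗[R] C}
    (hx : x ∈ SGA3b.torsionIdeal T (T ⊗[R] C) n) : coefMap C i x ∈ SGA3b.torsionIdeal T' (T' ⊗[R] C) n := by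
  rw [torsionIdeal_baseChange] at hx ⊢
  have h := Ideal.mem_map_of_mem (coefMap C i : T ⊗[R] C →+* T' ⊗[R] C) hx
  have hc : (coefMap C i : T ⊗[R] C →+* T' ⊗[R] C).comp
      ((Algebra.TensorProduct.includeRight : C →ₐ[R] T ⊗[R] C) : C →+* T ⊗[R] C) =
      ((Algebra.TensorProduct.includeRight : C →ₐ[R] T' ⊗[R] C) : C →+* T' ⊗[R] C) :=
    RingHom.ext fun c => by
      change coefMap C i ((1 : T) ⊗ₜ[R] c) = (1 : T') ⊗ₜ[R] c
      rw [coefMap_tmul, map_one]
  have h' : coefMap C i x ∈ Ideal.map ((coefMap C i : T ⊗[R] C →+* T' ⊗[R] C).comp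
      ((Algebra.TensorProduct.includeRight : C →ₐ[R] T ⊗[R] C) : C →+* T ⊗[R] C)) (SGA3b.torsionIdeal R C n) := by
    rw [← Ideal.map_map]; exact h
  rw [hc] at h'
  exact h'

/-- An element of a base change of a group of multiplicative type killed in all finite levels vanishes. -/
theorem eq_zero_of_forall_torsion {E : Type u} [CommRing E] [Algebra R E] [Module.FaithfullyFlat R E] {M : Type u}
    [CommGroup M] [Group.FG M] {g : M →* GroupLike E (E ⊗[R] C)} (hg : IsFrame g) (z : T ⊗[R] C)
    (hz : ∀ n, 0 < n → z ∈ SGA3b.torsionIdeal T (T ⊗[R] C) n) : z = 0 := by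
  classical
  let T' := T ⊗[R] E
  let i : T →ₐ[R] T' := Algebra.TensorProduct.includeLeft
  have hinj : Function.Injective (coefMap C i) := by
    intro x y h
    refine Module.FaithfullyFlat.tensorProduct_mk_injective (A := T) (B := T') (T ⊗[R] C) ?_
    apply (Algebra.TensorProduct.cancelBaseChange R T T' T' C).injective
    have hk : ∀ w, Algebra.TensorProduct.cancelBaseChange R T T' T' C ((1 : T') ⊗ₜ[T] w) = coefMap C i w := fun w => by
      induction w using TensorProduct.induction_on with
      | zero => simp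
      | add u v hu hv => simp only [tmul_add, map_add, hu, hv]
      | tmul t c =>
        rw [Algebra.TensorProduct.cancelBaseChange_tmul, coefMap_tmul, Algebra.smul_def, _root_.mul_one]
        rfl
    simp only [TensorProduct.mk_apply]
    rw [hk, hk, h]
  refine hinj ?_
  rw [map_zero]
  have hg' := hg.map (Algebra.TensorProduct.includeRight : E →ₐ[R] T')
  obtain ⟨x, hx⟩ := hg'.2 (coefMap C i z)
  suffices x = 0 by rw [← hx, this, map_zero]
  refine MonoidAlgebra.ext (Finsupp.ext fun m => ?_)
  obtain ⟨n, hn, hsep⟩ := exists_separating (x.coeff.support.image fun d => d * m⁻¹)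
  let χ : T' ⊗[R] C →ₐc[T'] MonoidAlgebra T' (M ⧸ powSub M n) :=
    (mapDomainBialgHom T' (QuotientGroup.mk' (powSub M n))).comp
      (hg'.equiv.symm : T' ⊗[R] C →ₐc[T'] MonoidAlgebra T' M)
  have hχ : ∀ y ∈ SGA3b.torsionIdeal T' (T' ⊗[R] C) n, χ y = 0 := by
    intro y hy
    have h0 : SGA3b.torsionIdeal T' (MonoidAlgebra T' (M ⧸ powSub M n)) n = ⊥ := by
      rw [SGA3b.torsionIdeal, Ideal.map_eq_bot_iff_le_ker]
      intro w hw
      have key : ∀ w : MonoidAlgebra T' (M ⧸ powSub M n),
          SGA3b.powConv T' _ n w = algebraMap T' _ (Coalgebra.counit w) := by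
        intro w
        induction w using MonoidAlgebra.induction_linear with
        | zero => simp
        | add a b ha hb => simp only [map_add, ha, hb]
        | single q r =>
          obtain ⟨q, rfl⟩ := QuotientGroup.mk_surjective q
          rw [show single (q : M ⧸ powSub M n) r = r • single (q : M ⧸ powSub M n) (1 : T') by simp, map_smul,
            powConv_groupLike n (MonoidAlgebra.isGroupLikeElem_single_one _), single_pow, ← QuotientGroup.mk_pow,
            (QuotientGroup.eq_one_iff _).mpr (mem_powSub.mpr ⟨q, rfl⟩)]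
          simp [Algebra.algebraMap_eq_smul_one, MonoidAlgebra.one_def]
      rw [RingHom.mem_ker]
      change SGA3b.powConv T' _ n w = 0
      rw [key, show Coalgebra.counit (R := T') w = 0 from (RingHom.mem_ker.mp hw :), map_zero]
    have := torsionIdeal_map_le χ n (Ideal.mem_map_of_mem _ hy)
    rwa [h0, Ideal.mem_bot] at this
  have h1 : χ (coefMap C i z) = 0 := hχ _ (coefMap_torsionIdeal i n (hz n hn))
  have h2 : χ (glHom (glMap C (Algebra.TensorProduct.includeRight : E →ₐ[R] T') |>.comp g) x) =
      mapDomainBialgHom T' (QuotientGroup.mk' (powSub M n)) x := by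
    change mapDomainBialgHom T' _ (hg'.equiv.symm _) = _
    rw [← hg'.equiv_apply, BialgEquiv.symm_apply_apply]
  rw [← hx, h2] at h1
  have h3 := congrArg (fun w => w.coeff (m : M ⧸ powSub M n)) h1
  simp only [MonoidAlgebra.coeff_zero, Finsupp.zero_apply] at h3
  change (Finsupp.mapDomain (QuotientGroup.mk' (powSub M n)) x.coeff) (m : M ⧸ powSub M n) = 0 at h3
  rw [Finsupp.mapDomain, Finsupp.sum_apply, Finsupp.sum] at h3
  rw [Finset.sum_eq_single m] at h3
  · simpa using h3
  · intro d hd hne
    rw [Finsupp.single_eq_of_ne]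
    intro h
    refine hne (mul_inv_eq_one.mp (hsep _ (Finset.mem_image_of_mem _ hd) ?_))
    exact QuotientGroup.eq_iff_div_mem.mp (by simpa using h.symm) |> fun h => by simpa [div_eq_mul_inv] using h
  · intro hm
    rw [Finsupp.notMem_support_iff.mp hm, Finsupp.single_zero, Finsupp.zero_apply]

end BaseChange

/-- An idempotent of a finite algebra in the radical part vanishes. -/
theorem eq_zero_of_idem_finite {R : Type u} [CommRing R] {X : Type u} [CommRing X] [Algebra R X] [Module.Finite R X]
    {I : Ideal R} (hI : I ≤ Ring.jacobson R) {x : X} (hx : IsIdempotentElem x) (hxI : x ∈ I.map (algebraMap R X)) :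
    x = 0 := by
  haveI : Module.Finite R (X ⧸ (⊥ : Ideal X)) :=
    Module.Finite.of_surjective (Ideal.Quotient.mkₐ R (⊥ : Ideal X)).toLinearMap Ideal.Quotient.mk_surjective
  exact Ideal.mem_bot.mp (mem_of_finite_quot hI ⊥ hx hxI)

/-- Multiplicative type over a local ring is stable under base change. -/
theorem isMultType_baseChange {R : Type u} [CommRing R] [IsLocalRing R] {C : Type u} [CommRing C] [HopfAlgebra R C]
    (h : SGA3b.IsMultType R C) (T : Type u) [CommRing T] [Algebra R T] : SGA3b.IsMultType T (T ⊗[R] C) := by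
  obtain ⟨R', _, _, _, M, _, hff, -, ⟨e⟩⟩ := GrothLib.Hopf.exists_local_chart h
  haveI := hff
  obtain ⟨g, hg⟩ := exists_frame_of_equiv e
  exact isMultType_of_frame ((hg.map (Algebra.TensorProduct.includeRight : R' →ₐ[R] T ⊗[R] R')).push
    (GrothLib.Hopf.cancelBaseChange R T (T ⊗[R] R') C).symm)

end GrothLib.MultLift
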