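import Groth.Agent.Lib.MultLift.GroupAlgImage
import Groth.Agent.Lib.MultLift.TorsionIdeal
import Groth.Agent.Lib.MultLocal.SpreadFP
import Groth.Agent.Lib.MultLocal.Main
import Mathlib.RingTheory.Finiteness.Descent
import Mathlib.RingTheory.TensorProduct.MonoidAlgebra
import Mathlib.RingTheory.RingHom.FinitePresentation

/-!
Kernels of homomorphisms out of groups of multiplicative type and of finite type.
-/

universe u

set_option linter.style.haveILetI false
set_option maxSynthPendingDepth 3

open TensorProduct MonoidAlgebra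

namespace GrothLib.MultLift

open GrothLib.MultLocal

/-- Group algebras of finitely generated groups are of finite presentation. -/
theorem finitePresentation_groupAlg (T : Type u) [CommRing T] (M : Type u) [CommGroup M] [Group.FG M] :
    Algebra.FinitePresentation T (MonoidAlgebra T M) := by
  haveI : Algebra.FiniteType (ULift.{u} ℤ) (MonoidAlgebra (ULift.{u} ℤ) M) :=
    MonoidAlgebra.finiteType_iff_group_fg.mpr inferInstance
  haveI : Algebra.FinitePresentation (ULift.{u} ℤ) (MonoidAlgebra (ULift.{u} ℤ) M) :=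
    haveI : IsNoetherianRing (ULift.{u} ℤ) := isNoetherianRing_of_ringEquiv ℤ ULift.ringEquiv.symm
    Algebra.FinitePresentation.of_finiteType.mp inferInstance
  letI : Algebra (ULift.{u} ℤ) T := ((algebraMap ℤ T).comp ULift.ringEquiv.toRingHom).toAlgebra
  exact Algebra.FinitePresentation.equiv (MonoidAlgebra.scalarTensorEquiv (M := M) (ULift.{u} ℤ) T)

variable {R : Type u} [CommRing R] {A : Type u} [CommRing A] [HopfAlgebra R A]

/-- Groups of multiplicative type and of finite type are of finite presentation. -/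
theorem finitePresentation_of_isMultType [Algebra.FiniteType R A] (h : SGA3b.IsMultType R A) :
    Algebra.FinitePresentation R A := by
  obtain ⟨s, hs, hloc⟩ := h
  have hloc' : ∀ f ∈ s, Algebra.FinitePresentation (Localization.Away f) (Localization.Away f ⊗[R] A) := by
    intro f hf
    obtain ⟨R', _, _, hff, M, _, ⟨d⟩⟩ := hloc f hf
    haveI := hff
    rcases subsingleton_or_nontrivial R' with h' | h'
    · haveI : Subsingleton (Localization.Away f) := (FaithfulSMul.algebraMap_injective _ R').subsingleton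
      haveI : Subsingleton (Localization.Away f ⊗[R] A) := Module.subsingleton (Localization.Away f) _
      haveI : Algebra.FiniteType (Localization.Away f) (Localization.Away f ⊗[R] A) := inferInstance
      haveI : IsNoetherianRing (Localization.Away f) := inferInstance
      exact Algebra.FinitePresentation.of_finiteType.mp inferInstance
    · obtain ⟨g, hg⟩ := exists_frame_of_equiv d
      haveI : Group.FG M := fg_of_frame hg
      haveI := finitePresentation_groupAlg R' M
      haveI : Algebra.FinitePresentation R' (R' ⊗[Localization.Away f] (Localization.Away f ⊗[R] A)) :=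
        Algebra.FinitePresentation.equiv hg.equiv.toAlgEquiv
      exact Algebra.FinitePresentation.of_finitePresentation_tensorProduct_of_faithfullyFlat (T := R')
  refine Algebra.FinitePresentation.of_span_eq_top_target (algebraMap R A '' s) ?_ ?_
  · rw [← Ideal.map_span, hs, Ideal.map_top]
  · rintro _ ⟨f, hf, rfl⟩
    haveI := hloc' f hf
    let S := Localization.Away f
    haveI : Algebra.FinitePresentation R S := IsLocalization.Away.finitePresentation f
    haveI : Algebra.FinitePresentation R (S ⊗[R] A) := Algebra.FinitePresentation.trans R S (S ⊗[R] A)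
    letI : Algebra A (S ⊗[R] A) := Algebra.TensorProduct.rightAlgebra
    haveI : IsScalarTower R A (S ⊗[R] A) := IsScalarTower.of_algebraMap_eq fun r => by
      rw [IsScalarTower.algebraMap_apply R S (S ⊗[R] A), Algebra.TensorProduct.algebraMap_apply]
      change algebraMap R S r ⊗ₜ[R] (1 : A) = (1 : S) ⊗ₜ[R] algebraMap R A r
      rw [Algebra.algebraMap_eq_smul_one, Algebra.algebraMap_eq_smul_one, smul_tmul]
    haveI : IsLocalization.Away (algebraMap R A f) (S ⊗[R] A) := by
      have h1 : IsLocalization (Algebra.algebraMapSubmonoid A (Submonoid.powers f)) (S ⊗[R] A) :=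
        IsLocalization.tensorRight _ (Submonoid.powers f)
      rwa [show Algebra.algebraMapSubmonoid A (Submonoid.powers f) = Submonoid.powers (algebraMap R A f) from
        Submonoid.map_powers _ _] at h1
    exact Algebra.FinitePresentation.equiv ((IsLocalization.algEquiv (Submonoid.powers (algebraMap R A f))
      (S ⊗[R] A) (Localization.Away (algebraMap R A f))).restrictScalars R)

theorem isMultType_baseChange_atPrime (h : SGA3b.IsMultType R A) (p : Ideal R) [p.IsPrime] :
    SGA3b.IsMultType (Localization.AtPrime p) (Localization.AtPrime p ⊗[R] A) := by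
  obtain ⟨s, hs, hloc⟩ := h
  obtain ⟨f, hf, hfp⟩ : ∃ f ∈ s, f ∉ p := by
    by_contra! hc
    exact (‹p.IsPrime›).ne_top (top_le_iff.mp (hs ▸ Ideal.span_le.mpr hc))
  obtain ⟨R', _, _, hff, M, _, ⟨d⟩⟩ := hloc f hf
  let B := Localization.AtPrime p
  let S := Localization.Away f
  letI : Algebra R R' := Algebra.compHom R' (algebraMap R S)
  haveI : IsScalarTower R S R' := IsScalarTower.of_algebraMap_eq fun _ => rfl
  letI : Algebra S B := (IsLocalization.Away.lift (S := S) f (g := algebraMap R B)
    (IsLocalization.map_units B (⟨f, hfp⟩ : p.primeCompl))).toAlgebra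
  haveI : IsScalarTower R S B := IsScalarTower.of_algebraMap_eq fun x => (IsLocalization.Away.lift_eq f _ x).symm
  haveI := hff
  let T := B ⊗[S] R'
  obtain ⟨g, hg⟩ := exists_frame_of_equiv (GrothLib.Hopf.trivOfAway S R' d)
  exact isMultType_of_frame ((hg.map ((Algebra.TensorProduct.includeRight : R' →ₐ[S] T).restrictScalars R)).push
    (GrothLib.Hopf.cancelBaseChange R B T A).symm)

variable {C : Type u} [CommRing C] [HopfAlgebra R C]

theorem aug_baseChange (T : Type u) [CommRing T] [Algebra R T] :
    RingHom.ker (Bialgebra.counitAlgHom T (T ⊗[R] C)) =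
      (RingHom.ker (Bialgebra.counitAlgHom R C)).map (Algebra.TensorProduct.includeRight : C →ₐ[R] T ⊗[R] C) := by
  refine le_antisymm ?_ (Ideal.map_le_iff_le_comap.mpr fun c hc => ?_)
  · intro y hy
    have key : ∀ y : T ⊗[R] C, y - algebraMap T _ (Coalgebra.counit (R := T) y) ∈
        (RingHom.ker (Bialgebra.counitAlgHom R C)).map (Algebra.TensorProduct.includeRight : C →ₐ[R] T ⊗[R] C) := by
      intro y
      induction y using TensorProduct.induction_on with
      | zero => simp
      | add a b ha hb =>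
        rw [map_add, map_add, add_sub_add_comm]
        exact add_mem ha hb
      | tmul t c =>
        have : t ⊗ₜ[R] c - algebraMap T (T ⊗[R] C) (Coalgebra.counit (R := T) (t ⊗ₜ[R] c)) =
            (t ⊗ₜ[R] (1 : C)) * ((1 : T) ⊗ₜ[R] (c - algebraMap R C (Coalgebra.counit c))) := by
          rw [TensorProduct.counit_tmul, CommSemiring.counit_apply, Algebra.TensorProduct.algebraMap_apply,
            Algebra.TensorProduct.tmul_mul_tmul, _root_.mul_one, _root_.one_mul, tmul_sub,
            Algebra.algebraMap_eq_smul_one (A := C), tmul_smul, smul_tmul']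
          simp [Algebra.smul_def, mul_comm]
        rw [this]
        refine Ideal.mul_mem_left _ _ (Ideal.mem_map_of_mem _ ?_)
        rw [RingHom.mem_ker]
        simp
    have h := key y
    rwa [show Coalgebra.counit (R := T) y = 0 from (RingHom.mem_ker.mp hy :), map_zero, sub_zero] at h
  · rw [Ideal.mem_comap, RingHom.mem_ker]
    change Coalgebra.counit (R := T) ((1 : T) ⊗ₜ[R] c) = 0
    rw [TensorProduct.counit_tmul, show Coalgebra.counit (R := R) c = 0 from (RingHom.mem_ker.mp hc :), zero_smul]

/-- Over a local chart the kernel is diagonalisable. -/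
theorem exists_frame_kernel_local [Algebra.FiniteType R C] (φ : C →ₐc[R] A) (J : Ideal A) [J.IsHopfIdeal R]
    (hJ : J = Ideal.map φ (RingHom.ker (Bialgebra.counitAlgHom R C))) {T : Type u} [CommRing T] [IsLocalRing T]
    [Algebra R T] {M : Type u} [CommGroup M] {g : M →* GroupLike T (T ⊗[R] A)} (hg : IsFrame g) :
    ∃ (Q : Type u) (_ : CommGroup Q) (g' : Q →* GroupLike T (T ⊗[R] (A ⧸ J))), IsFrame g' := by
  let φT : T ⊗[R] C →ₐc[T] T ⊗[R] A := Bialgebra.TensorProduct.map (BialgHom.id T T) φ
  let θ : T ⊗[R] C →ₐc[T] MonoidAlgebra T M := (hg.equiv.symm : T ⊗[R] A →ₐc[T] MonoidAlgebra T M).comp φT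
  let Γ := imageSubgroup θ
  let p : T ⊗[R] A →ₐc[T] MonoidAlgebra T (M ⧸ Γ) :=
    (mapDomainBialgHom T (QuotientGroup.mk' Γ)).comp (hg.equiv.symm : T ⊗[R] A →ₐc[T] MonoidAlgebra T M)
  let π := Bialgebra.Quotient.mkBialgHom (R := R) J
  let P : T ⊗[R] A →ₐc[T] T ⊗[R] (A ⧸ J) := projT π T
  have hPs : Function.Surjective P := fun y => by
    induction y using TensorProduct.induction_on with
    | zero => exact ⟨0, map_zero _⟩
    | add a b ha hb =>
      obtain ⟨a', rfl⟩ := ha
      obtain ⟨b', rfl⟩ := hb
      exact ⟨a' + b', map_add _ _ _⟩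
    | tmul t c =>
      obtain ⟨c, rfl⟩ := Ideal.Quotient.mk_surjective c
      exact ⟨t ⊗ₜ c, rfl⟩
  have hps : Function.Surjective p := fun y => by
    induction y using MonoidAlgebra.induction_linear with
    | zero => exact ⟨0, map_zero _⟩
    | add a b ha hb =>
      obtain ⟨a', rfl⟩ := ha
      obtain ⟨b', rfl⟩ := hb
      exact ⟨a' + b', map_add _ _ _⟩
    | single q r =>
      obtain ⟨m, rfl⟩ := QuotientGroup.mk_surjective q
      refine ⟨hg.equiv (single m r), ?_⟩
      change mapDomainBialgHom T _ (hg.equiv.symm (hg.equiv (single m r))) = _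
      rw [BialgEquiv.symm_apply_apply, mapDomainBialgHom_single]
      rfl
  have hker : ∀ y, P y = 0 ↔ p y = 0 := by
    intro y
    have h1 : RingHom.ker (P : T ⊗[R] A →ₐ[T] T ⊗[R] (A ⧸ J)) =
        Ideal.map (Algebra.TensorProduct.includeRight : A →ₐ[R] T ⊗[R] A) J := by
      have h := Algebra.TensorProduct.lTensor_ker (A := T) (Ideal.Quotient.mkₐ R J) (Ideal.Quotient.mkₐ_surjective R _)
      rw [show RingHom.ker (Ideal.Quotient.mkₐ R J) = J from Ideal.mk_ker] at h
      exact h
    have h2 : Ideal.map (Algebra.TensorProduct.includeRight : A →ₐ[R] T ⊗[R] A) J =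
        Ideal.map (φT : T ⊗[R] C →ₐ[T] T ⊗[R] A) (RingHom.ker (Bialgebra.counitAlgHom T (T ⊗[R] C))) := by
      have hc : ((φT : T ⊗[R] C →ₐ[T] T ⊗[R] A) : T ⊗[R] C →+* T ⊗[R] A).comp
          ((Algebra.TensorProduct.includeRight : C →ₐ[R] T ⊗[R] C) : C →+* T ⊗[R] C) =
          ((Algebra.TensorProduct.includeRight : A →ₐ[R] T ⊗[R] A) : A →+* T ⊗[R] A).comp ((φ : C →ₐ[R] A) : C →+* A) :=
        RingHom.ext fun c => rfl
      rw [aug_baseChange, hJ]
      change Ideal.map ((Algebra.TensorProduct.includeRight : A →ₐ[R] T ⊗[R] A) : A →+* T ⊗[R] A)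
        (Ideal.map ((φ : C →ₐ[R] A) : C →+* A) _) = Ideal.map ((φT : T ⊗[R] C →ₐ[T] T ⊗[R] A) : T ⊗[R] C →+* T ⊗[R] A)
        (Ideal.map ((Algebra.TensorProduct.includeRight : C →ₐ[R] T ⊗[R] C) : C →+* T ⊗[R] C) _)
      rw [Ideal.map_map, Ideal.map_map, hc]
    have hs := span_image_aug θ
    have h3 : Ideal.map (θ : T ⊗[R] C →ₐ[T] MonoidAlgebra T M) (RingHom.ker (Bialgebra.counitAlgHom T (T ⊗[R] C))) =
        Ideal.map (hg.equiv.symm.toAlgEquiv : T ⊗[R] A →+* MonoidAlgebra T M)
          (Ideal.map (φT : T ⊗[R] C →ₐ[T] T ⊗[R] A) (RingHom.ker (Bialgebra.counitAlgHom T (T ⊗[R] C)))) := by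
      change _ = Ideal.map _ (Ideal.map ((φT : T ⊗[R] C →ₐ[T] T ⊗[R] A) : T ⊗[R] C →+* T ⊗[R] A) _)
      rw [Ideal.map_map]
      rfl
    rw [hs, ← h2, ← h1] at h3
    constructor
    · intro hy
      have h4 : hg.equiv.symm y ∈ RingHom.ker (mapDomainAlgHom T T (QuotientGroup.mk' Γ)) := by
        rw [h3]
        exact Ideal.mem_map_of_mem _ (RingHom.mem_ker.mpr hy)
      exact RingHom.mem_ker.mp h4
    · intro hy
      have h4 : hg.equiv.symm y ∈ RingHom.ker (mapDomainAlgHom T T (QuotientGroup.mk' Γ)) := RingHom.mem_ker.mpr hy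
      rw [h3] at h4
      obtain ⟨x, hx, hxy⟩ := (Ideal.mem_map_iff_of_surjective (hg.equiv.symm.toAlgEquiv : T ⊗[R] A →+* MonoidAlgebra T M)
        hg.equiv.symm.toAlgEquiv.surjective).mp h4
      have hxy' : x = y := hg.equiv.symm.toAlgEquiv.injective hxy
      exact RingHom.mem_ker.mp (hxy' ▸ hx)
  obtain ⟨u, hu⟩ := exists_factor_surjective P hPs p fun y hy => (hker y).mp hy
  obtain ⟨v, hv⟩ := exists_factor_surjective p hps P fun y hy => (hker y).mpr hy
  let e : T ⊗[R] (A ⧸ J) ≃ₐc[T] MonoidAlgebra T (M ⧸ Γ) := BialgEquiv.ofBialgHom u v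
    (BialgHom.ext fun z => by
      obtain ⟨y, rfl⟩ := hps z
      change u (v (p y)) = p y
      rw [hv, hu])
    (BialgHom.ext fun z => by
      obtain ⟨y, rfl⟩ := hPs z
      change v (u (P y)) = P y
      rw [hu, hv])
  exact ⟨M ⧸ Γ, inferInstance, exists_frame_of_equiv e⟩

/-- The kernel of a homomorphism out of a group of multiplicative type and of finite type. -/
theorem isMultType_kernel [Algebra.FiniteType R A] [Algebra.FiniteType R C] (h : SGA3b.IsMultType R A)
    (φ : C →ₐc[R] A) (J : Ideal A) [J.IsHopfIdeal R]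
    (hJ : J = Ideal.map φ (RingHom.ker (Bialgebra.counitAlgHom R C))) : SGA3b.IsMultType R (A ⧸ J) := by
  classical
  haveI := finitePresentation_of_isMultType h
  have hfg : J.FG := by
    obtain ⟨s, hs⟩ := Algebra.FiniteType.out (R := R) (A := C)
    refine ⟨s.image fun c => φ c - algebraMap R A (Coalgebra.counit c), le_antisymm ?_ ?_⟩
    · refine Ideal.span_le.mpr fun x hx => ?_
      obtain ⟨c, -, rfl⟩ := Finset.mem_image.mp hx
      rw [hJ, SetLike.mem_coe, show φ c - algebraMap R A (Coalgebra.counit c) = φ (c - algebraMap R C (Coalgebra.counit c)) by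
        rw [map_sub, show φ (algebraMap R C (Coalgebra.counit c)) = algebraMap R A (Coalgebra.counit c) from
          (φ : C →ₐ[R] A).commutes _]]
      exact Ideal.mem_map_of_mem _ (by rw [RingHom.mem_ker]; simp)
    · rw [hJ]
      let K := Ideal.span (s.image fun c => φ c - algebraMap R A (Coalgebra.counit c) : Set A)
      have key : (Ideal.Quotient.mkₐ R K).comp (φ : C →ₐ[R] A) =
          ((Algebra.ofId R (A ⧸ K)).comp (Bialgebra.counitAlgHom R C)) := AlgHom.ext_of_adjoin_eq_top hs fun c hc => by
        change Ideal.Quotient.mk K (φ c) = algebraMap R (A ⧸ K) (Coalgebra.counit c)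
        rw [IsScalarTower.algebraMap_apply R A (A ⧸ K), Ideal.Quotient.algebraMap_eq, Ideal.Quotient.eq]
        exact Ideal.subset_span (Finset.mem_image_of_mem _ hc)
      refine Ideal.map_le_iff_le_comap.mpr fun c hc => ?_
      rw [Ideal.mem_comap, ← Ideal.Quotient.eq_zero_iff_mem]
      have := DFunLike.congr_fun key c
      simp only [AlgHom.comp_apply] at this
      exact this.trans (by rw [show Bialgebra.counitAlgHom R C c = 0 from RingHom.mem_ker.mp hc, map_zero])
  haveI : Algebra.FinitePresentation R (A ⧸ J) := Algebra.FinitePresentation.quotient hfg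
  refine isMultType_of_atPrime fun p _ => ?_
  let B := Localization.AtPrime p
  obtain ⟨T, _, _, _, M, _, hff, -, ⟨η⟩⟩ := GrothLib.Hopf.exists_local_chart (isMultType_baseChange_atPrime h p)
  letI : Algebra R T := Algebra.compHom T (algebraMap R B)
  haveI : IsScalarTower R B T := IsScalarTower.of_algebraMap_eq fun _ => rfl
  obtain ⟨g, hg⟩ := exists_frame_of_equiv η
  obtain ⟨Q, _, g', hg'⟩ := exists_frame_kernel_local φ J hJ (hg.push (GrothLib.Hopf.cancelBaseChange R B T A))
  haveI := hff
  exact isMultType_of_frame (hg'.push (GrothLib.Hopf.cancelBaseChange R B T (A ⧸ J)).symm)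

end GrothLib.MultLift
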