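import Groth.Agent.Lib.MultLift.Conv
import Mathlib.RingTheory.Bialgebra.TensorProduct
import Mathlib.Tactic.NoncommRing

/-!
Lifting homomorphisms into smooth groups out of groups with an invariant integral.
-/

universe u

set_option linter.style.haveILetI false

open TensorProduct WithConv

namespace GrothLib.MultLift

variable {R : Type u} [CommRing R] {A : Type u} [CommRing A] [HopfAlgebra R A]
  {C : Type u} [CommRing C] [HopfAlgebra R C]

section Faces

variable (R A)

/-- The first inclusion. -/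
noncomputable def p₁ : A →ₐ[R] A ⊗[R] A := Algebra.TensorProduct.includeLeft

/-- The second inclusion. -/
noncomputable def p₂ : A →ₐ[R] A ⊗[R] A := Algebra.TensorProduct.includeRight

/-- The multiplication of the group. -/
noncomputable def mm : A →ₐ[R] A ⊗[R] A := Bialgebra.comulAlgHom R A

/-- The face forgetting the last factor. -/
noncomputable def a₁₂ : A ⊗[R] A →ₐ[R] A ⊗[R] (A ⊗[R] A) := Algebra.TensorProduct.map (AlgHom.id R A) (p₁ R A)

/-- The face forgetting the first factor. -/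
noncomputable def a₂₃ : A ⊗[R] A →ₐ[R] A ⊗[R] (A ⊗[R] A) := Algebra.TensorProduct.includeRight

/-- The face multiplying the first two factors. -/
noncomputable def m₁₂ : A ⊗[R] A →ₐ[R] A ⊗[R] (A ⊗[R] A) :=
  (Algebra.TensorProduct.assoc R R R A A A).toAlgHom.comp (Algebra.TensorProduct.map (mm R A) (AlgHom.id R A))

/-- The face multiplying the last two factors. -/
noncomputable def m₂₃ : A ⊗[R] A →ₐ[R] A ⊗[R] (A ⊗[R] A) := Algebra.TensorProduct.map (AlgHom.id R A) (mm R A)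

theorem a₁₂_tmul (x y : A) : a₁₂ R A (x ⊗ₜ y) = x ⊗ₜ (y ⊗ₜ 1) := rfl
theorem a₂₃_tmul (z : A ⊗[R] A) : a₂₃ R A z = (1 : A) ⊗ₜ z := rfl
theorem m₂₃_tmul (x y : A) : m₂₃ R A (x ⊗ₜ y) = x ⊗ₜ Coalgebra.comul (R := R) y := rfl
theorem m₁₂_tmul (x y : A) :
    m₁₂ R A (x ⊗ₜ y) = TensorProduct.assoc R A A A (Coalgebra.comul (R := R) x ⊗ₜ[R] y) := rfl

theorem m₂₃_p₁ : (m₂₃ R A).comp (p₁ R A) = (a₁₂ R A).comp (p₁ R A) :=
  AlgHom.ext fun x => by
    change x ⊗ₜ[R] Coalgebra.comul (R := R) (1 : A) = x ⊗ₜ[R] ((1 : A) ⊗ₜ[R] (1 : A))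
    rw [Bialgebra.comul_one, Algebra.TensorProduct.one_def]

theorem a₂₃_p₁ : (a₂₃ R A).comp (p₁ R A) = (a₁₂ R A).comp (p₂ R A) := rfl

theorem a₁₂_mm : (a₁₂ R A).comp (mm R A) = (m₁₂ R A).comp (p₁ R A) :=
  AlgHom.ext fun x => by
    change a₁₂ R A (Coalgebra.comul (R := R) x) = TensorProduct.assoc R A A A (Coalgebra.comul (R := R) x ⊗ₜ[R] 1)
    induction Coalgebra.comul (R := R) x using TensorProduct.induction_on with
    | zero => simp
    | add u v hu hv => simp only [map_add, add_tmul, hu, hv]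
    | tmul u v => rfl

theorem a₂₃_mm : (a₂₃ R A).comp (mm R A) = (m₂₃ R A).comp (p₂ R A) := rfl

theorem m₁₂_p₂ : (m₁₂ R A).comp (p₂ R A) = (a₂₃ R A).comp (p₂ R A) :=
  AlgHom.ext fun x => by
    change TensorProduct.assoc R A A A (Coalgebra.comul (R := R) (1 : A) ⊗ₜ[R] x) = (1 : A) ⊗ₜ[R] ((1 : A) ⊗ₜ[R] x)
    rw [Bialgebra.comul_one, Algebra.TensorProduct.one_def, TensorProduct.assoc_tmul]

theorem m₁₂_mm : (m₁₂ R A).comp (mm R A) = (m₂₃ R A).comp (mm R A) :=
  AlgHom.ext fun x => by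
    have h := Coalgebra.coassoc_apply (R := R) x
    change m₁₂ R A (Coalgebra.comul (R := R) x) = m₂₃ R A (Coalgebra.comul (R := R) x)
    have h₁ : ∀ z, m₁₂ R A z = TensorProduct.assoc R A A A ((Coalgebra.comul (R := R)).rTensor A z) := fun z => by
      induction z using TensorProduct.induction_on with
      | zero => simp
      | add u v hu hv => simp only [map_add, hu, hv]
      | tmul u v => rfl
    have h₂ : ∀ z, m₂₃ R A z = (Coalgebra.comul (R := R)).lTensor A z := fun z => by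
      induction z using TensorProduct.induction_on with
      | zero => simp
      | add u v hu hv => simp only [map_add, hu, hv]
      | tmul u v => rfl
    rw [h₁, h₂, h]

end Faces

section Average

variable (j : A →ₗ[R] R)

/-- Averaging over the second factor. -/
noncomputable def rho : A ⊗[R] A →ₗ[R] A := (TensorProduct.rid R A).toLinearMap ∘ₗ j.lTensor A

/-- Averaging over the third factor. -/
noncomputable def rho₃ : A ⊗[R] (A ⊗[R] A) →ₗ[R] A ⊗[R] A := (rho j).lTensor A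

theorem rho_tmul (x y : A) : rho j (x ⊗ₜ y) = j y • x := rfl

variable {j}

theorem rho_one (h1 : j 1 = 1) : rho j 1 = 1 := by
  rw [Algebra.TensorProduct.one_def, rho_tmul, h1, one_smul]

theorem rho_semilinear (a : A) (t : A ⊗[R] A) : rho j (p₁ R A a * t) = a * rho j t := by
  induction t using TensorProduct.induction_on with
  | zero => simp
  | add u v hu hv => simp only [mul_add, map_add, hu, hv]
  | tmul x y => simp [p₁, rho_tmul]

theorem rho₃_semilinear (s : A ⊗[R] A) (t : A ⊗[R] (A ⊗[R] A)) : rho₃ j (a₁₂ R A s * t) = s * rho₃ j t := by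
  induction s using TensorProduct.induction_on with
  | zero => simp
  | add u v hu hv => simp only [map_add, add_mul, hu, hv]
  | tmul x y =>
    induction t using TensorProduct.induction_on with
    | zero => simp
    | add u v hu hv => simp only [mul_add, map_add, hu, hv]
    | tmul x' w =>
      rw [a₁₂_tmul, Algebra.TensorProduct.tmul_mul_tmul, show y ⊗ₜ[R] (1 : A) = p₁ R A y from rfl]
      change (x * x') ⊗ₜ[R] rho j (p₁ R A y * w) = (x ⊗ₜ[R] y) * (x' ⊗ₜ[R] rho j w)
      rw [rho_semilinear, Algebra.TensorProduct.tmul_mul_tmul]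

theorem rho₃_a₁₂ (h1 : j 1 = 1) (s : A ⊗[R] A) : rho₃ j (a₁₂ R A s) = s := by
  induction s using TensorProduct.induction_on with
  | zero => simp
  | add u v hu hv => simp only [map_add, hu, hv]
  | tmul x y => change x ⊗ₜ[R] (j 1 • y) = _; rw [h1, one_smul]

theorem rho₃_a₂₃ (s : A ⊗[R] A) : rho₃ j (a₂₃ R A s) = p₂ R A (rho j s) := rfl

theorem rho₃_m₁₂ (s : A ⊗[R] A) : rho₃ j (m₁₂ R A s) = mm R A (rho j s) := by
  induction s using TensorProduct.induction_on with
  | zero => simp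
  | add u v hu hv => simp only [map_add, hu, hv]
  | tmul x y =>
    rw [m₁₂_tmul, rho_tmul, map_smul]
    change _ = j y • Coalgebra.comul (R := R) x
    induction Coalgebra.comul (R := R) x using TensorProduct.induction_on with
    | zero => simp
    | add u v hu hv => simp only [add_tmul, map_add, smul_add, hu, hv]
    | tmul u v => simp [rho₃, rho_tmul]

theorem rho₃_m₂₃ (hj : ∀ a, rho j (Coalgebra.comul (R := R) a) = algebraMap R A (j a)) (s : A ⊗[R] A) :
    rho₃ j (m₂₃ R A s) = p₁ R A (rho j s) := by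
  induction s using TensorProduct.induction_on with
  | zero => simp
  | add u v hu hv => simp only [map_add, hu, hv]
  | tmul x y =>
    change x ⊗ₜ[R] rho j (Coalgebra.comul (R := R) y) = (j y • x) ⊗ₜ[R] (1 : A)
    rw [hj, Algebra.algebraMap_eq_smul_one, tmul_smul, smul_tmul']

end Average

/-- The failure of a point to be a homomorphism. -/
noncomputable def defect (φ : C →ₐ[R] A) : WithConv (C →ₗ[R] A ⊗[R] A) :=
  pu (p₁ R A) (pt φ) * pu (p₂ R A) (pt φ) * pu (mm R A) (ptInv φ)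

/-- One step of the successive lifting. -/
theorem exists_step [Algebra.FormallySmooth R C] (j : A →ₗ[R] R) (h1 : j 1 = 1)
    (hj : ∀ a, rho j (Coalgebra.comul (R := R) a) = algebraMap R A (j a)) (K : Ideal R) (hK : IsNilpotent K)
    (φ : C →ₐ[R] A) (hφ : defect φ - 1 ∈ Z (K.map (algebraMap R (A ⊗[R] A)))) :
    ∃ φ' : C →ₐ[R] A, pt φ' - pt φ ∈ Z (K.map (algebraMap R A)) ∧
      defect φ' - 1 ∈ Z ((K * K).map (algebraMap R (A ⊗[R] A))) := by
  set LA := (K * K).map (algebraMap R A) with hLA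
  set L2 := (K * K).map (algebraMap R (A ⊗[R] A)) with hL2
  set L3 := (K * K).map (algebraMap R (A ⊗[R] (A ⊗[R] A))) with hL3
  set P := pt φ with hP
  set Q := ptInv φ with hQ
  set e := defect φ - 1 with he
  set B := lu (rho j) e with hB
  have sq : ∀ {S : Type u} [CommRing S] [Algebra R S] {x y : WithConv (C →ₗ[R] S)},
      x ∈ Z (K.map (algebraMap R S)) → y ∈ Z (K.map (algebraMap R S)) → x * y ∈ Z ((K * K).map (algebraMap R S)) := by
    intro S _ _ x y hx hy
    rw [Ideal.map_mul]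
    exact mul_mem_Z hx hy
  have hBK : B ∈ Z (K.map (algebraMap R A)) := lu_mem_Z (rho j) hφ
  -- the cocycle identity
  let x1 := pu (a₁₂ R A) (pu (p₁ R A) P)
  let y1 := pu (a₁₂ R A) (pu (p₁ R A) Q)
  have hinv1 : x1 * y1 = 1 := by
    simp only [x1, y1, hP, hQ]
    rw [← map_mul, ← map_mul, mul_ptInv, map_one, map_one]
  have hcoc : pu (a₁₂ R A) (defect φ) * pu (m₁₂ R A) (defect φ) =
      x1 * pu (a₂₃ R A) (defect φ) * y1 * pu (m₂₃ R A) (defect φ) := by
    have hl : pu (m₁₂ R A) (pu (p₁ R A) P) = pu (a₁₂ R A) (pu (mm R A) P) := by rw [pu_pu, pu_pu, a₁₂_mm]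
    have hr : pu (m₂₃ R A) (pu (p₁ R A) P) = x1 := by simp only [x1]; rw [pu_pu, pu_pu, m₂₃_p₁]
    have hm : pu (m₂₃ R A) (pu (p₂ R A) P) = pu (a₂₃ R A) (pu (mm R A) P) := by rw [pu_pu, pu_pu, a₂₃_mm]
    have hc3 : pu (m₁₂ R A) (pu (p₂ R A) P) = pu (a₂₃ R A) (pu (p₂ R A) P) := by rw [pu_pu, pu_pu, m₁₂_p₂]
    have hc2 : pu (a₂₃ R A) (pu (p₁ R A) P) = pu (a₁₂ R A) (pu (p₂ R A) P) := by rw [pu_pu, pu_pu, a₂₃_p₁]
    have hmm : pu (m₁₂ R A) (pu (mm R A) Q) = pu (m₂₃ R A) (pu (mm R A) Q) := by rw [pu_pu, pu_pu, m₁₂_mm]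
    have hQP : ∀ {T : Type u} [CommRing T] [Algebra R T] (i : A →ₐ[R] T) (z : WithConv (C →ₗ[R] T)),
        pu i Q * (pu i P * z) = z := by
      intro T _ _ i z
      rw [← _root_.mul_assoc, hP, hQ, ← map_mul, ptInv_mul, map_one, _root_.one_mul]
    simp only [defect, map_mul, _root_.mul_assoc]
    rw [hl, hc3, hmm, hr, hm, hc2]
    simp only [x1, y1, pu_pu]
    rw [hQP, hQP, hQP]
  have hlin : pu (a₁₂ R A) e + pu (m₁₂ R A) e - (x1 * pu (a₂₃ R A) e * y1 + pu (m₂₃ R A) e) ∈ Z L3 := by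
    have key : pu (a₁₂ R A) e + pu (m₁₂ R A) e - (x1 * pu (a₂₃ R A) e * y1 + pu (m₂₃ R A) e) =
        x1 * pu (a₂₃ R A) e * y1 * pu (m₂₃ R A) e - pu (a₁₂ R A) e * pu (m₁₂ R A) e := by
      have hd : defect φ = 1 + e := by rw [he, add_sub_cancel]
      rw [hd, map_add, map_add, map_add, map_add, map_one, map_one, map_one, map_one,
        show x1 * (1 + pu (a₂₃ R A) e) * y1 = 1 + x1 * pu (a₂₃ R A) e * y1 by
          rw [_root_.mul_add, _root_.add_mul, _root_.mul_one, hinv1]] at hcoc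
      rw [← sub_eq_zero, ← sub_eq_zero.mpr hcoc]
      noncomm_ring
    rw [key]
    exact sub_mem (sq (mul_mem_Z_right (mul_mem_Z_left (pu_mem_Z _ hφ) _) _) (pu_mem_Z _ hφ))
      (sq (pu_mem_Z _ hφ) (pu_mem_Z _ hφ))
  -- its average
  have hav : e + pu (mm R A) B - (pu (p₁ R A) P * pu (p₂ R A) B * pu (p₁ R A) Q + pu (p₁ R A) B) ∈ Z L2 := by
    have h := lu_mem_Z (rho₃ j) hlin
    rw [map_sub, map_add, map_add] at h
    have e₁ : lu (rho₃ j) (pu (a₁₂ R A) e) = e := WithConv.ext (LinearMap.ext fun c => rho₃_a₁₂ h1 _)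
    have e₂ : lu (rho₃ j) (pu (m₁₂ R A) e) = pu (mm R A) B := WithConv.ext (LinearMap.ext fun c => rho₃_m₁₂ _)
    have e₃ : lu (rho₃ j) (x1 * pu (a₂₃ R A) e * y1) = pu (p₁ R A) P * pu (p₂ R A) B * pu (p₁ R A) Q := by
      rw [lu_mul_pu (rho₃ j) (a₁₂ R A) rho₃_semilinear, lu_pu_mul (rho₃ j) (a₁₂ R A) rho₃_semilinear,
        show lu (rho₃ j) (pu (a₂₃ R A) e) = pu (p₂ R A) B from WithConv.ext (LinearMap.ext fun c => rho₃_a₂₃ _)]
    have e₄ : lu (rho₃ j) (pu (m₂₃ R A) e) = pu (p₁ R A) B := WithConv.ext (LinearMap.ext fun c => rho₃_m₂₃ hj _)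
    rwa [e₁, e₂, e₃, e₄] at h
  -- the correction is multiplicative
  have hmul : IsMulMod LA ((1 - B) * P) := by
    refine IsMulMod.mul ?_ (isMulMod_pt LA φ)
    let df : C →ₐ[R] A ⊗[R] A := (toConv ((toConv ((p₁ R A).comp φ) * toConv ((p₂ R A).comp φ)).ofConv) *
      toConv ((mm R A).comp (φ.comp (HopfAlgebra.antipodeAlgHom R C)))).ofConv
    have hdf : defect φ = pt df := by
      rw [defect, ptInv, pu_pt, pu_pt, pu_pt, pt_mul, pt_mul]
    have he' : ∀ c, e.ofConv c = df c - algebraMap R _ (Coalgebra.counit c) := fun c => by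
      rw [he, hdf, WithConv.ofConv_sub, LinearMap.sub_apply, pt_apply]
      rfl
    have hB' : ∀ c, B.ofConv c = rho j (e.ofConv c) := fun c => rfl
    refine ⟨?_, fun c c' => ?_⟩
    · have : (1 - B).ofConv 1 - 1 = 0 := by
        have he1 : e.ofConv 1 = 0 := by rw [he', map_one df, Bialgebra.counit_one, map_one, sub_self]
        rw [WithConv.ofConv_sub, LinearMap.sub_apply, hB', he1, map_zero, sub_zero]
        simp
      rw [this]; exact zero_mem _
    · have hval : ∀ c, (1 - B).ofConv c = algebraMap R A (Coalgebra.counit c) - B.ofConv c := fun c => rfl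
      have hee : e.ofConv (c * c') = Coalgebra.counit (R := R) c • e.ofConv c' + Coalgebra.counit (R := R) c' • e.ofConv c +
          e.ofConv c * e.ofConv c' := by
        simp only [he', map_mul, Bialgebra.counit_mul, Algebra.smul_def]
        ring
      have hBB : B.ofConv (c * c') = Coalgebra.counit (R := R) c • B.ofConv c' + Coalgebra.counit (R := R) c' • B.ofConv c +
          rho j (e.ofConv c * e.ofConv c') := by
        simp only [hB', hee, map_add, map_smul]
      have hd : (1 - B).ofConv (c * c') - (1 - B).ofConv c * (1 - B).ofConv c' =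
          -(rho j (e.ofConv c * e.ofConv c')) - B.ofConv c * B.ofConv c' := by
        simp only [hval, hBB, Bialgebra.counit_mul, map_mul, Algebra.smul_def]
        ring
      rw [hd]
      refine sub_mem (neg_mem (map_mem_of_linear (rho j) (K * K) ?_)) ?_
      · rw [Ideal.map_mul]; exact Ideal.mul_mem_mul (hφ c) (hφ c')
      · rw [hLA, Ideal.map_mul]; exact Ideal.mul_mem_mul (hBK c) (hBK c')
  have hKK : IsNilpotent LA := by
    obtain ⟨n, hn⟩ := hK
    refine ⟨n, ?_⟩
    rw [hLA, ← Ideal.map_pow, mul_pow, hn, MulZeroClass.zero_mul]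
    exact Ideal.map_bot
  obtain ⟨φ', hφ'⟩ := hmul.exists_lift hKK
  refine ⟨φ', ?_, ?_⟩
  · have : pt φ' - P = (pt φ' - (1 - B) * P) - B * P := by noncomm_ring
    rw [this]
    refine sub_mem (Z_mono ?_ hφ') (mul_mem_Z_right hBK _)
    exact Ideal.map_mono Ideal.mul_le_right
  · -- the new defect
    set P₁ := pu (p₁ R A) P with hP₁
    set P₂ := pu (p₂ R A) P with hP₂
    set Pm := pu (mm R A) P with hPm
    set Q₁ := pu (p₁ R A) Q with hQ₁
    set B₁ := pu (p₁ R A) B with hB₁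
    set B₂ := pu (p₂ R A) B with hB₂
    set Bm := pu (mm R A) B with hBm
    have hQP₁ : Q₁ * P₁ = 1 := by rw [hQ₁, hP₁, ← map_mul, hQ, hP, ptInv_mul, map_one]
    have hDm : P₁ * P₂ = (1 + e) * Pm := by
      rw [he, add_sub_cancel, defect, hPm, _root_.mul_assoc, ← map_mul, ptInv_mul, map_one, _root_.mul_one]
    have hB₁K : B₁ ∈ Z (K.map (algebraMap R (A ⊗[R] A))) := pu_mem_Z _ hBK
    have hB₂K : B₂ ∈ Z (K.map (algebraMap R (A ⊗[R] A))) := pu_mem_Z _ hBK
    have hBmK : Bm ∈ Z (K.map (algebraMap R (A ⊗[R] A))) := pu_mem_Z _ hBK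
    have hmain : (1 - B₁) * P₁ * ((1 - B₂) * P₂) - (1 - Bm) * Pm ∈ Z L2 := by
      have key : (1 - B₁) * P₁ * ((1 - B₂) * P₂) - (1 - Bm) * Pm =
          B₁ * P₁ * B₂ * P₂ + (e + Bm - (P₁ * B₂ * Q₁ + B₁)) * Pm + ((e * Pm - e * Pm) - (B₁ + P₁ * B₂ * Q₁) * (e * Pm)) := by
        have h3 : P₁ * B₂ * P₂ = P₁ * B₂ * Q₁ * ((1 + e) * Pm) := by
          rw [← hDm, ← _root_.mul_assoc, _root_.mul_assoc (P₁ * B₂) Q₁ P₁, hQP₁, _root_.mul_one]
        have h4 : (1 - B₁) * P₁ * ((1 - B₂) * P₂) =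
            P₁ * P₂ - B₁ * (P₁ * P₂) - P₁ * B₂ * P₂ + B₁ * P₁ * B₂ * P₂ := by noncomm_ring
        rw [h4, h3, hDm]
        simp only [_root_.add_mul, sub_mul, _root_.mul_add, _root_.one_mul, _root_.mul_one, _root_.mul_assoc]
        abel
      rw [key]
      refine add_mem (add_mem (mul_mem_Z_right (?_) _) (mul_mem_Z_right hav _)) ?_
      · exact sq (mul_mem_Z_right hB₁K _) hB₂K
      · rw [sub_self, zero_sub]
        exact neg_mem (sq (add_mem hB₁K (mul_mem_Z_right (mul_mem_Z_left hB₂K _) _)) (mul_mem_Z_right hφ _))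
    have hd1 : pu (p₁ R A) (pt φ') - (1 - B₁) * P₁ ∈ Z L2 := by
      have := pu_mem_Z (p₁ R A) hφ'
      rwa [map_sub, map_mul, map_sub, map_one] at this
    have hd2 : pu (p₂ R A) (pt φ') - (1 - B₂) * P₂ ∈ Z L2 := by
      have := pu_mem_Z (p₂ R A) hφ'
      rwa [map_sub, map_mul, map_sub, map_one] at this
    have hdm : pu (mm R A) (pt φ') - (1 - Bm) * Pm ∈ Z L2 := by
      have := pu_mem_Z (mm R A) hφ'
      rwa [map_sub, map_mul, map_sub, map_one] at this
    set X := pu (p₁ R A) (pt φ') with hX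
    set Y := pu (p₂ R A) (pt φ') with hY
    set W := pu (mm R A) (pt φ') with hW
    have hdiff : X * Y - W ∈ Z L2 := by
      have : X * Y - W = (X - (1 - B₁) * P₁) * Y + (1 - B₁) * P₁ * (Y - (1 - B₂) * P₂) +
          ((1 - B₁) * P₁ * ((1 - B₂) * P₂) - (1 - Bm) * Pm) - (W - (1 - Bm) * Pm) := by noncomm_ring
      rw [this]
      exact sub_mem (add_mem (add_mem (mul_mem_Z_right hd1 _) (mul_mem_Z_left hd2 _)) hmain) hdm
    have : defect φ' - 1 = (X * Y - W) * pu (mm R A) (ptInv φ') := by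
      rw [sub_mul, hW, ← map_mul, mul_ptInv, map_one]
      rfl
    rw [this]
    exact mul_mem_Z_right hdiff _

end GrothLib.MultLift
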