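import Groth.Agent.Lib.MultLift.SmoothLift

/-!
Two homomorphisms congruent modulo a nilpotent ideal are conjugate.
-/

universe u

set_option linter.style.haveILetI false

open TensorProduct WithConv

namespace GrothLib.MultLift

variable {R : Type u} [CommRing R] {A : Type u} [CommRing A] [HopfAlgebra R A]
  {C : Type u} [CommRing C] [HopfAlgebra R C]

/-- Points which are homomorphisms. -/
def IsHom (φ : C →ₐ[R] A) : Prop :=
  pu (p₁ R A) (pt φ) * pu (p₂ R A) (pt φ) = pu (mm R A) (pt φ)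

theorem isHom_bialgHom (φ : C →ₐc[R] A) : IsHom (φ : C →ₐ[R] A) :=
  WithConv.ext (LinearMap.ext fun c => by
    rw [pu_p₁_mul_pu_p₂]
    exact CoalgHomClass.map_comp_comul_apply φ c)

theorem IsHom.exists_bialgHom {φ : C →ₐ[R] A} (h : IsHom φ) : ∃ ψ : C →ₐc[R] A, ∀ c, ψ c = φ c :=
  exists_bialgHom_of_defect φ (by rw [defect, h, ← map_mul, mul_ptInv, map_one])

theorem ofConv_pt (φ ψ : C →ₐ[R] A) : pt (toConv φ * toConv ψ).ofConv = pt φ * pt ψ := (pt_mul φ ψ).symm

theorem ptInv_unique {φ : C →ₐ[R] A} {x : WithConv (C →ₗ[R] A)} (h : pt φ * x = 1) : ptInv φ = x := by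
  rw [← _root_.mul_one (ptInv φ), ← h, ← _root_.mul_assoc, ptInv_mul, _root_.one_mul]

theorem IsHom.ptInv {φ : C →ₐ[R] A} (h : IsHom φ) :
    pu (p₂ R A) (MultLift.ptInv φ) * pu (p₁ R A) (MultLift.ptInv φ) = pu (mm R A) (MultLift.ptInv φ) := by
  have h1 : pu (p₂ R A) (MultLift.ptInv φ) * pu (p₁ R A) (MultLift.ptInv φ) * pu (mm R A) (pt φ) = 1 := by
    rw [← h, _root_.mul_assoc, ← _root_.mul_assoc (pu (p₁ R A) (MultLift.ptInv φ)), ← map_mul, ptInv_mul, map_one,
      _root_.one_mul, ← map_mul, ptInv_mul, map_one]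
  have := congrArg (· * pu (mm R A) (MultLift.ptInv φ)) h1
  rwa [_root_.mul_assoc, ← map_mul, mul_ptInv, map_one, _root_.mul_one, _root_.one_mul] at this

theorem isMulMod_average {T S : Type u} [CommRing T] [Algebra R T] [CommRing S] [Algebra R S] (ρ : T →ₗ[R] S)
    (hρ : ρ 1 = 1) (K : Ideal R) (D : C →ₐ[R] T) (hD : pt D - 1 ∈ Z (K.map (algebraMap R T))) :
    IsMulMod ((K * K).map (algebraMap R S)) (1 + lu ρ (pt D - 1)) := by
  set e := pt D - 1 with he
  have he' : ∀ c, e.ofConv c = D c - algebraMap R T (Coalgebra.counit c) := fun c => by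
    rw [he, WithConv.ofConv_sub, LinearMap.sub_apply, pt_apply]
    rfl
  have hval : ∀ c, (1 + lu ρ e).ofConv c = algebraMap R S (Coalgebra.counit c) + ρ (e.ofConv c) := fun c => rfl
  refine ⟨?_, fun c c' => ?_⟩
  · have he1 : e.ofConv 1 = 0 := by rw [he', map_one D, Bialgebra.counit_one, map_one, sub_self]
    rw [hval, he1, map_zero, add_zero, Bialgebra.counit_one, map_one, sub_self]
    exact zero_mem _
  · have hee : e.ofConv (c * c') = Coalgebra.counit (R := R) c • e.ofConv c' +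
        Coalgebra.counit (R := R) c' • e.ofConv c + e.ofConv c * e.ofConv c' := by
      simp only [he', map_mul, Bialgebra.counit_mul, Algebra.smul_def]
      ring
    have hd : (1 + lu ρ e).ofConv (c * c') - (1 + lu ρ e).ofConv c * (1 + lu ρ e).ofConv c' =
        ρ (e.ofConv c * e.ofConv c') - ρ (e.ofConv c) * ρ (e.ofConv c') := by
      rw [hval, hee, map_add, map_add, map_smul, map_smul, hval, hval]
      simp only [Bialgebra.counit_mul, map_mul, Algebra.smul_def]
      ring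
    rw [hd]
    refine sub_mem (map_mem_of_linear ρ (K * K) ?_) ?_
    · rw [Ideal.map_mul]; exact Ideal.mul_mem_mul (hD c) (hD c')
    · rw [Ideal.map_mul]; exact Ideal.mul_mem_mul (map_mem_of_linear ρ K (hD c)) (map_mem_of_linear ρ K (hD c'))

/-- Congruent homomorphisms are conjugate to second order. -/
theorem exists_conj_step [Algebra.FormallySmooth R C] (j : A →ₗ[R] R) (h1 : j 1 = 1)
    (hj : ∀ a, rho j (Coalgebra.comul (R := R) a) = algebraMap R A (j a)) (K : Ideal R) (hK : IsNilpotent K)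
    (v w : C →ₐ[R] A) (hv : IsHom v) (hw : IsHom w) (hvw : pt v - pt w ∈ Z (K.map (algebraMap R A))) :
    ∃ κ : C →ₐ[R] R, pt κ - 1 ∈ Z (K.map (algebraMap R R)) ∧
      pt v - pu (Algebra.ofId R A) (pt κ) * pt w * pu (Algebra.ofId R A) (ptInv κ) ∈
        Z ((K * K).map (algebraMap R A)) := by
  set η := Algebra.ofId R A with hη
  let D : C →ₐ[R] A := (toConv v * toConv (w.comp (HopfAlgebra.antipodeAlgHom R C))).ofConv
  have hD : pt D = pt v * ptInv w := ofConv_pt _ _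
  set e := pt D - 1 with he
  have heK : e ∈ Z (K.map (algebraMap R A)) := by
    rw [he, hD, ← mul_ptInv w, ← sub_mul]
    exact mul_mem_Z_right hvw _
  have sq : ∀ {S : Type u} [CommRing S] [Algebra R S] {x y : WithConv (C →ₗ[R] S)},
      x ∈ Z (K.map (algebraMap R S)) → y ∈ Z (K.map (algebraMap R S)) → x * y ∈ Z ((K * K).map (algebraMap R S)) := by
    intro S _ _ x y hx hy
    rw [Ideal.map_mul]
    exact mul_mem_Z hx hy
  set P := pt v with hP
  set Q := ptInv v with hQ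
  set V₁ := pu (p₁ R A) P with hV
  set V₁' := pu (p₁ R A) Q with hV'
  have hVV : V₁ * V₁' = 1 := by rw [hV, hV', ← map_mul, hP, hQ, mul_ptInv, map_one]
  have hcoc : pu (mm R A) (pt D) = V₁ * pu (p₂ R A) (pt D) * V₁' * pu (p₁ R A) (pt D) := by
    rw [hD, map_mul, ← hv, ← hw.ptInv, map_mul, map_mul, hV, hV']
    simp only [_root_.mul_assoc]
    congr 1
    congr 1
    congr 1
    rw [← _root_.mul_assoc (pu (p₁ R A) Q), ← map_mul, hP, hQ, ptInv_mul, map_one, _root_.one_mul]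
  have hlin : pu (mm R A) e - (V₁ * pu (p₂ R A) e * V₁' + pu (p₁ R A) e) ∈
      Z ((K * K).map (algebraMap R (A ⊗[R] A))) := by
    have hd : pt D = 1 + e := by rw [he, add_sub_cancel]
    rw [hd, map_add, map_add, map_add, map_one, map_one, map_one,
      show V₁ * (1 + pu (p₂ R A) e) * V₁' = 1 + V₁ * pu (p₂ R A) e * V₁' by
        rw [_root_.mul_add, _root_.add_mul, _root_.mul_one, hVV]] at hcoc
    rw [show pu (mm R A) e - (V₁ * pu (p₂ R A) e * V₁' + pu (p₁ R A) e) =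
      V₁ * pu (p₂ R A) e * V₁' * pu (p₁ R A) e by
        rw [← sub_eq_zero, ← sub_eq_zero.mpr hcoc]; noncomm_ring]
    exact sq (mul_mem_Z_right (mul_mem_Z_left (pu_mem_Z _ heK) _) _) (pu_mem_Z _ heK)
  set k := lu j e with hk
  have hkK : k ∈ Z (K.map (algebraMap R R)) := lu_mem_Z j heK
  have hcong : pu η k - (P * pu η k * Q + e) ∈ Z ((K * K).map (algebraMap R A)) := by
    have h := lu_mem_Z (rho j) hlin
    rw [map_sub, map_add] at h
    have e₁ : lu (rho j) (pu (mm R A) e) = pu η k := WithConv.ext (LinearMap.ext fun c => hj _)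
    have e₂ : lu (rho j) (V₁ * pu (p₂ R A) e * V₁') = P * pu η k * Q := by
      rw [hV, hV', lu_mul_pu (rho j) (p₁ R A) rho_semilinear, lu_pu_mul (rho j) (p₁ R A) rho_semilinear,
        show lu (rho j) (pu (p₂ R A) e) = pu η k from WithConv.ext (LinearMap.ext fun c =>
          (rho_tmul j 1 (e.ofConv c)).trans (Algebra.algebraMap_eq_smul_one _).symm)]
    have e₃ : lu (rho j) (pu (p₁ R A) e) = e := WithConv.ext (LinearMap.ext fun c =>
      (rho_tmul j (e.ofConv c) 1).trans (by rw [h1, one_smul]))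
    rwa [e₁, e₂, e₃] at h
  have hnil : IsNilpotent ((K * K).map (algebraMap R R)) := by
    obtain ⟨n, hn⟩ := hK
    exact ⟨n, by rw [← Ideal.map_pow, mul_pow, hn, MulZeroClass.zero_mul]; exact Ideal.map_bot⟩
  obtain ⟨κ, hκ⟩ := (isMulMod_average j h1 K D heK).exists_lift hnil
  have hκ1 : pt κ - 1 ∈ Z (K.map (algebraMap R R)) := by
    rw [show pt κ - 1 = (pt κ - (1 + lu j (pt D - 1))) + k by rw [hk, he]; abel]
    exact add_mem (Z_mono (Ideal.map_mono Ideal.mul_le_right) hκ) hkK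
  have hκi : ptInv κ - (1 - k) ∈ Z ((K * K).map (algebraMap R R)) := by
    rw [show ptInv κ - (1 - k) = ptInv κ * (k * k) - ptInv κ * (pt κ - (1 + lu j (pt D - 1))) * (1 - k) by
      rw [← hk, mul_sub (ptInv κ) (pt κ), ptInv_mul]; noncomm_ring]
    exact sub_mem (mul_mem_Z_left (sq hkK hkK) _) (mul_mem_Z_right (mul_mem_Z_left hκ _) _)
  refine ⟨κ, hκ1, ?_⟩
  set η₁ := pu η (pt κ) with hη₁
  set η₂ := pu η (ptInv κ) with hη₂
  set ek := pu η k with hek
  have hekK : ek ∈ Z (K.map (algebraMap R A)) := pu_mem_Z _ hkK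
  have d1 : η₁ - (1 + ek) ∈ Z ((K * K).map (algebraMap R A)) := by
    have := pu_mem_Z η hκ
    rwa [map_sub, map_add, map_one, ← he, ← hk] at this
  have d2 : η₂ - (1 - ek) ∈ Z ((K * K).map (algebraMap R A)) := by
    have := pu_mem_Z η hκi
    rwa [map_sub, map_sub, map_one] at this
  set W := pt w with hW
  have hv' : P = W + e * W := by
    rw [he, sub_mul, _root_.one_mul, hD, _root_.mul_assoc, hW, ptInv_mul, _root_.mul_one, hP, add_sub_cancel]
  have hQK : Q * W - 1 ∈ Z (K.map (algebraMap R A)) := by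
    rw [show Q * W - 1 = -(Q * (P - W)) by rw [mul_sub, hQ, hP, ptInv_mul]; abel]
    exact neg_mem (mul_mem_Z_left hvw _)
  have key : P - η₁ * W * η₂ = -((η₁ - (1 + ek)) * W * η₂ + (1 + ek) * W * (η₂ - (1 - ek))) +
      ek * W * ek - (ek - (P * ek * Q + e)) * W - (P * ek * (Q * W - 1) + (P - W) * ek) := by
    have h0 : e * W = P - W := by rw [hv']; abel
    have h2 : (ek - (P * ek * Q + e)) * W = ek * W - P * ek * (Q * W) - (P - W) := by
      rw [← h0]; noncomm_ring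
    rw [h2]
    noncomm_ring
  rw [key]
  refine sub_mem (sub_mem (add_mem (neg_mem (add_mem (mul_mem_Z_right (mul_mem_Z_right d1 _) _)
    (mul_mem_Z_left d2 _))) ?_) (mul_mem_Z_right hcong _)) (add_mem ?_ (sq hvw hekK))
  · exact sq (mul_mem_Z_right hekK _) hekK
  · exact sq (mul_mem_Z_left hekK _) hQK

/-- Conjugating a homomorphism by a point. -/
theorem exists_conj (κ : C →ₐ[R] R) {φ : C →ₐ[R] A} (hφ : IsHom φ) :
    ∃ ψ : C →ₐ[R] A, IsHom ψ ∧ pt ψ = pu (Algebra.ofId R A) (pt κ) * pt φ * pu (Algebra.ofId R A) (ptInv κ) := by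
  set η := Algebra.ofId R A with hη
  refine ⟨(toConv ((toConv (η.comp κ) * toConv φ).ofConv) *
    toConv (η.comp (κ.comp (HopfAlgebra.antipodeAlgHom R C)))).ofConv, ?_, ?_⟩
  · have hval : pt (toConv ((toConv (η.comp κ) * toConv φ).ofConv) *
        toConv (η.comp (κ.comp (HopfAlgebra.antipodeAlgHom R C)))).ofConv =
          pu η (pt κ) * pt φ * pu η (ptInv κ) := by
      rw [← pt_mul, ← pt_mul]; rfl
    unfold IsHom
    rw [hval]
    have hpe : ∀ (i : A →ₐ[R] A ⊗[R] A) (x : WithConv (C →ₗ[R] R)), pu i (pu η x) = pu (Algebra.ofId R _) x :=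
      fun i x => by rw [pu_pu, show i.comp η = Algebra.ofId R _ from Subsingleton.elim _ _]
    simp only [map_mul, hpe, _root_.mul_assoc]
    congr 1
    rw [← _root_.mul_assoc (pu (Algebra.ofId R (A ⊗[R] A)) (ptInv κ)), ← map_mul, ptInv_mul, map_one,
      _root_.one_mul, ← _root_.mul_assoc, hφ]
  · rw [← pt_mul, ← pt_mul]; rfl

/-- Relative lifting. -/
theorem exists_lift_rel {A₂ : Type u} [CommRing A₂] [HopfAlgebra R A₂] [Algebra.FormallySmooth R C]
    (j : A →ₗ[R] R) (h1 : j 1 = 1)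
    (hj : ∀ a, rho j (Coalgebra.comul (R := R) a) = algebraMap R A (j a)) {I : Ideal R} (hI : IsNilpotent I)
    (α : A₂ →ₐc[R] A) (β : C →ₐc[R] A) (γ : C →ₐc[R] A₂)
    (h : ∀ c, α (γ c) - β c ∈ I.map (algebraMap R A)) :
    ∃ γ' : C →ₐc[R] A₂, (∀ c, γ' c - γ c ∈ I.map (algebraMap R A₂)) ∧ ∀ c, α (γ' c) = β c := by
  let a : A₂ →ₐ[R] A := α
  have hαhom : ∀ φ : C →ₐ[R] A₂, IsHom φ → IsHom (a.comp φ) := fun φ hφ => by
    obtain ⟨ψ, hψ⟩ := hφ.exists_bialgHom
    have : a.comp φ = ((α.comp ψ : C →ₐc[R] A) : C →ₐ[R] A) := AlgHom.ext fun c => congrArg α (hψ c).symm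
    rw [this]
    exact isHom_bialgHom _
  have key : ∀ k : ℕ, ∃ φ : C →ₐ[R] A₂, IsHom φ ∧ pt φ - pt (γ : C →ₐ[R] A₂) ∈ Z (I.map (algebraMap R A₂)) ∧
      pt (β : C →ₐ[R] A) - pu a (pt φ) ∈ Z ((I ^ 2 ^ k).map (algebraMap R A)) := by
    intro k
    induction k with
    | zero =>
      refine ⟨γ, isHom_bialgHom γ, by rw [sub_self]; exact zero_mem _, fun c => ?_⟩
      rw [WithConv.ofConv_sub, LinearMap.sub_apply, pow_zero, pow_one, ← Ideal.neg_mem_iff, neg_sub]
      exact h c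
    | succ k ih =>
      obtain ⟨φ, hφ, hφI, hd⟩ := ih
      obtain ⟨κ, hκ, hd'⟩ := exists_conj_step j h1 hj (I ^ 2 ^ k) (IsNilpotent.pow_of_pos hI (by positivity))
        (β : C →ₐ[R] A) (a.comp φ) (isHom_bialgHom β) (hαhom φ hφ) (by rwa [← pu_pt])
      obtain ⟨ψ, hψ, hψv⟩ := exists_conj κ hφ
      refine ⟨ψ, hψ, ?_, ?_⟩
      · have hκI : pu (Algebra.ofId R A₂) (pt κ) - 1 ∈ Z (I.map (algebraMap R A₂)) := by
          have := Z_mono (Ideal.map_mono (Ideal.pow_le_self (by positivity))) (pu_mem_Z (Algebra.ofId R A₂) hκ)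
          rwa [map_sub, map_one] at this
        have hκI' : pu (Algebra.ofId R A₂) (ptInv κ) - 1 ∈ Z (I.map (algebraMap R A₂)) := by
          rw [show pu (Algebra.ofId R A₂) (ptInv κ) - 1 =
            -(pu (Algebra.ofId R A₂) (ptInv κ) * (pu (Algebra.ofId R A₂) (pt κ) - 1)) by
              rw [mul_sub, ← map_mul, ptInv_mul, map_one, _root_.mul_one, neg_sub]]
          exact neg_mem (mul_mem_Z_left hκI _)
        rw [hψv, show pu (Algebra.ofId R A₂) (pt κ) * pt φ * pu (Algebra.ofId R A₂) (ptInv κ) - pt (γ : C →ₐ[R] A₂) =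
          (pu (Algebra.ofId R A₂) (pt κ) - 1) * pt φ * pu (Algebra.ofId R A₂) (ptInv κ) +
            pt φ * (pu (Algebra.ofId R A₂) (ptInv κ) - 1) + (pt φ - pt (γ : C →ₐ[R] A₂)) by noncomm_ring]
        exact add_mem (add_mem (mul_mem_Z_right (mul_mem_Z_right hκI _) _) (mul_mem_Z_left hκI' _)) hφI
      · rw [← pow_add, ← two_mul, ← pow_succ'] at hd'
        rwa [hψv, map_mul, map_mul, pu_pu, pu_pu, show a.comp (Algebra.ofId R A₂) = Algebra.ofId R A from
          Subsingleton.elim _ _, pu_pt a φ]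
  obtain ⟨n, hn⟩ := hI
  obtain ⟨φ, hφ, hφI, hd⟩ := key n
  obtain ⟨γ', hγ'⟩ := hφ.exists_bialgHom
  refine ⟨γ', fun c => by rw [hγ']; exact hφI c, fun c => ?_⟩
  have hbot : I ^ 2 ^ n = 0 := pow_eq_zero_of_le (Nat.le_of_lt Nat.lt_two_pow_self) hn
  rw [hbot, show Ideal.map (algebraMap R A) (0 : Ideal R) = ⊥ from Ideal.map_bot] at hd
  rw [hγ']
  exact (sub_eq_zero.mp (Ideal.mem_bot.mp (hd c) :)).symm

end GrothLib.MultLift
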