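import Groth.Agent.Lib.MultLocal.Nil
import Groth.Agent.Lib.MultLocal.LiftLevel
import Groth.Agent.Lib.MultLocal.DescHom
import Groth.Agent.Lib.Hensel.Pair
import Groth.Agent.Lib.Hensel.Local
import Groth.Agent.S2974

/-!
Group-like elements modulo ideals in the Jacobson radical, and homomorphisms between groups of multiplicative
type over henselian local rings.
-/

universe u

set_option linter.style.haveILetI false
set_option maxSynthPendingDepth 3

open TensorProduct MonoidAlgebra

namespace GrothLib.MultLift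

open GrothLib.MultLocal

section Raw

variable {T T₀ : Type u} [CommRing T] [CommRing T₀] {M : Type u} [CommGroup M]

theorem idem_eq_of_map_eq (π : T →+* T₀) (hj : RingHom.ker π ≤ (⊥ : Ideal T).jacobson) {e e' : T}
    (he : IsIdempotentElem e) (he' : IsIdempotentElem e') (h : π e = π e') : e = e' := by
  have hd : e - e' ∈ (⊥ : Ideal T).jacobson := hj (by rw [RingHom.mem_ker, map_sub, h, sub_self])
  obtain ⟨v, hv⟩ := Ideal.isUnit_of_sub_one_mem_jacobson_bot (1 - (e - e') * (e - e')) (by
    rw [sub_sub_cancel_left]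
    exact neg_mem (Ideal.mul_mem_left _ _ hd))
  have hz : (e - e') * (1 - (e - e') * (e - e')) = 0 := by
    have h1 := he.eq
    have h2 := he'.eq
    linear_combination (-1 - e + 3 * e') * h1 + (1 - 3 * e + e') * h2
  rw [← hv] at hz
  exact sub_eq_zero.mp (v.mul_left_eq_zero.mp hz)

theorem eq_of_mapRingHom_eq (π : T →+* T₀) (hj : RingHom.ker π ≤ (⊥ : Ideal T).jacobson) {x y : MonoidAlgebra T M}
    (hx : IsGroupLikeElem T x) (hy : IsGroupLikeElem T y) (h : mapRingHom M π x = mapRingHom M π y) : x = y := by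
  refine MonoidAlgebra.ext (Finsupp.ext fun m => ?_)
  refine idem_eq_of_map_eq π hj (isIdempotentElem_coeff hx m) (isIdempotentElem_coeff hy m) ?_
  simpa using congrArg (fun z => z.coeff m) h

theorem exists_groupLike_lift (π : T →+* T₀) (hj : RingHom.ker π ≤ (⊥ : Ideal T).jacobson)
    (hlift : ∀ b : T₀, IsIdempotentElem b → ∃ e, IsIdempotentElem e ∧ π e = b)
    {y : MonoidAlgebra T₀ M} (hy : IsGroupLikeElem T₀ y) :
    ∃ x : MonoidAlgebra T M, IsGroupLikeElem T x ∧ mapRingHom M π x = y := by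
  classical
  have hy' := (isGroupLikeElem_groupAlg_iff y).mp hy
  have huniq : ∀ {e e' : T}, IsIdempotentElem e → IsIdempotentElem e' → π e = π e' → e = e' :=
    fun he he' h => idem_eq_of_map_eq π hj he he' h
  choose e he hπe using fun g : M => hlift _ (isIdempotentElem_coeff hy g)
  have hsupp : ∀ g, e g ≠ 0 → g ∈ y.coeff.support := fun g hg => Finsupp.mem_support_iff.mpr fun h0 =>
    hg (huniq (he g) IsIdempotentElem.zero (by rw [hπe, h0, map_zero]))
  have horth : ∀ a b, e a * e b = if a = b then e a else 0 := fun a b => by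
    split_ifs with h
    · subst h; exact (he a).eq
    · refine huniq ((he a).mul (he b)) IsIdempotentElem.zero ?_
      rw [map_mul, hπe, hπe, hy'.1, if_neg h, map_zero]
  refine ⟨MonoidAlgebra.ofCoeff (Finsupp.onFinset y.coeff.support e hsupp),
    (isGroupLikeElem_groupAlg_iff _).mpr ⟨?_, ?_⟩, ?_⟩
  · intro a b
    simpa using horth a b
  · rw [Finsupp.sum_of_support_subset _ (s := y.coeff.support) (by intro g; simpa using hsupp g) _ (fun _ _ => rfl)]
    simp only [Finsupp.onFinset_apply]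
    refine huniq ?_ IsIdempotentElem.one ?_
    · rw [IsIdempotentElem, Finset.sum_mul_sum]
      refine Finset.sum_congr rfl fun a ha => ?_
      rw [Finset.sum_eq_single a (fun b _ hb => by rw [horth, if_neg (Ne.symm hb)]) (fun h => absurd ha h), (he a).eq]
    · rw [map_sum, map_one, ← hy'.2, Finsupp.sum]
      exact Finset.sum_congr rfl fun g _ => hπe g
  · apply MonoidAlgebra.coeff_injective
    refine Finsupp.ext fun g => ?_
    simp [hπe]

end Raw

section Frames

variable {R : Type u} [CommRing R] {B C : Type u} [CommRing B] [HopfAlgebra R B] [CommRing C] [HopfAlgebra R C]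
  {T T₀ : Type u} [CommRing T] [CommRing T₀] [Algebra R T] [Algebra R T₀] {M N : Type u} [CommGroup M] [CommGroup N]

theorem ext_of_jacobson (π : T →ₐ[R] T₀) (hj : RingHom.ker (π : T →+* T₀) ≤ (⊥ : Ideal T).jacobson)
    {g : M →* GroupLike T (T ⊗[R] B)} (hg : IsFrame g) {x y : GroupLike T (T ⊗[R] B)}
    (h : glMap B π x = glMap B π y) : x = y := by
  obtain ⟨a, ha⟩ := hg.2 x.val
  obtain ⟨b, hb⟩ := hg.2 y.val
  have hga : IsGroupLikeElem T a := (isGroupLikeElem_map_equiv hg.equiv).mp (by
    rw [hg.equiv_apply, ha]; exact x.isGroupLikeElem_val)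
  have hgb : IsGroupLikeElem T b := (isGroupLikeElem_map_equiv hg.equiv).mp (by
    rw [hg.equiv_apply, hb]; exact y.isGroupLikeElem_val)
  have hab : a = b := eq_of_mapRingHom_eq _ hj hga hgb ((hg.map π).1 (by
    rw [glHom_glMap, glHom_glMap, ha, hb, ← glMap_val, ← glMap_val, h]))
  exact GroupLike.ext (by rw [← ha, ← hb, hab])

theorem exists_lift_jacobson (π : T →ₐ[R] T₀) (hj : RingHom.ker (π : T →+* T₀) ≤ (⊥ : Ideal T).jacobson)
    (hlift : ∀ b : T₀, IsIdempotentElem b → ∃ e, IsIdempotentElem e ∧ π e = b)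
    {g : M →* GroupLike T (T ⊗[R] B)} (hg : IsFrame g)
    (y : GroupLike T₀ (T₀ ⊗[R] B)) : ∃ x, glMap B π x = y := by
  obtain ⟨b, hb⟩ := (hg.map π).2 y.val
  have hgb : IsGroupLikeElem T₀ b := (isGroupLikeElem_map_equiv (hg.map π).equiv).mp (by
    rw [(hg.map π).equiv_apply, hb]; exact y.isGroupLikeElem_val)
  obtain ⟨a, ha, hab⟩ := exists_groupLike_lift (π : T →+* T₀) hj hlift hgb
  refine ⟨⟨glHom g a, ha.map (glHom g)⟩, GroupLike.ext ?_⟩
  rw [glMap_val, ← glHom_glMap, hab, hb]

/-- Homomorphisms of split groups are determined on the closed part. -/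
theorem hom_ext_jacobson (π : T →ₐ[R] T₀) (hj : RingHom.ker (π : T →+* T₀) ≤ (⊥ : Ideal T).jacobson)
    {gB : M →* GroupLike T (T ⊗[R] B)} (hgB : IsFrame gB) {gC : N →* GroupLike T (T ⊗[R] C)} (hgC : IsFrame gC)
    (u v : T ⊗[R] C →ₐc[T] T ⊗[R] B)
    (h : ∀ c, coefMap B π (u ((1 : T) ⊗ₜ[R] c)) = coefMap B π (v ((1 : T) ⊗ₜ[R] c))) : u = v := by
  have hall : ∀ y, coefMap B π (u y) = coefMap B π (v y) := fun y => by
    induction y using TensorProduct.induction_on with
    | zero => simp
    | add a b ha hb => simp only [map_add, ha, hb]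
    | tmul t c =>
      rw [show t ⊗ₜ[R] c = t • ((1 : T) ⊗ₜ[R] c) by rw [smul_tmul', smul_eq_mul, _root_.mul_one], map_smul u, map_smul v,
        coefMap_smul, coefMap_smul, h]
  refine BialgHom.ext fun y => ?_
  obtain ⟨z, rfl⟩ := hgC.2 y
  induction z using MonoidAlgebra.induction_linear with
  | zero => simp
  | add a b ha hb => simp only [map_add, ha, hb]
  | single n r =>
    rw [glHom_single, map_smul, map_smul]
    refine congrArg (r • ·) ?_
    exact congrArg GroupLike.val (ext_of_jacobson π hj hgB (x := glPush u (gC n)) (y := glPush v (gC n))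
      (GroupLike.ext (hall _)))

end Frames

section Henselian

variable {A : Type u} [CommRing A] [HenselianLocalRing A]
  {B : Type u} [CommRing B] [HopfAlgebra A B] {C : Type u} [CommRing C] [HopfAlgebra A C]

theorem ker_quot_le_jacobson (E : Type u) [CommRing E] [Algebra A E] [Module.Finite A E] :
    RingHom.ker (Ideal.Quotient.mkₐ A ((IsLocalRing.maximalIdeal A).map (algebraMap A E)) :
      E →+* E ⧸ (IsLocalRing.maximalIdeal A).map (algebraMap A E)) ≤ (⊥ : Ideal E).jacobson := by
  intro x hx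
  have hx' : x ∈ (IsLocalRing.maximalIdeal A).map (algebraMap A E) := Ideal.Quotient.eq_zero_iff_mem.mp (RingHom.mem_ker.mp hx)
  rw [Ideal.jacobson, Submodule.mem_sInf]
  rintro (m : Ideal E) ⟨-, hm⟩
  haveI := hm
  haveI : Algebra.IsIntegral A E := Algebra.IsIntegral.of_finite A E
  have hc : (m.comap (algebraMap A E)).IsMaximal := Ideal.isMaximal_comap_of_isIntegral_of_isMaximal m
  exact Ideal.map_le_iff_le_comap.mpr (IsLocalRing.eq_maximalIdeal hc).ge hx'

/-- The residue map to the closed part of a finite algebra. -/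
noncomputable def residueTo (E : Type u) [CommRing E] [Algebra A E] :
    IsLocalRing.ResidueField A →ₐ[A] E ⧸ (IsLocalRing.maximalIdeal A).map (algebraMap A E) :=
  Ideal.Quotient.liftₐ (IsLocalRing.maximalIdeal A) (Algebra.ofId A _) fun a ha => by
    change algebraMap A (E ⧸ (IsLocalRing.maximalIdeal A).map (algebraMap A E)) a = 0
    rw [IsScalarTower.algebraMap_apply A E, Ideal.Quotient.algebraMap_eq, Ideal.Quotient.eq_zero_iff_mem]
    exact Ideal.mem_map_of_mem _ ha

theorem algHom_residue_ext {X : Type u} [CommRing X] [Algebra A X] (f f' : IsLocalRing.ResidueField A →ₐ[A] X) :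
    f = f' := AlgHom.ext fun x => by
  obtain ⟨z, rfl⟩ := Ideal.Quotient.mk_surjective x
  exact (f.commutes z).trans (f'.commutes z).symm

/-- Reduction to the closed fibre is bijective on homomorphisms between groups of multiplicative type. -/
theorem reduction_bijective [Algebra.FiniteType A B] [Algebra.FiniteType A C] (hG : SGA3b.IsMultType A B)
    (hH : SGA3b.IsMultType A C) :
    (∀ φ ψ : C →ₐc[A] B, (∀ c : C, (1 : IsLocalRing.ResidueField A) ⊗ₜ[A] (φ c) =
        (1 : IsLocalRing.ResidueField A) ⊗ₜ[A] (ψ c)) → φ = ψ) ∧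
    (∀ φ₀ : (IsLocalRing.ResidueField A ⊗[A] C) →ₐc[IsLocalRing.ResidueField A] (IsLocalRing.ResidueField A ⊗[A] B),
      ∃ φ : C →ₐc[A] B, ∀ c : C, φ₀ ((1 : IsLocalRing.ResidueField A) ⊗ₜ[A] c) =
        (1 : IsLocalRing.ResidueField A) ⊗ₜ[A] (φ c)) := by
  obtain ⟨E₁, _, _, -, hE₁f, hE₁, M, _, ⟨d₁⟩⟩ := Groth.Agent.S2974.result A B inferInstance hG
  obtain ⟨E₂, _, _, -, hE₂f, hE₂, N, _, ⟨d₂⟩⟩ := Groth.Agent.S2974.result A C inferInstance hH
  haveI := hE₁f
  haveI := hE₁
  haveI := hE₂f
  haveI := hE₂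
  let E := E₁ ⊗[A] E₂
  haveI : Module.FaithfullyFlat A E := Module.FaithfullyFlat.trans A E₁ E
  obtain ⟨g₁, hg₁⟩ := exists_frame_of_equiv d₁
  obtain ⟨g₂, hg₂⟩ := exists_frame_of_equiv d₂
  have hB := hg₁.map (Algebra.TensorProduct.includeLeft : E₁ →ₐ[A] E)
  have hC := hg₂.map (Algebra.TensorProduct.includeRight : E₂ →ₐ[A] E)
  let m := IsLocalRing.maximalIdeal A
  let π : E →ₐ[A] E ⧸ m.map (algebraMap A E) := Ideal.Quotient.mkₐ A _
  have hπj := ker_quot_le_jacobson (A := A) E
  have hkE : ∀ (x : B) (y : B), (1 : IsLocalRing.ResidueField A) ⊗ₜ[A] x = (1 : IsLocalRing.ResidueField A) ⊗ₜ[A] y →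
      coefMap B π ((1 : E) ⊗ₜ[A] x) = coefMap B π ((1 : E) ⊗ₜ[A] y) := fun x y h => by
    have := congrArg (coefMap B (residueTo E)) h
    rwa [coefMap_tmul, coefMap_tmul, map_one, ← map_one π, ← coefMap_tmul π, ← coefMap_tmul π] at this
  refine ⟨fun φ ψ h => ?_, fun φ₀ => ?_⟩
  · have huv := hom_ext_jacobson π hπj hB hC (Bialgebra.TensorProduct.map (BialgHom.id E E) φ)
      (Bialgebra.TensorProduct.map (BialgHom.id E E) ψ) fun c => hkE _ _ (h c)
    refine BialgHom.ext fun c => Module.FaithfullyFlat.tensorProduct_mk_injective (A := A) (B := E) B ?_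
    exact DFunLike.congr_fun huv ((1 : E) ⊗ₜ[A] c)
  · haveI : HenselianRing A m := inferInstanceAs (HenselianRing A (IsLocalRing.maximalIdeal A))
    have hlift : ∀ b : E ⧸ m.map (algebraMap A E), IsIdempotentElem b → ∃ e, IsIdempotentElem e ∧ π e = b := by
      intro b hb
      obtain ⟨b, rfl⟩ := Ideal.Quotient.mk_surjective b
      haveI : Algebra.IsIntegral A E := Algebra.IsIntegral.of_finite A E
      obtain ⟨e, he, heb⟩ := GrothLib.Hensel.exists_isIdempotentElem_lift (A := A) (I := m) (B := E) (b := b)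
        (Ideal.Quotient.eq.mp (by rw [map_mul]; exact hb.eq))
      exact ⟨e, he, Ideal.Quotient.eq.mpr heb⟩
    obtain ⟨ψ₀, hψ₀⟩ := exists_bc_hom (residueTo E) φ₀
    have hψc : ∀ c, ψ₀ ((1 : E ⧸ m.map (algebraMap A E)) ⊗ₜ[A] c) =
        coefMap B (residueTo E) (φ₀ ((1 : IsLocalRing.ResidueField A) ⊗ₜ[A] c)) := fun c => by
      rw [← hψ₀, coefMap_tmul, map_one]
    let gC := (glMap C (Algebra.TensorProduct.includeRight : E₂ →ₐ[A] E)).comp g₂
    choose x hx using fun n => exists_lift_jacobson π hπj hlift hB (glPush ψ₀ (glMap C π (gC n)))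
    let h : N →* GroupLike E (E ⊗[A] B) :=
      { toFun := x
        map_one' := ext_of_jacobson π hπj hB (by rw [hx, map_one, map_one, map_one, map_one])
        map_mul' := fun a b => ext_of_jacobson π hπj hB (by
          rw [hx, map_mul, map_mul, map_mul, map_mul, hx, hx]) }
    let F : E ⊗[A] C →ₐc[E] E ⊗[A] B := (glHom h).comp (hC.equiv.symm : E ⊗[A] C →ₐc[E] MonoidAlgebra E N)
    have hF : ∀ y, coefMap B π (F y) = ψ₀ (coefMap C π y) := fun y => by
      obtain ⟨z, rfl⟩ := hC.2 y
      change coefMap B π (glHom h (hC.equiv.symm (glHom gC z))) = _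
      rw [← hC.equiv_apply z, BialgEquiv.symm_apply_apply, hC.equiv_apply]
      induction z using MonoidAlgebra.induction_linear with
      | zero => simp
      | add a b ha hb => simp only [map_add, ha, hb]
      | single n r =>
        rw [glHom_single, glHom_single, coefMap_smul, coefMap_smul, map_smul]
        exact congrArg (π r • ·) (congrArg GroupLike.val (hx n))
    obtain ⟨φ, hφ⟩ := exists_bialgHom_descend F fun c => by
      let W := E ⊗[A] E
      let i₁ : E →ₐ[A] W := Algebra.TensorProduct.includeLeft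
      let i₂ : E →ₐ[A] W := Algebra.TensorProduct.includeRight
      haveI : Module.Finite A W := Module.Finite.trans E W
      let πW : W →ₐ[A] W ⧸ m.map (algebraMap A W) := Ideal.Quotient.mkₐ A _
      obtain ⟨G₁, hG₁⟩ := exists_bc_hom i₁ F
      obtain ⟨G₂, hG₂⟩ := exists_bc_hom i₂ F
      have key : ∀ (i : E →ₐ[A] W) (c : C), coefMap B πW (coefMap B i (F ((1 : E) ⊗ₜ[A] c))) =
          coefMap B (residueTo W) (φ₀ ((1 : IsLocalRing.ResidueField A) ⊗ₜ[A] c)) := fun i c => by
        let j : (E ⧸ m.map (algebraMap A E)) →ₐ[A] W ⧸ m.map (algebraMap A W) :=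
          Ideal.Quotient.liftₐ _ (πW.comp i) fun a ha => by
            have h2 := Ideal.mem_map_of_mem (i : E →+* W) ha
            rw [Ideal.map_map, AlgHom.comp_algebraMap] at h2
            exact Ideal.Quotient.eq_zero_iff_mem.mpr h2
        rw [coefMap_comp, show πW.comp i = j.comp π from rfl, ← coefMap_comp, hF, coefMap_tmul, map_one, hψc,
          coefMap_comp, algHom_residue_ext (j.comp (residueTo E)) (residueTo W)]
      have hG := hom_ext_jacobson πW (ker_quot_le_jacobson (A := A) W) (hB.map i₁) (hC.map i₁) G₁ G₂ fun c' => by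
        rw [show (1 : W) ⊗ₜ[A] c' = coefMap C i₁ ((1 : E) ⊗ₜ[A] c') by rw [coefMap_tmul, map_one], hG₁,
          show coefMap C i₁ ((1 : E) ⊗ₜ[A] c') = coefMap C i₂ ((1 : E) ⊗ₜ[A] c') by
            rw [coefMap_tmul, coefMap_tmul, map_one, map_one], hG₂, key, key]
      have e1 := hG₁ ((1 : E) ⊗ₜ[A] c)
      have e2 := hG₂ ((1 : E) ⊗ₜ[A] c)
      rw [coefMap_tmul, map_one] at e1 e2
      rw [← e1, ← e2, hG]
    refine ⟨φ, fun c => ?_⟩
    have h := hF ((1 : E) ⊗ₜ[A] c)
    rw [← hφ, coefMap_tmul, coefMap_tmul, map_one, hψc] at h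
    have hinj : Function.Injective (coefMap B (residueTo (A := A) E)) :=
      coefMap_quot_injective (IsLocalRing.maximalIdeal A) B (residueTo E)
    refine hinj ?_
    rw [coefMap_tmul, map_one]
    exact h.symm

end Henselian

end GrothLib.MultLift
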