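import Groth.Agent.Lib.MultLift.Obstr
import Groth.Agent.Lib.MultLift.Integral
import Groth.Agent.Lib.Hopf.Rigidity

/-!
Homomorphisms from groups of multiplicative type into smooth affine groups lift along nilpotent thickenings.
-/

universe u

set_option linter.style.haveILetI false

open TensorProduct WithConv

namespace GrothLib.MultLift

variable {R : Type u} [CommRing R] {A : Type u} [CommRing A] [HopfAlgebra R A]
  {C : Type u} [CommRing C] [HopfAlgebra R C]

theorem pu_p₁_mul_pu_p₂ (φ : C →ₐ[R] A) (c : C) :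
    (pu (p₁ R A) (pt φ) * pu (p₂ R A) (pt φ)).ofConv c =
      Algebra.TensorProduct.map φ φ (Coalgebra.comul (R := R) c) := by
  rw [LinearMap.convMul_apply]
  induction Coalgebra.comul (R := R) c using TensorProduct.induction_on with
  | zero => simp
  | add x y hx hy => simp only [map_add, hx, hy]
  | tmul x y => simp [p₁, p₂, Algebra.TensorProduct.tmul_mul_tmul]

/-- A point without defect is a homomorphism. -/
theorem exists_bialgHom_of_defect (φ : C →ₐ[R] A) (h : defect φ = 1) :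
    ∃ ψ : C →ₐc[R] A, ∀ c, ψ c = φ c := by
  have hP : pu (p₁ R A) (pt φ) * pu (p₂ R A) (pt φ) = pu (mm R A) (pt φ) := by
    have := congrArg (· * pu (mm R A) (pt φ)) h
    simp only [defect, _root_.one_mul] at this
    rwa [_root_.mul_assoc, ← map_mul, ptInv_mul, map_one, _root_.mul_one] at this
  have hcomul : ∀ c, Algebra.TensorProduct.map φ φ (Coalgebra.comul (R := R) c) = Coalgebra.comul (R := R) (φ c) :=
    fun c => by rw [← pu_p₁_mul_pu_p₂, hP]; rfl
  refine ⟨BialgHom.ofAlgHom φ ?_ (AlgHom.ext hcomul), fun c => rfl⟩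
  let ε := Bialgebra.counitAlgHom R A
  let εε : A ⊗[R] A →ₐ[R] R := Algebra.TensorProduct.lift ε ε fun _ _ => Commute.all _ _
  have h1 := congrArg (pu εε) hP
  rw [map_mul, pu_pu, pu_pu, pu_pu, show εε.comp (p₁ R A) = ε from AlgHom.ext fun a => by simp [εε, p₁],
    show εε.comp (p₂ R A) = ε from AlgHom.ext fun a => by simp [εε, p₂],
    show εε.comp (mm R A) = ε from AlgHom.ext fun a => by
      change εε (Coalgebra.comul (R := R) a) = ε a
      have key : ∀ z : A ⊗[R] A, εε z = TensorProduct.lid R R ((Coalgebra.counit (R := R) (A := A)).lTensor R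
          ((Coalgebra.counit (R := R) (A := A)).rTensor A z)) := fun z => by
        induction z using TensorProduct.induction_on with
        | zero => simp
        | add x y hx hy => simp only [map_add, hx, hy]
        | tmul x y => simp [εε, ε]
      rw [key, Coalgebra.rTensor_counit_comul]
      simp [ε]] at h1
  have h2 : pu ε (pt φ) = 1 := by
    have := congrArg (pu ε (ptInv φ) * ·) h1
    rwa [← _root_.mul_assoc, ← map_mul, ptInv_mul, map_one, _root_.one_mul] at this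
  exact pt_injective (h2.trans pt_one.symm)

/-- Successive lifting. -/
theorem exists_defect_zero [Algebra.FormallySmooth R C] (j : A →ₗ[R] R) (h1 : j 1 = 1)
    (hj : ∀ a, rho j (Coalgebra.comul (R := R) a) = algebraMap R A (j a)) {I : Ideal R} (hI : IsNilpotent I)
    (φ : C →ₐ[R] A) (hφ : defect φ - 1 ∈ Z (I.map (algebraMap R (A ⊗[R] A)))) :
    ∃ φ' : C →ₐ[R] A, pt φ' - pt φ ∈ Z (I.map (algebraMap R A)) ∧ defect φ' = 1 := by
  have key : ∀ k : ℕ, ∃ φ' : C →ₐ[R] A, pt φ' - pt φ ∈ Z (I.map (algebraMap R A)) ∧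
      defect φ' - 1 ∈ Z ((I ^ 2 ^ k).map (algebraMap R (A ⊗[R] A))) := by
    intro k
    induction k with
    | zero => exact ⟨φ, by rw [sub_self]; exact zero_mem _, by simpa using hφ⟩
    | succ k ih =>
      obtain ⟨φ₁, hφ₁, hd⟩ := ih
      obtain ⟨φ₂, h2, hd2⟩ := exists_step j h1 hj (I ^ 2 ^ k) (IsNilpotent.pow_of_pos hI (by positivity)) φ₁ hd
      refine ⟨φ₂, ?_, ?_⟩
      · rw [← sub_add_sub_cancel (pt φ₂) (pt φ₁) (pt φ)]
        exact add_mem (Z_mono (Ideal.map_mono (Ideal.pow_le_self (by positivity))) h2) hφ₁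
      · rwa [← pow_add, ← two_mul, ← pow_succ'] at hd2
  obtain ⟨n, hn⟩ := hI
  obtain ⟨φ', hφ', hd⟩ := key n
  refine ⟨φ', hφ', ?_⟩
  have hbot : I ^ 2 ^ n = 0 := pow_eq_zero_of_le (Nat.le_of_lt Nat.lt_two_pow_self) hn
  rw [hbot, show Ideal.map (algebraMap R (A ⊗[R] A)) (0 : Ideal R) = ⊥ from Ideal.map_bot] at hd
  exact sub_eq_zero.mp (WithConv.ext (LinearMap.ext fun c => (Ideal.mem_bot.mp (hd c) :)))

/-- Homomorphisms lift along nilpotent thickenings. -/
theorem exists_lift [Algebra.FormallySmooth R C] (hH : SGA3b.IsMultType R A) (I : Ideal R) (hI : IsNilpotent I)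
    (φ₀ : ((R ⧸ I) ⊗[R] C) →ₐc[R ⧸ I] ((R ⧸ I) ⊗[R] A)) :
    ∃ φ : C →ₐc[R] A, ∀ c : C, φ₀ ((1 : R ⧸ I) ⊗ₜ[R] c) = (1 : R ⧸ I) ⊗ₜ[R] (φ c) := by
  obtain ⟨j, h1, hj⟩ := exists_integral hH
  let π : A →ₐ[R] (R ⧸ I) ⊗[R] A := Algebra.TensorProduct.includeRight
  have hπ : Function.Surjective π := fun y => by
    induction y using TensorProduct.induction_on with
    | zero => exact ⟨0, map_zero _⟩
    | add x y hx hy =>
      obtain ⟨a, rfl⟩ := hx
      obtain ⟨b, rfl⟩ := hy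
      exact ⟨a + b, map_add _ _ _⟩
    | tmul t a =>
      obtain ⟨r, rfl⟩ := Ideal.Quotient.mk_surjective t
      refine ⟨r • a, ?_⟩
      change (1 : R ⧸ I) ⊗ₜ[R] (r • a) = _
      rw [tmul_smul, smul_tmul', Algebra.smul_def, _root_.mul_one]
      rfl
  have hker : ∀ {B : Type u} [CommRing B] [Algebra R B] {x y : B},
      (1 : R ⧸ I) ⊗ₜ[R] x = (1 : R ⧸ I) ⊗ₜ[R] y → x - y ∈ I.map (algebraMap R B) := fun h =>
    GrothLib.Hopf.mem_map_of_one_tmul_eq h
  have hnil : IsNilpotent (RingHom.ker (π : A →+* (R ⧸ I) ⊗[R] A)) := by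
    obtain ⟨n, hn⟩ := hI
    refine ⟨n, le_bot_iff.mp ((Ideal.pow_right_mono (J := I.map (algebraMap R A)) (fun x hx => ?_) n).trans ?_)⟩
    · have := hker (x := x) (y := 0) ((RingHom.mem_ker.mp hx).trans (tmul_zero A (1 : R ⧸ I)).symm)
      rwa [sub_zero] at this
    · rw [← Ideal.map_pow, hn, show Ideal.map (algebraMap R A) (0 : Ideal R) = ⊥ from Ideal.map_bot]
  let f : C →ₐ[R] (R ⧸ I) ⊗[R] A :=
    ((φ₀ : (R ⧸ I) ⊗[R] C →ₐ[R ⧸ I] (R ⧸ I) ⊗[R] A).restrictScalars R).comp Algebra.TensorProduct.includeRight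
  let φ := Algebra.FormallySmooth.liftOfSurjective f π hπ hnil
  have hφ : ∀ c, (1 : R ⧸ I) ⊗ₜ[R] φ c = φ₀ ((1 : R ⧸ I) ⊗ₜ[R] c) := fun c =>
    Algebra.FormallySmooth.liftOfSurjective_apply f π hπ hnil c
  have hdiff : pu (p₁ R A) (pt φ) * pu (p₂ R A) (pt φ) - pu (mm R A) (pt φ) ∈
      Z (I.map (algebraMap R (A ⊗[R] A))) := fun c => by
    rw [WithConv.ofConv_sub, LinearMap.sub_apply, pu_p₁_mul_pu_p₂, pu_apply, pt_apply]
    refine hker ?_
    have hc := CoalgHomClass.map_comp_comul_apply φ₀ ((1 : R ⧸ I) ⊗ₜ[R] c)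
    rw [← hφ, MultLocal.comul_one_tmul, MultLocal.comul_one_tmul] at hc
    have hz : ∀ z : C ⊗[R] C, TensorProduct.map (φ₀ : (R ⧸ I) ⊗[R] C →ₗ[R ⧸ I] (R ⧸ I) ⊗[R] A)
        (φ₀ : (R ⧸ I) ⊗[R] C →ₗ[R ⧸ I] (R ⧸ I) ⊗[R] A) (MultLocal.sqMap R C (R ⧸ I) z) =
          MultLocal.sqMap R A (R ⧸ I) (Algebra.TensorProduct.map φ φ z) := fun z => by
      induction z using TensorProduct.induction_on with
      | zero => simp [MultLocal.sqMap]
      | add x y hx hy => simp only [MultLocal.sqMap, tmul_add, map_add] at hx hy ⊢; rw [hx, hy]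
      | tmul x y =>
        rw [MultLocal.sqMap_tmul, TensorProduct.map_tmul, Algebra.TensorProduct.map_tmul, MultLocal.sqMap_tmul, hφ, hφ]
        rfl
    rw [hz] at hc
    have hinv : ∀ z : A ⊗[R] A, MultLocal.sqInv R A (R ⧸ I) (MultLocal.sqMap R A (R ⧸ I) z) = (1 : R ⧸ I) ⊗ₜ z :=
      fun z => by
        induction z using TensorProduct.induction_on with
        | zero => simp [MultLocal.sqMap]
        | tmul a b => rw [MultLocal.sqMap_tmul, MultLocal.sqInv_tmul, _root_.mul_one]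
        | add u v hu hv => simp only [MultLocal.sqMap, tmul_add, map_add] at hu hv ⊢; rw [hu, hv]
    have h := congrArg (MultLocal.sqInv R A (R ⧸ I)) hc
    rw [hinv, hinv] at h
    exact h
  have hd : defect φ - 1 ∈ Z (I.map (algebraMap R (A ⊗[R] A))) := by
    have : defect φ - 1 = (pu (p₁ R A) (pt φ) * pu (p₂ R A) (pt φ) - pu (mm R A) (pt φ)) *
        pu (mm R A) (ptInv φ) := by
      rw [sub_mul, ← map_mul (pu (mm R A)), mul_ptInv, map_one]
      rfl
    rw [this]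
    exact mul_mem_Z_right hdiff _
  obtain ⟨φ', hd', hz⟩ := exists_defect_zero j h1 (fun a => hj a) hI φ hd
  obtain ⟨ψ, hψ⟩ := exists_bialgHom_of_defect φ' hz
  refine ⟨ψ, fun c => ?_⟩
  rw [← hφ, hψ]
  have hm : φ c - φ' c ∈ I.map (algebraMap R A) := by
    have := Ideal.neg_mem_iff _ |>.mpr (hd' c)
    rwa [WithConv.ofConv_sub, LinearMap.sub_apply, neg_sub] at this
  have hz : π (φ c - φ' c) = 0 := by
    have h2 := Ideal.mem_map_of_mem (π : A →+* (R ⧸ I) ⊗[R] A) hm
    rw [Ideal.map_map, AlgHom.comp_algebraMap, IsScalarTower.algebraMap_eq R (R ⧸ I) ((R ⧸ I) ⊗[R] A), ← Ideal.map_map,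
      Ideal.Quotient.algebraMap_eq, Ideal.map_quotient_self, Ideal.map_bot, Ideal.mem_bot] at h2
    exact h2
  rw [map_sub, sub_eq_zero] at hz
  exact hz

end GrothLib.MultLift
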